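/-
Helper49 library: a finite `p`-group, `p` odd, without elementary abelian subgroups of order `p²`
(`Cfsg.PRankLE p 1`) is cyclic.  Also the power formula `(g h)^n = g^n h^n c^(n(n-1)/2)` in class 2.
Everything lives in `namespace Cfsg.Agent.Helper49`.
-/
import Mathlib.GroupTheory.Sylow
import Mathlib.GroupTheory.IndexNormal
import Mathlib.GroupTheory.SpecificGroups.Cyclic.Basic
import Mathlib.Algebra.BigOperators.Intervals
import Cfsg.Prelude.Def_CaseTheorems

set_option autoImplicit false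

namespace Cfsg.Agent.Helper49

open Cfsg

universe u

section class2

variable {H : Type*} [Group H]

/-- `hⁿ g = g hⁿ cⁿ` when `h g = g h c` with `c` commuting with `g` and `h`. -/
theorem pow_mul_comm_of_central {g h c : H} (hc : h * g = g * h * c) (hch : Commute c h) (n : ℕ) :
    h ^ n * g = g * h ^ n * c ^ n := by
  induction n with
  | zero => simp
  | succ n ih =>
    calc h ^ (n + 1) * g = h * (h ^ n * g) := by rw [pow_succ']; group
      _ = h * (g * h ^ n * c ^ n) := by rw [ih]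
      _ = (h * g) * h ^ n * c ^ n := by group
      _ = g * h * c * h ^ n * c ^ n := by rw [hc]
      _ = g * h * (c * h ^ n) * c ^ n := by group
      _ = g * h * (h ^ n * c) * c ^ n := by rw [(hch.pow_right n).eq]
      _ = g * h ^ (n + 1) * c ^ (n + 1) := by rw [pow_succ' h, pow_succ' c]; group

/-- `(g h)ⁿ = gⁿ hⁿ c^(0 + 1 + ⋯ + (n-1))` when `h g = g h c` with `c` commuting with `g` and `h`. -/
theorem mul_pow_of_central {g h c : H} (hc : h * g = g * h * c) (hcg : Commute c g)
    (hch : Commute c h) (n : ℕ) :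
    (g * h) ^ n = g ^ n * h ^ n * c ^ (∑ i ∈ Finset.range n, i) := by
  induction n with
  | zero => simp
  | succ n ih =>
    rw [pow_succ, ih, Finset.sum_range_succ]
    have h1 := pow_mul_comm_of_central hc hch n
    have hcT : Commute (c ^ (∑ i ∈ Finset.range n, i)) g := hcg.pow_left _
    have hcT' : Commute (c ^ (∑ i ∈ Finset.range n, i)) h := hch.pow_left _
    calc g ^ n * h ^ n * c ^ (∑ i ∈ Finset.range n, i) * (g * h)
        = g ^ n * h ^ n * (c ^ (∑ i ∈ Finset.range n, i) * g) * h := by group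
      _ = g ^ n * h ^ n * (g * c ^ (∑ i ∈ Finset.range n, i)) * h := by rw [hcT.eq]
      _ = g ^ n * (h ^ n * g) * (c ^ (∑ i ∈ Finset.range n, i) * h) := by group
      _ = g ^ n * (g * h ^ n * c ^ n) * (h * c ^ (∑ i ∈ Finset.range n, i)) := by rw [h1, hcT'.eq]
      _ = g ^ n * g * h ^ n * (c ^ n * h) * c ^ (∑ i ∈ Finset.range n, i) := by group
      _ = g ^ n * g * h ^ n * (h * c ^ n) * c ^ (∑ i ∈ Finset.range n, i) := by
        rw [(hch.pow_left n).eq]
      _ = g ^ (n + 1) * h ^ (n + 1) * c ^ ((∑ i ∈ Finset.range n, i) + n) := by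
        rw [pow_succ g, pow_succ h, pow_add]; group

/-- For an odd prime `p`: `(g h)^p = g^p h^p` when `h g = g h c` with `c` central of order dividing `p`. -/
theorem mul_pow_prime_of_central {p : ℕ} (hp : p.Prime) (hodd : p ≠ 2) {g h c : H}
    (hc : h * g = g * h * c) (hcg : Commute c g) (hch : Commute c h) (hcp : c ^ p = 1) :
    (g * h) ^ p = g ^ p * h ^ p := by
  rw [mul_pow_of_central hc hcg hch p]
  have h2 : p ∣ ∑ i ∈ Finset.range p, i := by
    have h3 := Finset.sum_range_id_mul_two p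
    have h4 : p ∣ (∑ i ∈ Finset.range p, i) * 2 := by rw [h3]; exact dvd_mul_right p (p - 1)
    have h5 : Nat.Coprime p 2 := by
      rw [Nat.Prime.coprime_iff_not_dvd hp]
      intro h6
      exact hodd ((Nat.prime_dvd_prime_iff_eq hp Nat.prime_two).mp h6)
    exact h5.dvd_of_dvd_mul_right h4
  obtain ⟨k, hk⟩ := h2
  rw [hk, pow_mul, hcp, one_pow, mul_one]

end class2

theorem pRankLE_subgroup {p k : ℕ} {H : Type*} [Group H] (h : PRankLE p k H) (Q : Subgroup H) :
    PRankLE p k ↥Q := by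
  intro A hA hAp
  have h1 := h (A.map Q.subtype) inferInstance (by
    rintro _ ⟨a, ha, rfl⟩
    have h2 := hAp a ha
    rw [Subgroup.subtype_apply, ← Subgroup.coe_pow, h2, Subgroup.coe_one])
  rwa [Subgroup.card_map_of_injective Q.subtype_injective] at h1

theorem isCyclic_of_pRankLE_one_aux {p : ℕ} [Fact p.Prime] (hodd : p ≠ 2) :
    ∀ n : ℕ, ∀ (H : Type u) [Group H] [Finite H], Nat.card H = n → IsPGroup p H →
      PRankLE p 1 H → IsCyclic H := by
  intro n
  induction n using Nat.strong_induction_on with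
  | _ n ih =>
  intro H _ _ hn hP hrk
  by_contra hnc
  have hp : p.Prime := Fact.out
  -- proper subgroups are cyclic
  have hsub : ∀ Q : Subgroup H, Q ≠ ⊤ → IsCyclic ↥Q := by
    intro Q hQ
    have hlt : Nat.card Q < n := by
      rw [← hn]
      exact lt_of_le_of_ne (Subgroup.card_le_card_group Q)
        (fun h => hQ (Subgroup.eq_top_of_card_eq Q h))
    exact ih _ hlt ↥Q rfl (hP.to_subgroup Q) (pRankLE_subgroup hrk Q)
  -- abelian subgroups of exponent `p` have order at most `p`
  have hrk' : ∀ A : Subgroup H, (∀ a ∈ A, ∀ b ∈ A, a * b = b * a) → (∀ a ∈ A, a ^ p = 1) →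
      Nat.card A ≤ p := by
    intro A hA hAp
    have h1 := hrk A (isMulCommutative_iff.mpr (fun a b => Subtype.ext (hA a a.2 b b.2))) hAp
    simpa using h1
  obtain ⟨m, hm⟩ := IsPGroup.iff_card.mp hP
  have hm0 : m ≠ 0 := by
    rintro rfl
    rw [pow_zero] at hm
    have : Subsingleton H := (Nat.card_eq_one_iff_unique.mp hm).1
    exact hnc inferInstance
  obtain ⟨k, rfl⟩ := Nat.exists_eq_succ_of_ne_zero hm0
  have hdvd : p ^ k ∣ Nat.card H := by rw [hm]; exact pow_dvd_pow p (Nat.le_succ k)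
  have hidx : ∀ L : Subgroup H, Nat.card L = p ^ k → L.index = p := by
    intro L hL
    have h1 := L.card_mul_index
    rw [hL, hm, pow_succ] at h1
    exact Nat.eq_of_mul_eq_mul_left (pow_pos hp.pos k) h1
  have hnorm : ∀ L : Subgroup H, L.index = p → L.Normal := by
    intro L hL
    apply Subgroup.normal_of_index_eq_minFac_card
    rw [hL, hm, Nat.pow_minFac (Nat.succ_ne_zero k), Nat.Prime.minFac_eq hp]
  have hnetop : ∀ L : Subgroup H, L.index = p → L ≠ ⊤ := by
    intro L hL h1
    rw [h1, Subgroup.index_top] at hL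
    exact hp.one_lt.ne hL
  obtain ⟨M, hM⟩ := Sylow.exists_subgroup_card_pow_prime p hdvd
  have hMidx := hidx M hM
  have hMn := hnorm M hMidx
  have hMtop := hnetop M hMidx
  obtain ⟨b, hb⟩ : ∃ b, b ∉ M := by
    by_contra hall
    push Not at hall
    exact hMtop (eq_top_iff.mpr fun g _ => hall g)
  have hbtop : Subgroup.zpowers b ≠ ⊤ :=
    fun h1 => hnc (isCyclic_iff_exists_zpowers_eq_top.mpr ⟨b, h1⟩)
  obtain ⟨n', hn'⟩ := IsPGroup.iff_card.mp (hP.to_subgroup (Subgroup.zpowers b))
  have hn'k : n' ≤ k := by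
    have hlt : Nat.card (Subgroup.zpowers b) < Nat.card H :=
      lt_of_le_of_ne (Subgroup.card_le_card_group _)
        (fun h => hbtop (Subgroup.eq_top_of_card_eq _ h))
    rw [hn', hm] at hlt
    exact Nat.lt_succ_iff.mp ((Nat.pow_lt_pow_iff_right hp.one_lt).mp hlt)
  obtain ⟨M', hM', hbM'⟩ :=
    Sylow.exists_subgroup_card_pow_prime_le p hdvd (Subgroup.zpowers b) hn' hn'k
  have hM'idx := hidx M' hM'
  have hM'n := hnorm M' hM'idx
  have hM'top := hnetop M' hM'idx
  have hne : M ≠ M' := fun h1 => hb (h1 ▸ hbM' (Subgroup.mem_zpowers b))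
  have hMc := hsub M hMtop
  have hM'c := hsub M' hM'top
  have hMcomm : ∀ a ∈ M, ∀ b ∈ M, a * b = b * a := fun a ha b hb =>
    congrArg Subtype.val (mul_comm' (⟨a, ha⟩ : ↥M) ⟨b, hb⟩)
  have hM'comm : ∀ a ∈ M', ∀ b ∈ M', a * b = b * a := fun a ha b hb =>
    congrArg Subtype.val (mul_comm' (⟨a, ha⟩ : ↥M') ⟨b, hb⟩)
  have hsup : M ⊔ M' = ⊤ := by
    rw [← Subgroup.index_eq_one]
    have h1 : (M ⊔ M').index ∣ p := hMidx ▸ Subgroup.index_dvd_of_le le_sup_left
    rcases (Nat.dvd_prime hp).mp h1 with h2 | h2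
    · exact h2
    · exfalso
      have h3 : Nat.card (M ⊔ M' : Subgroup H) = Nat.card M := by
        have e1 := (M ⊔ M').card_mul_index
        have e2 := M.card_mul_index
        rw [h2] at e1; rw [hMidx] at e2
        exact Nat.eq_of_mul_eq_mul_right hp.pos (e1.trans e2.symm)
      have h4 : M = M ⊔ M' := Subgroup.eq_of_le_of_card_ge le_sup_left h3.le
      have h5 : M' ≤ M := by rw [h4]; exact le_sup_right
      have h6 : M' = M := Subgroup.eq_of_le_of_card_ge h5 (by rw [hM, hM'])
      exact hne h6.symm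
  have hcentral : ∀ z ∈ M ⊓ M', ∀ g : H, z * g = g * z := by
    intro z hz g
    have hle : M ⊔ M' ≤ Subgroup.centralizer ({z} : Set H) := by
      apply sup_le
      · intro a ha; rw [Subgroup.mem_centralizer_singleton_iff]; exact hMcomm a ha z hz.1
      · intro a ha; rw [Subgroup.mem_centralizer_singleton_iff]; exact hM'comm a ha z hz.2
    have hg : g ∈ Subgroup.centralizer ({z} : Set H) := hle (by rw [hsup]; exact Subgroup.mem_top g)
    exact (Subgroup.mem_centralizer_singleton_iff.mp hg).symm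
  have hpow : ∀ g : H, g ^ p ∈ M ⊓ M' := fun g =>
    ⟨hMidx ▸ M.pow_index_mem g, hM'idx ▸ M'.pow_index_mem g⟩
  have hcommM : ∀ (L : Subgroup H) [L.Normal], L.index = p → ∀ g h : H, h⁻¹ * g⁻¹ * h * g ∈ L := by
    intro L _ hL g h
    have hcyc : IsCyclic (H ⧸ L) :=
      isCyclic_of_prime_card (p := p) (by rw [← Subgroup.index_eq_card]; exact hL)
    rw [← QuotientGroup.eq_one_iff]
    have e := mul_comm' (QuotientGroup.mk h : H ⧸ L) (QuotientGroup.mk g)
    calc ((h⁻¹ * g⁻¹ * h * g : H) : H ⧸ L)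
        = (QuotientGroup.mk h : H ⧸ L)⁻¹ * (QuotientGroup.mk g)⁻¹ *
            (QuotientGroup.mk h * QuotientGroup.mk g) := by
          simp only [QuotientGroup.mk_mul, QuotientGroup.mk_inv]; group
      _ = (QuotientGroup.mk h : H ⧸ L)⁻¹ * (QuotientGroup.mk g)⁻¹ *
            (QuotientGroup.mk g * QuotientGroup.mk h) := by rw [e]
      _ = 1 := by group
  have hmulpow : ∀ g h : H, (g * h) ^ p = g ^ p * h ^ p := by
    intro g h
    have hcZ : h⁻¹ * g⁻¹ * h * g ∈ M ⊓ M' := ⟨hcommM M hMidx g h, hcommM M' hM'idx g h⟩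
    have hc1 : h * g = g * h * (h⁻¹ * g⁻¹ * h * g) := by group
    have hcg : Commute (h⁻¹ * g⁻¹ * h * g) g := hcentral _ hcZ g
    have hch : Commute (h⁻¹ * g⁻¹ * h * g) h := hcentral _ hcZ h
    have hcp : (h⁻¹ * g⁻¹ * h * g) ^ p = 1 := by
      have h1 := pow_mul_comm_of_central hc1 hch p
      have h2 : h ^ p * g = g * h ^ p := hcentral _ (hpow h) g
      rw [h2] at h1
      exact mul_eq_left.mp h1.symm
    exact mul_pow_prime_of_central hp hodd hc1 hcg hch hcp
  let φ : H →* H := { toFun := fun g => g ^ p, map_one' := one_pow p, map_mul' := hmulpow }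
  have hker : ∀ g ∈ φ.ker, g ^ p = 1 := fun g hg => hg
  have hrange : φ.range ≤ M ⊓ M' := by
    rintro _ ⟨g, rfl⟩; exact hpow g
  have hcard : Nat.card φ.ker * Nat.card φ.range = Nat.card H := by
    rw [← Subgroup.index_ker]; exact φ.ker.card_mul_index
  have hlt : Nat.card (M ⊓ M' : Subgroup H) < Nat.card M := by
    apply lt_of_le_of_ne (Subgroup.card_le_of_le inf_le_left)
    intro h1
    have h2 : M ⊓ M' = M := Subgroup.eq_of_le_of_card_ge inf_le_left h1.ge
    have h3 : M ≤ M' := by rw [← h2]; exact inf_le_right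
    exact hne (Subgroup.eq_of_le_of_card_ge h3 (by rw [hM, hM']))
  by_cases hK : φ.ker = ⊤
  · have hexp : ∀ g : H, g ^ p = 1 := fun g => hker g (by rw [hK]; exact Subgroup.mem_top g)
    have hMle : Nat.card M ≤ p := hrk' M hMcomm (fun a _ => hexp a)
    rw [hM] at hMle
    have hk1 : k ≤ 1 := by
      by_contra hk
      push Not at hk
      have h1 : p ^ 2 ≤ p ^ k := Nat.pow_le_pow_right hp.pos hk
      have h2 : p ^ 2 ≤ p := h1.trans hMle
      nlinarith [hp.two_le]
    interval_cases k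
    · exact hnc (isCyclic_of_prime_card (p := p) (by rw [hm]; simp))
    · have hcomm := IsPGroup.commutative_of_card_eq_prime_sq (p := p) hm
      have h1 := hrk' ⊤ (fun a _ b _ => hcomm a b) (fun a _ => hexp a)
      rw [Subgroup.card_top, hm] at h1
      nlinarith [hp.two_le]
  · have hKc := hsub φ.ker hK
    have hKle : Nat.card φ.ker ≤ p :=
      hrk' φ.ker (fun a ha b hb => congrArg Subtype.val (mul_comm' (⟨a, ha⟩ : φ.ker) ⟨b, hb⟩)) hker
    have h1 : Nat.card φ.range ≤ Nat.card (M ⊓ M' : Subgroup H) := Subgroup.card_le_of_le hrange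
    have h2 : Nat.card M * p = Nat.card H := by rw [← hMidx]; exact M.card_mul_index
    have h3 : Nat.card φ.ker * Nat.card φ.range ≤ p * Nat.card (M ⊓ M' : Subgroup H) :=
      Nat.mul_le_mul hKle h1
    have h4 : p * Nat.card (M ⊓ M' : Subgroup H) < p * Nat.card M :=
      Nat.mul_lt_mul_of_pos_left hlt hp.pos
    rw [hcard] at h3
    rw [mul_comm] at h2
    omega

/-- A finite `p`-group of `p`-rank at most `1`, `p` odd, is cyclic. -/
theorem isCyclic_of_pRankLE_one {p : ℕ} [Fact p.Prime] (hodd : p ≠ 2) {H : Type u} [Group H]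
    [Finite H] (hP : IsPGroup p H) (hrk : PRankLE p 1 H) : IsCyclic H :=
  isCyclic_of_pRankLE_one_aux hodd _ H rfl hP hrk

/-- Sylow `p`-subgroups of a finite group of `p`-rank at most `1`, `p` odd, are cyclic. -/
theorem isCyclic_sylow_of_pRankLE_one {p : ℕ} [Fact p.Prime] (hodd : p ≠ 2) {G : Type u} [Group G]
    [Finite G] (hrk : PRankLE p 1 G) (P : Sylow p G) : IsCyclic ↥(P : Subgroup G) :=
  isCyclic_of_pRankLE_one hodd P.isPGroup' (pRankLE_subgroup hrk _)

end Cfsg.Agent.Helper49
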