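import Cfsg.Agent.Helper49.BG107a
import Cfsg.Agent.Helper52.BG107

/-!
# Bender–Glauberman 10.7 (a), (b) from p-length one

`bg107a_main` and `bg107b_main` are the statements of `S1411` and `S1412` with the conclusion of
B&G 10.7(a) (`S1410`: every proper subgroup has `p`-length at most one) as a hypothesis `hpl`.
They use `Helper52.BG107.bg107_control` (`N_G(P)` controls strong fusion in `P`).
-/

set_option autoImplicit false

namespace Cfsg.Agent.Helper49

open Cfsg Subgroup
open scoped commutatorElement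

variable {G : Type*} [Group G]

theorem bg107_perfect (hG : IsMinSimpleOddOrder G) : commutator G = ⊤ := by
  have hsimple : IsSimpleGroup G := hG.2.1
  have hn : (commutator G).Normal := inferInstance
  rcases hn.eq_bot_or_eq_top with h | h
  · exfalso
    apply hG.2.2.1
    refine ⟨⟨fun a b => ?_⟩⟩
    have h1 : ⁅a, b⁆ ∈ commutator G := by
      rw [_root_.commutator_def]
      exact Subgroup.commutator_mem_commutator (Subgroup.mem_top a) (Subgroup.mem_top b)
    rw [h, Subgroup.mem_bot] at h1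
    exact commutatorElement_eq_one_iff_mul_comm.mp h1
  · exact h

theorem bg107_ctl [Finite G] (hG : IsMinSimpleOddOrder G) {p : ℕ} [Fact p.Prime]
    (hpl : ∀ H : Subgroup G, H ≠ ⊤ → PLengthLE p 1 H) (P : Sylow p G) :
    BG107Ctl (P : Subgroup G) :=
  fun A hA g hg => Cfsg.Agent.Helper52.BG107.bg107_control hG hpl P A hA g hg

/-- B&G 10.7(a) (`S1411`) from `p`-length one. -/
theorem bg107a_main [Finite G] (hG : IsMinSimpleOddOrder G) (p : ℕ) [Fact p.Prime]
    (hpl : ∀ H : Subgroup G, H ≠ ⊤ → PLengthLE p 1 H) (P : Sylow p G) (V : Subgroup G)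
    (hV : Cfsg.IsComplIn (P : Subgroup G) V (Subgroup.normalizer ((P : Subgroup G) : Set G))) :
    (P : Subgroup G) = ⁅(P : Subgroup G), V⁆ ∧
      (P : Subgroup G) ≤ ⁅Subgroup.normalizer ((P : Subgroup G) : Set G),
        Subgroup.normalizer ((P : Subgroup G) : Set G)⁆ :=
  bg107a_of_control (bg107_perfect hG) P (bg107_ctl hG hpl P) V hV

/-- B&G 10.7(b) (`S1412`) from `p`-length one. -/
theorem bg107b_main [Finite G] (hG : IsMinSimpleOddOrder G) (p : ℕ) [Fact p.Prime]
    (hpl : ∀ H : Subgroup G, H ≠ ⊤ → PLengthLE p 1 H) (P : Sylow p G)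
    (hr : Cfsg.PRankLE p 2 (P : Subgroup G)) :
    IsMulCommutative (P : Subgroup G) ∨ ∃ P₁ P₂ : Subgroup G, P₁ ⊔ P₂ = (P : Subgroup G) ∧
        (∀ a ∈ P₁, ∀ b ∈ P₂, a * b = b * a) ∧
        ¬ IsMulCommutative P₁ ∧ Nat.card P₁ = p ^ 3 ∧ Monoid.exponent P₁ = p ∧ IsCyclic P₂ ∧
        Subgroup.closure {x : G | x ∈ P₂ ∧ x ^ p = 1} = P₁ ⊓ Subgroup.centralizer (P₁ : Set G) :=
  bg107b_of_control hG.1 (bg107_perfect hG) P (bg107_ctl hG hpl P) hr

end Cfsg.Agent.Helper49
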