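/-
helper49: Bender–Glauberman, Lemma 12.15 (a), (b), (c): for `q ∈ σ(M)`, a nontrivial `q`-subgroup
`X` of `M` with `N_G(X) ≤ M* ≠ M` and a Sylow `q`-subgroup `S` of `M ∩ M*` containing `X`:
`M*` is not conjugate to `M`, `N_G(S) ≤ M`, and `S` is a Sylow `q`-subgroup of `M*`.
The conclusions of the Uniqueness Theorem (`BGUniq G` = S1403) and of B&G 12.13
(`BGNonab G` = S1422: nonabelian `p`-subgroups lie in a unique maximal subgroup) are hypotheses.
-/
import Cfsg.Agent.Helper22.BG10b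

set_option autoImplicit false

namespace Cfsg.Agent.Helper49

open Cfsg Subgroup Cfsg.Agent.Helper22 Cfsg.Agent.Helper23 Cfsg.Agent.Helper35
open scoped Pointwise

universe u

variable {G : Type u} [Group G] [Finite G]

/-- The conclusion of B&G 12.13 (= S1422), as a hypothesis on `G`. -/
def BGNonab (G : Type u) [Group G] : Prop :=
  ∀ (p : ℕ) [Fact p.Prime] (P : Subgroup G), IsPGroup p P → ¬ IsMulCommutative P →
    Cfsg.InUniqueMaximal P

omit [Finite G] in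
theorem bg1215_map_conj_of_mem {M : Subgroup G} {g : G} (hg : g ∈ M) :
    M.map (MulAut.conj g).toMonoidHom = M :=
  Subgroup.mem_normalizer_iff_map_conj_eq.mp (le_normalizer hg)

/-- (a): `M*` is not conjugate to `M`. -/
theorem bg1215_not_conj (hG : IsMinSimpleOddOrder G) (hU : BGUniq G)
    {M : Subgroup G} (hM : IsCoatom M) {q : ℕ} [Fact q.Prime] (hq : q ∈ Cfsg.sigma M)
    {X : Subgroup G} (hXq : IsPGroup q X) (hX1 : X ≠ ⊥) (hXM : X ≤ M)
    {Ms : Subgroup G} (hne : Ms ≠ M) (hNX : normalizer (X : Set G) ≤ Ms) :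
    ∀ g : G, Ms ≠ M.map (MulAut.conj g).toMonoidHom := by
  intro g hg
  have hfus := (bg10_sigma_fusion hG hU hM hq hXq hX1 hXM).1
  have hXMs : X ≤ Ms := le_normalizer.trans hNX
  have h1 : X.map (MulAut.conj g⁻¹).toMonoidHom ≤ M := by
    rintro _ ⟨x, hx, rfl⟩
    have h2 : x ∈ M.map (MulAut.conj g).toMonoidHom := hg ▸ hXMs hx
    obtain ⟨m, hm, e⟩ := h2
    have e' : g * m * g⁻¹ = x := by simpa using e
    show g⁻¹ * x * g⁻¹⁻¹ ∈ M
    rw [← e']
    have e2 : g⁻¹ * (g * m * g⁻¹) * g⁻¹⁻¹ = m := by group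
    rw [e2]; exact hm
  obtain ⟨m, hm, c, hc, e⟩ := hfus g⁻¹ h1
  have hcMs : c ∈ Ms := hNX (centralizer_le_normalizer _ hc)
  rw [hg] at hcMs
  obtain ⟨m', hm', e'⟩ := hcMs
  have e1 : g * m' * g⁻¹ = c := by simpa using e'
  have hgeq : g = c⁻¹ * m⁻¹ := by
    have : g = (g⁻¹)⁻¹ := (inv_inv g).symm
    rw [this, e]; group
  have hcM : c ∈ M := by
    have e2 : c = m⁻¹ * m' * m := by
      have h3 : c⁻¹ * m⁻¹ * m' * (c⁻¹ * m⁻¹)⁻¹ = c := by rw [← hgeq]; exact e1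
      have h4 : m⁻¹ * m' * m = c * (c⁻¹ * m⁻¹ * m' * (c⁻¹ * m⁻¹)⁻¹) * c⁻¹ := by group
      rw [h4, h3]; group
    rw [e2]; exact M.mul_mem (M.mul_mem (M.inv_mem hm) hm') hm
  have hgM : g ∈ M := by
    rw [hgeq]; exact M.mul_mem (M.inv_mem hcM) (M.inv_mem hm)
  exact hne (hg.trans (bg1215_map_conj_of_mem hgM))

/-- The key step for (c): a `q`-subgroup of `M*` containing `S` equals `S`. -/
theorem bg1215_max (hG : IsMinSimpleOddOrder G) (hU : BGUniq G)
    {M : Subgroup G} (hM : IsCoatom M) {q : ℕ} [Fact q.Prime] (hq : q ∈ Cfsg.sigma M)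
    {X : Subgroup G} (hX1 : X ≠ ⊥)
    {Ms : Subgroup G} (hNX : normalizer (X : Set G) ≤ Ms)
    {S : Subgroup G} (hS : IsSylowOf q S (M ⊓ Ms)) (hXS : X ≤ S)
    {T : Subgroup G} (hT : IsPGroup q T) (hTMs : T ≤ Ms) (hST : S ≤ T) : T = S := by
  have hSM : S ≤ M := hS.1.trans inf_le_left
  have hS1 : S ≠ ⊥ := fun h => hX1 (le_bot_iff.mp (h ▸ hXS))
  have hfus := (bg10_sigma_fusion hG hU hM hq hS.2.1 hS1 hSM).1
  obtain ⟨-, -, P₀, hP₀⟩ := hq
  have hQM := isSylowOf_map P₀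
  have hQtop : IsSylowOf q ((P₀ : Subgroup ↥M).map M.subtype) ⊤ :=
    hQM.of_normalizer_inf_le le_top (inf_le_left.trans hP₀)
  obtain ⟨h, hh⟩ := bg10_exists_conj_le hQtop hT
  have h1 : S.map (MulAut.conj h).toMonoidHom ≤ M := by
    rintro _ ⟨s, hs, rfl⟩
    exact hQM.1 (hh s (hST hs))
  obtain ⟨m, hm, c, hc, e⟩ := hfus h h1
  have hcMs : c ∈ Ms := by
    apply hNX
    apply centralizer_le_normalizer
    exact Subgroup.centralizer_le hXS hc
  have hT'M : MulAut.conj c • T ≤ M ⊓ Ms := by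
    intro y hy
    rw [mem_conj_smul] at hy
    have hyc : y = c * (c⁻¹ * y * c) * c⁻¹ := by group
    refine Subgroup.mem_inf.mpr ⟨?_, ?_⟩
    · have h2 : h * (c⁻¹ * y * c) * h⁻¹ ∈ M := hQM.1 (hh _ hy)
      rw [e] at h2
      have e3 : c * (c⁻¹ * y * c) * c⁻¹ = m⁻¹ * (m * c * (c⁻¹ * y * c) * (m * c)⁻¹) * m := by
        group
      rw [hyc, e3]
      exact M.mul_mem (M.mul_mem (M.inv_mem hm) h2) hm
    · rw [hyc]
      exact Ms.mul_mem (Ms.mul_mem hcMs (hTMs hy)) (Ms.inv_mem hcMs)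
  have hST' : S ≤ MulAut.conj c • T := by
    intro s hs
    rw [mem_conj_smul]
    have hcs : s * c = c * s := hc s hs
    have e4 : c⁻¹ * s * c = s := by
      rw [mul_assoc, hcs]; group
    rw [e4]; exact hST hs
  have h5 : MulAut.conj c • T = S :=
    hS.2.2 _ hT'M (bg10_isPGroup_conj hT) hST'
  have h6 : Nat.card T = Nat.card S := by rw [← h5, card_conj_smul]
  exact (Subgroup.eq_of_le_of_card_ge hST h6.le).symm

/-- **Bender–Glauberman 12.15 (a), (b), (c)**, internal form. -/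
theorem bg1215_main (hG : IsMinSimpleOddOrder G) (hU : BGUniq G) (hna : BGNonab G)
    {M : Subgroup G} (hM : IsCoatom M) {q : ℕ} [Fact q.Prime] (hq : q ∈ Cfsg.sigma M)
    {X : Subgroup G} (hXq : IsPGroup q X) (hX1 : X ≠ ⊥) (hXM : X ≤ M)
    {Ms : Subgroup G} (hne : Ms ≠ M) (hNX : normalizer (X : Set G) ≤ Ms)
    {S : Subgroup G} (hS : IsSylowOf q S (M ⊓ Ms)) (hXS : X ≤ S) :
    (∀ g : G, Ms ≠ M.map (MulAut.conj g).toMonoidHom) ∧ normalizer (S : Set G) ≤ M ∧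
      ¬ q ∣ S.relIndex Ms := by
  have hsimple := hG.2.1
  have hSM : S ≤ M := hS.1.trans inf_le_left
  have hSMs : S ≤ Ms := hS.1.trans inf_le_right
  have hS1 : S ≠ ⊥ := fun h => hX1 (le_bot_iff.mp (h ▸ hXS))
  have hS2 : S ≠ ⊤ := fun h => hM.1 (top_le_iff.mp (h ▸ hSM))
  have hmax := fun T hT hTMs hST => bg1215_max hG hU hM hq hX1 hNX hS hXS (T := T) hT hTMs hST
  refine ⟨bg1215_not_conj hG hU hM hq hXq hX1 hXM hne hNX, ?_, ?_⟩
  · -- (b)
    obtain ⟨-, -, P₀, hP₀⟩ := hq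
    have hQM := isSylowOf_map P₀
    obtain ⟨Q₁, hQ₁, hSQ₁⟩ := exists_isSylowOf_ge hS.2.1 hSM
    obtain ⟨h, hhM, rfl⟩ := bg10_sylow_conj hQM hQ₁
    have hNQ₁ : normalizer ((MulAut.conj h • (P₀ : Subgroup ↥M).map M.subtype : Subgroup G) : Set G)
        ≤ M := by
      intro n hn
      have h1 : h⁻¹ * n * h ∈ normalizer (((P₀ : Subgroup ↥M).map M.subtype : Subgroup G) : Set G) := by
        rw [mem_normalizer_iff_conj_smul_eq] at hn ⊢
        rw [← conj_smul_conj_smul, ← conj_smul_conj_smul, hn, conj_smul_conj_smul]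
        simp
      have h3 : h⁻¹ * n * h ∈ M := hP₀ h1
      have e : n = h * (h⁻¹ * n * h) * h⁻¹ := by group
      rw [e]; exact M.mul_mem (M.mul_mem hhM h3) (M.inv_mem hhM)
    set Q₁ := MulAut.conj h • (P₀ : Subgroup ↥M).map M.subtype with hQ₁def
    by_cases hSQ : S = Q₁
    · rw [hSQ]; exact hNQ₁
    · have hlt : S < Q₁ := lt_of_le_of_ne hSQ₁ hSQ
      obtain ⟨x, hxQ, hxN, hxS⟩ := exists_mem_normalizer_not_mem (Fact.out : q.Prime) hQ₁.2.1 hlt
      have hSQ1 : S ≤ Q₁ ⊓ normalizer (S : Set G) := le_inf hSQ₁ le_normalizer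
      have hQ1p : IsPGroup q ↥(Q₁ ⊓ normalizer (S : Set G)) := hQ₁.2.1.to_le inf_le_left
      by_cases hab : IsMulCommutative ↥(Q₁ ⊓ normalizer (S : Set G))
      · exfalso
        have h1 : Q₁ ⊓ normalizer (S : Set G) ≤ M ⊓ Ms := by
          intro y hy
          refine Subgroup.mem_inf.mpr ⟨hQ₁.1 (Subgroup.mem_inf.mp hy).1, ?_⟩
          apply hNX
          apply centralizer_le_normalizer
          apply Subgroup.centralizer_le hXS
          rw [Subgroup.mem_centralizer_iff]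
          intro s hs
          have h2 := hab.is_comm.comm (⟨s, hSQ1 hs⟩ : ↥(Q₁ ⊓ normalizer (S : Set G))) ⟨y, hy⟩
          exact congrArg Subtype.val h2
        have h3 := hS.2.2 _ h1 hQ1p hSQ1
        exact hxS (h3 ▸ Subgroup.mem_inf.mpr ⟨hxQ, hxN⟩)
      · obtain ⟨L₀, -, huniq⟩ := hna q _ hQ1p hab
        obtain ⟨L, hL, hNL⟩ := uq_exists_coatom_ge (normalizer_ne_top_of_simple hS1 hS2)
        have e1 : L = L₀ := huniq L ⟨hL, inf_le_right.trans hNL⟩
        have e2 : M = L₀ := huniq M ⟨hM, inf_le_left.trans hQ₁.1⟩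
        rw [e2, ← e1]; exact hNL
  · -- (c)
    obtain ⟨T, hT, hST⟩ := exists_isSylowOf_ge hS.2.1 hSMs
    have hTS : T = S := hmax T hT.2.1 hT.1 hST
    rw [hTS] at hT
    obtain ⟨P, hP⟩ := hT.exists_sylow
    have h1 : S.relIndex Ms = (S.subgroupOf Ms).index := rfl
    rw [h1]
    exact bg10_not_dvd_index_of_sylow_le P hP.le

end Cfsg.Agent.Helper49
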