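/-
helper49: Bender–Glauberman, Lemma 12.16: every nontrivial `σ(M)`-subgroup `Y` of `G` is
conjugate into `M_σ`.  Hypotheses (to be discharged in the statement file): the Uniqueness Theorem
(`BGUniq G` = S1403), B&G 12.13 (`BGNonab G` = S1422), B&G 12.4(a) (`BGCent2 G`, from S1416) and
B&G 12.5(a),(c) (`BGTau2 G`, from S1417).
-/
import Cfsg.Agent.Helper49.BG1215
import Cfsg.Agent.Helper22.BG11a
import Cfsg.Agent.Helper22.BG10e
import Cfsg.Agent.Helper23.BG12b
import Cfsg.Agent.Helper1.Hall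
import Cfsg.Agent.Helper1.CNSolv
import Cfsg.Agent.Helper35.HallCoprime
import Cfsg.Agent.Helper51.Replace

set_option autoImplicit false

namespace Cfsg.Agent.Helper49

open Cfsg Subgroup Cfsg.Agent.Helper22 Cfsg.Agent.Helper23 Cfsg.Agent.Helper35
open scoped Pointwise

universe u

/-! ### Two general lemmas on finite (solvable) groups -/

/-- **Hall**: in a finite solvable group, a subgroup `Y` whose order is coprime to the index of
`T` is conjugate into `T`. -/
theorem bg1216_hall_conj {L : Type u} [Group L] [Finite L] [Group.IsSolvable L] (T Y : Subgroup L)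
    (hcop : (Nat.card Y).Coprime T.index) : ∃ l : L, Y ≤ MulAut.conj l • T := by
  obtain ⟨m, n, hN, hmn, hm, hn⟩ :=
    exists_pi_factorization {p | p ∣ Nat.card Y} (Nat.card L) Nat.card_pos.ne'
  have hYn : (Nat.card Y).Coprime n := by
    by_contra h
    obtain ⟨p, hp, h1, h2⟩ := Nat.Prime.not_coprime_iff_dvd.mp h
    exact hn p hp h1 h2
  have hmT : m.Coprime T.index := by
    by_contra h
    obtain ⟨p, hp, h1, h2⟩ := Nat.Prime.not_coprime_iff_dvd.mp h
    have h3 : p ∣ Nat.card Y := hm p hp h1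
    exact (Nat.Prime.not_coprime_iff_dvd.mpr ⟨p, hp, h3, h2⟩) hcop
  have hmdvd : m ∣ Nat.card T := by
    have h1 : m ∣ Nat.card T * T.index := by
      rw [Subgroup.card_mul_index, hN]; exact dvd_mul_right m n
    exact hmT.dvd_of_dvd_mul_right h1
  obtain ⟨n', hn'⟩ := hmdvd
  have hmpos : 0 < m := by
    rcases Nat.eq_zero_or_pos m with h | h
    · rw [h, zero_mul] at hN
      exact absurd hN Nat.card_pos.ne'
    · exact h
  have hn'n : n' ∣ n := by
    have h1 : m * (n' * T.index) = m * n := by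
      rw [← mul_assoc, ← hn', Subgroup.card_mul_index, hN]
    exact Dvd.intro _ (Nat.eq_of_mul_eq_mul_left hmpos h1)
  have hmn' : m.Coprime n' := Nat.Coprime.coprime_dvd_right hn'n hmn
  obtain ⟨H₀, hH₀⟩ := Helper1.hall_exists_aux (Nat.card T) ↥T m n' rfl hn' hmn'
  have hH : Nat.card (H₀.map T.subtype) = m := by
    rw [Subgroup.card_subtype]; exact hH₀
  obtain ⟨H', hH', hYH'⟩ := Helper1.hall_le_aux (Nat.card L) L m n rfl hN hmn Y hYn
  obtain ⟨g, hg⟩ := Helper1.hall_conj_aux (Nat.card L) L m n rfl hN hmn _ H' hH hH'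
  refine ⟨g, hYH'.trans ?_⟩
  rw [← hg]
  exact conj_smul_le_conj_smul (Subgroup.map_subtype_le H₀)

/-- **Frattini**: if `P` is a Sylow `q`-subgroup of the normal subgroup `W`, then the index of
`N(P)` divides `|W : P|`. -/
theorem bg1216_frattini_index {L : Type u} [Group L] [Finite L] {q : ℕ} [Fact q.Prime]
    (W : Subgroup L) [W.Normal] {P : Subgroup L} (hP : IsPGroup q P) (hPW : P ≤ W)
    (hq : ¬ q ∣ P.relIndex W) : (normalizer (P : Set L)).index ∣ P.relIndex W := by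
  have hP' : IsPGroup q (P.subgroupOf W) := hP.comap_subtype
  have hfr := Sylow.normalizer_sup_eq_top (hP'.toSylow hq)
  have hco : ((hP'.toSylow hq : Sylow q ↥W) : Subgroup ↥W) = P.subgroupOf W := rfl
  rw [hco, Subgroup.map_subgroupOf_eq_of_le hPW] at hfr
  have hTW : normalizer (P : Set L) ≤ normalizer (W : Set L) := by
    have hWt : normalizer (W : Set L) = ⊤ := Subgroup.normalizer_eq_top W
    rw [hWt]; exact le_top
  have h1 := Helper51.card_sup_mul_card_inf_of_le_normalizer (normalizer (P : Set L)) W hTW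
  rw [hfr, Subgroup.card_top] at h1
  have h2 : Nat.card ↥(normalizer (P : Set L) ⊓ W) * (normalizer (P : Set L) ⊓ W).relIndex W =
      Nat.card W := card_mul_relIndex_of_le inf_le_right
  have h3 : Nat.card ↥(normalizer (P : Set L)) * (normalizer (P : Set L)).index = Nat.card L :=
    Subgroup.card_mul_index _
  have h4 : (normalizer (P : Set L)).index = (normalizer (P : Set L) ⊓ W).relIndex W := by
    have h5 : Nat.card ↥(normalizer (P : Set L)) * Nat.card ↥(normalizer (P : Set L) ⊓ W) *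
        (normalizer (P : Set L)).index =
        Nat.card ↥(normalizer (P : Set L)) * Nat.card ↥(normalizer (P : Set L) ⊓ W) *
          (normalizer (P : Set L) ⊓ W).relIndex W := by
      calc Nat.card ↥(normalizer (P : Set L)) * Nat.card ↥(normalizer (P : Set L) ⊓ W) *
            (normalizer (P : Set L)).index
          = (Nat.card ↥(normalizer (P : Set L)) * (normalizer (P : Set L)).index) *
              Nat.card ↥(normalizer (P : Set L) ⊓ W) := by ring
        _ = Nat.card ↥(normalizer (P : Set L)) * Nat.card W := by rw [h3, h1]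
        _ = _ := by rw [← h2]; ring
    exact Nat.eq_of_mul_eq_mul_left (Nat.mul_pos Nat.card_pos Nat.card_pos) h5
  rw [h4]
  exact Subgroup.relIndex_dvd_of_le_left W (le_inf le_normalizer hPW)

variable {G : Type u} [Group G] [Finite G]

omit [Finite G] in
theorem bg1216_coe_mem_normalizer {L P : Subgroup G} (hPL : P ≤ L) {x : ↥L}
    (hx : x ∈ normalizer ((P.subgroupOf L : Subgroup ↥L) : Set ↥L)) :
    (x : G) ∈ normalizer (P : Set G) := by
  rw [← Subgroup.subgroupOf_normalizer_eq hPL] at hx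
  exact Subgroup.mem_subgroupOf.mp hx

/-- The two lemmas combined, inside a solvable subgroup `L` of `G`. -/
theorem bg1216_conj_into_normalizer {L W P Y : Subgroup G} (hLs : Group.IsSolvable L) {q : ℕ}
    [Fact q.Prime] (hWL : W ≤ L) (hLW : L ≤ normalizer (W : Set G)) (hP : IsPGroup q P)
    (hPW : P ≤ W) (hq : ¬ q ∣ P.relIndex W) (hYL : Y ≤ L)
    (hcop : (Nat.card Y).Coprime (P.relIndex W)) :
    ∃ l ∈ L, ∀ y ∈ Y, l * y * l⁻¹ ∈ normalizer (P : Set G) := by
  have hWn : (W.subgroupOf L).Normal := Subgroup.normal_subgroupOf_of_le_normalizer hLW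
  have hrel : (P.subgroupOf L).relIndex (W.subgroupOf L) = P.relIndex W :=
    Subgroup.relIndex_subgroupOf hWL
  have hF := bg1216_frattini_index (W.subgroupOf L) (P := P.subgroupOf L) hP.comap_subtype
    (fun x hx => Subgroup.mem_subgroupOf.mpr (hPW (Subgroup.mem_subgroupOf.mp hx)))
    (by rw [hrel]; exact hq)
  rw [hrel] at hF
  have hcop' : (Nat.card (Y.subgroupOf L)).Coprime
      (normalizer ((P.subgroupOf L : Subgroup ↥L) : Set ↥L)).index := by
    rw [Helper35.card_subgroupOf_of_le hYL]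
    exact Nat.Coprime.coprime_dvd_right hF hcop
  obtain ⟨l, hl⟩ := bg1216_hall_conj _ _ hcop'
  refine ⟨((l⁻¹ : ↥L) : G), (l⁻¹).2, ?_⟩
  intro y hy
  have h1 : (⟨y, hYL hy⟩ : ↥L) ∈ MulAut.conj l • normalizer ((P.subgroupOf L : Subgroup ↥L) : Set ↥L) :=
    hl (Subgroup.mem_subgroupOf.mpr hy)
  rw [mem_conj_smul] at h1
  have h2 := bg1216_coe_mem_normalizer (hPW.trans hWL) h1
  simpa using h2

/-! ### Hypotheses and small lemmas -/

/-- The first conclusion of B&G 12.4 (= S1416), as a hypothesis on `G`: the centralizer of an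
elementary abelian subgroup of order `p ^ 2` of a maximal subgroup `M` lies in `M`. -/
def BGCent2 (G : Type u) [Group G] : Prop :=
  ∀ (M : Subgroup G), IsCoatom M → ∀ (p : ℕ) [Fact p.Prime] (A : Subgroup G), A ≤ M →
    IsElementaryAbelian p A → Nat.card A = p ^ 2 → centralizer (A : Set G) ≤ M

/-- Parts (a) and (c) of B&G 12.5 (= S1417), as a hypothesis on `G`. -/
def BGTau2 (G : Type u) [Group G] : Prop :=
  ∀ (M : Subgroup G), IsCoatom M → ∀ (p : ℕ) [Fact p.Prime], p ∈ tau2 M → ∀ (A : Subgroup G),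
    A ≤ M → IsElementaryAbelian p A → Nat.card A = p ^ 2 →
      Group.IsNilpotent (sigmaCore M) ∧ M ≤ normalizer ((sigmaCore M ⊔ A : Subgroup G) : Set G)

/-- For `q ∈ σ(M)`, the normalizer of any Sylow `q`-subgroup of `M` lies in `M`. -/
theorem bg1216_sigma_normalizer_le {M : Subgroup G} {q : ℕ} [Fact q.Prime]
    (hq : q ∈ Cfsg.sigma M) {S : Subgroup G} (hS : IsSylowOf q S M) :
    normalizer (S : Set G) ≤ M := by
  obtain ⟨-, -, P₀, hP₀⟩ := hq
  have hQM := isSylowOf_map P₀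
  obtain ⟨h, hhM, rfl⟩ := bg10_sylow_conj hQM hS
  intro n hn
  have h1 : h⁻¹ * n * h ∈
      normalizer (((P₀ : Subgroup ↥M).map M.subtype : Subgroup G) : Set G) := by
    rw [mem_normalizer_iff_conj_smul_eq] at hn ⊢
    rw [← conj_smul_conj_smul, ← conj_smul_conj_smul, hn, conj_smul_conj_smul]
    simp
  have h3 : h⁻¹ * n * h ∈ M := hP₀ h1
  have e : n = h * (h⁻¹ * n * h) * h⁻¹ := by group
  rw [e]; exact M.mul_mem (M.mul_mem hhM h3) (M.inv_mem hhM)

/-- A `σ(M)`-subgroup of `M` lies in `M_σ`. -/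
theorem bg1216_le_sigmaCore (hG : IsMinSimpleOddOrder G) (hU : BGUniq G) {M : Subgroup G}
    (hM : IsCoatom M) {J : Subgroup G} (hJM : J ≤ M)
    (hJ : ∀ p : ℕ, p.Prime → p ∣ Nat.card J → p ∈ Cfsg.sigma M) : J ≤ sigmaCore M := by
  have hH := (bg10_sigma_hall hG hU hM).1
  have hN : M ≤ normalizer ((sigmaCore M : Subgroup G) : Set G) :=
    le_normalizer_piCoreOf (sigma M) M
  apply bg12_le_of_coprime_relIndex hH.1 hJM (hJM.trans hN)
  by_contra h
  obtain ⟨p, hp, h1, h2⟩ := Nat.Prime.not_coprime_iff_dvd.mp h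
  exact hH.2.2 p hp (hJ p hp h1) h2

/-- If `M*` is not conjugate to `M`, then `α(M*)` and `σ(M)` are disjoint. -/
theorem bg1216_alpha_disjoint (hU : BGUniq G) {M Ms : Subgroup G} (hM : IsCoatom M)
    (hMs : IsCoatom Ms) (hnc : ∀ g : G, Ms ≠ M.map (MulAut.conj g).toMonoidHom) {r : ℕ}
    (hr : r ∈ Cfsg.alpha Ms) : r ∉ Cfsg.sigma M := by
  intro hrs
  have : Fact r.Prime := ⟨hr.1⟩
  obtain ⟨-, -, P₀, hP₀⟩ := hrs
  have hRM := isSylowOf_map P₀
  have hRtop : IsSylowOf r ((P₀ : Subgroup ↥M).map M.subtype) ⊤ :=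
    hRM.of_normalizer_inf_le le_top (inf_le_left.trans hP₀)
  obtain ⟨T, hT, -⟩ := exists_isSylowOf_ge (p := r) (T := ⊥) (H := Ms) IsPGroup.of_bot bot_le
  have hTr : ¬ PRankLE r 2 ↥T := fun h => hr.2 (pRankLE_of_isSylowOf hT h)
  obtain ⟨h, hh⟩ := bg10_exists_conj_le hRtop hT.2.1
  have hTM' : T ≤ MulAut.conj h⁻¹ • M := by
    intro t ht
    rw [mem_conj_smul]
    have h1 := hRM.1 (hh t ht)
    simpa using h1
  have h2 := bg10_uniq_of_rank3 hU hr.1 hMs hT.1 hTr _ (isCoatom_conj_smul h⁻¹ hM) hTM'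
  exact hnc h⁻¹ (by rw [← smul_eq_map_conj]; exact h2.symm)

/-- If `M*_σ` is nilpotent and `M*` is not conjugate to `M`, then no prime divisor of `|M*_σ|`
lies in `σ(M)`. -/
theorem bg1216_sigma_disjoint (hG : IsMinSimpleOddOrder G) (hU : BGUniq G) {M Ms : Subgroup G}
    (hM : IsCoatom M) (hMs : IsCoatom Ms)
    (hnc : ∀ g : G, Ms ≠ M.map (MulAut.conj g).toMonoidHom)
    (hnil : Group.IsNilpotent (sigmaCore Ms)) {r : ℕ} (hr : r.Prime)
    (hrd : r ∣ Nat.card (sigmaCore Ms)) : r ∉ Cfsg.sigma M := by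
  intro hrs
  have : Fact r.Prime := ⟨hr⟩
  have hrMs : r ∈ Cfsg.sigma Ms := (bg10_sigma_hall hG hU hMs).1.2.1 r hr hrd
  obtain ⟨Q, hQ⟩ := sylowSet_nonempty (p := r) (sigmaCore Ms)
  obtain ⟨hQtop, -, -⟩ := bg11_sigma_sylow hG hU hMs hrMs hQ
  have hMsQ := bg11_sylow_normal hnil hQ
  obtain ⟨-, -, P₀, hP₀⟩ := hrs
  have hRM := isSylowOf_map P₀
  have hRtop : IsSylowOf r ((P₀ : Subgroup ↥M).map M.subtype) ⊤ :=
    hRM.of_normalizer_inf_le le_top (inf_le_left.trans hP₀)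
  obtain ⟨h, -, rfl⟩ := bg10_sylow_conj hRtop hQtop
  have hle : Ms ≤ MulAut.conj h • M := by
    intro x hx
    have hxn := hMsQ hx
    rw [mem_conj_smul]
    apply hP₀
    rw [mem_normalizer_iff_conj_smul_eq] at hxn ⊢
    rw [← conj_smul_conj_smul, ← conj_smul_conj_smul, hxn, conj_smul_conj_smul]
    simp
  have hne : MulAut.conj h • M ≠ ⊤ := (isCoatom_conj_smul h hM).1
  have h2 := uq_eq_of_coatom_le hMs hne hle
  exact hnc h (by rw [← smul_eq_map_conj]; exact h2.symm)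

omit [Finite G] in
theorem bg1216_elemAb_conj {p : ℕ} {E : Subgroup G} (hc : ∀ x ∈ E, ∀ y ∈ E, x * y = y * x)
    (he : ∀ x ∈ E, x ^ p = 1) (h : G) : IsElementaryAbelian p (MulAut.conj h • E) := by
  refine ⟨⟨⟨fun a b => Subtype.ext ?_⟩⟩, ?_⟩
  · have ha := mem_conj_smul.mp a.2
    have hb := mem_conj_smul.mp b.2
    have h1 := hc _ ha _ hb
    show (a : G) * b = b * a
    have e1 : (a : G) * b = h * ((h⁻¹ * a * h) * (h⁻¹ * b * h)) * h⁻¹ := by group
    have e2 : (b : G) * a = h * ((h⁻¹ * b * h) * (h⁻¹ * a * h)) * h⁻¹ := by group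
    rw [e1, e2, h1]
  · intro a ha
    have ha' := mem_conj_smul.mp ha
    have h1 := he _ ha'
    have e : a = h * (h⁻¹ * a * h) * h⁻¹ := by group
    rw [e, conj_pow, h1]; group

omit [Finite G] in
theorem bg1216_isPGroup_of_elemAb {p : ℕ} {X : Subgroup G} (hX : IsElementaryAbelian p X) :
    IsPGroup p X := fun g =>
  ⟨1, by rw [pow_one]; exact Subtype.ext (by simpa using hX.2 g g.2)⟩

/-- `N(A) ≤ M` for `A ≤ M` elementary abelian of order `q ^ 2`, `q ∈ σ(M)`. -/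
theorem bg1216_normalizer_le (hG : IsMinSimpleOddOrder G) (hU : BGUniq G) (hC : BGCent2 G)
    {M : Subgroup G} (hM : IsCoatom M) {q : ℕ} [Fact q.Prime] (hq : q ∈ Cfsg.sigma M)
    {A : Subgroup G} (hAM : A ≤ M) (hA : IsElementaryAbelian q A) (hAc : Nat.card A = q ^ 2) :
    normalizer (A : Set G) ≤ M := by
  have hAq : IsPGroup q A := IsPGroup.of_card hAc
  have hA1 : A ≠ ⊥ := by
    intro h
    rw [h, Subgroup.card_bot] at hAc
    have h2 := (Fact.out : q.Prime).one_lt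
    nlinarith
  have h := (bg10_sigma_fusion hG hU hM hq hAq hA1 hAM).2
  rw [h]
  exact sup_le inf_le_left (hC M hM q A hAM hA hAc)

/-- If `X ≤ M` is a nontrivial elementary abelian `q`-subgroup, `q ∈ σ(M)`, whose normalizer is not
contained in `M`, then `|X| = q`. -/
theorem bg1216_card_eq (hG : IsMinSimpleOddOrder G) (hU : BGUniq G) (hC : BGCent2 G)
    {M : Subgroup G} (hM : IsCoatom M) {q : ℕ} [Fact q.Prime] (hq : q ∈ Cfsg.sigma M)
    {X : Subgroup G} (hX : IsElementaryAbelian q X) (hX1 : X ≠ ⊥) (hXM : X ≤ M)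
    (hN : ¬ normalizer (X : Set G) ≤ M) : Nat.card X = q := by
  have hqp : q.Prime := Fact.out
  have hXq : IsPGroup q X := bg1216_isPGroup_of_elemAb hX
  by_contra hc
  apply hN
  have hr : ¬ PRankLE q 1 ↥X := by
    intro h
    have hcomm : IsMulCommutative ↥(⊤ : Subgroup ↥X) :=
      ⟨⟨fun a b => Subtype.ext (hX.1.is_comm.comm a.1 b.1)⟩⟩
    have h1 := h ⊤ hcomm (fun a _ => Subtype.ext (by simpa using hX.2 a a.2))
    rw [Subgroup.card_top, pow_one] at h1
    obtain ⟨n, hn⟩ := IsPGroup.iff_card.mp hXq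
    have hn0 : n ≠ 0 := by
      rintro rfl
      rw [pow_zero] at hn
      exact hX1 (Subgroup.card_eq_one.mp hn)
    have h2 : q ≤ Nat.card X := Nat.le_of_dvd Nat.card_pos (hn ▸ dvd_pow_self q hn0)
    exact hc (le_antisymm h1 h2)
  obtain ⟨E, hEX, hEc, hEe, hEcard⟩ := bg10_exists_elemAb_sq hqp hr
  have hE : IsElementaryAbelian q E :=
    ⟨⟨⟨fun a b => Subtype.ext (hEc a a.2 b b.2)⟩⟩, hEe⟩
  have hCE := hC M hM q E (hEX.trans hXM) hE hEcard
  have h := (bg10_sigma_fusion hG hU hM hq hXq hX1 hXM).2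
  rw [h]
  exact sup_le inf_le_left ((Subgroup.centralizer_le hEX).trans hCE)

/-! ### The core of 12.16 -/

/-- Core of B&G 12.16: if `Y` normalizes a nontrivial elementary abelian `q`-subgroup `X ≤ M` with
`q ∈ σ(M)` and `Y` is a `σ(M)`-group, then `Y` is conjugate into `M`. -/
theorem bg1216_core (hG : IsMinSimpleOddOrder G) (hU : BGUniq G) (hna : BGNonab G)
    (hC : BGCent2 G) (hT : BGTau2 G) {M : Subgroup G} (hM : IsCoatom M) {q : ℕ} [Fact q.Prime]
    (hq : q ∈ Cfsg.sigma M) {X : Subgroup G} (hX : IsElementaryAbelian q X) (hX1 : X ≠ ⊥)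
    (hXM : X ≤ M) {Y : Subgroup G} (hYX : Y ≤ normalizer (X : Set G))
    (hY : ∀ p : ℕ, p.Prime → p ∣ Nat.card Y → p ∈ Cfsg.sigma M) :
    ∃ g : G, ∀ y ∈ Y, g * y * g⁻¹ ∈ M := by
  by_cases hN : normalizer (X : Set G) ≤ M
  · exact ⟨1, fun y hy => by simpa using hN (hYX hy)⟩
  have hsimple := hG.2.1
  have hqp : q.Prime := Fact.out
  have hXq : IsPGroup q X := bg1216_isPGroup_of_elemAb hX
  have hXc : Nat.card X = q := bg1216_card_eq hG hU hC hM hq hX hX1 hXM hN
  have hX2 : X ≠ ⊤ := fun h => hM.1 (top_le_iff.mp (h ▸ hXM))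
  obtain ⟨Ms, hMs, hNX⟩ := uq_exists_coatom_ge (normalizer_ne_top_of_simple hX1 hX2)
  have hne : Ms ≠ M := fun h => hN (h ▸ hNX)
  have hXMs : X ≤ Ms := le_normalizer.trans hNX
  obtain ⟨S, hS, hXS⟩ := exists_isSylowOf_ge hXq (le_inf hXM hXMs)
  obtain ⟨hnc, hNS, hqS⟩ := bg1215_main hG hU hna hM hq hXq hX1 hXM hne hNX hS hXS
  have hSM : S ≤ M := hS.1.trans inf_le_left
  have hSMs : S ≤ Ms := hS.1.trans inf_le_right
  have hSsyl : IsSylowOf q S Ms :=
    ⟨hSMs, hS.2.1, fun T hTMs hT hST => bg1215_max hG hU hM hq hX1 hNX hS hXS hT hTMs hST⟩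
  have hYMs : Y ≤ Ms := hYX.trans hNX
  have hMsol : Group.IsSolvable ↥Ms := uq_isSolvable hG hMs.1
  by_cases hqs : q ∈ Cfsg.sigma Ms
  · -- Case 1: `q ∈ σ(M*)`
    have hNSs : normalizer (S : Set G) ≤ Ms := bg1216_sigma_normalizer_le hqs hSsyl
    obtain ⟨P, hP⟩ := hSsyl.exists_sylow
    have hmap : (P : Subgroup ↥Ms).map Ms.subtype = S := by
      rw [hP]; exact Subgroup.map_subgroupOf_eq_of_le hSMs
    have hcomm := bg10_sylow_le_commutator' hG hU hMs P (by rw [hmap]; exact hNSs)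
    have hodd : Odd (Nat.card ↥Ms) := uq_odd hG Ms
    have hle : (P : Subgroup ↥Ms) ≤ piCore (alpha Ms ∪ {q}) ↥Ms :=
      bg10_le_piCore_of_le_commutator hodd (π := alpha Ms) (π' := alpha Ms ∪ {q})
        Set.subset_union_left (fun r hr hra => bg10_pRank_of_not_alpha Ms r hr hra)
        (p := q) (Set.mem_union_right _ rfl) P.isPGroup' hcomm
    obtain ⟨W, hWdef⟩ : ∃ W : Subgroup G, W = piCoreOf (alpha Ms ∪ {q}) Ms := ⟨_, rfl⟩
    have hSW : S ≤ W := by
      rw [hWdef, ← hmap]; exact Subgroup.map_mono hle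
    have hWMs : W ≤ Ms := hWdef ▸ piCoreOf_le _ _
    have hMsW : Ms ≤ normalizer (W : Set G) := hWdef ▸ le_normalizer_piCoreOf _ _
    have hrel : S.relIndex W * W.relIndex Ms = S.relIndex Ms :=
      Subgroup.relIndex_mul_relIndex _ _ _ hSW hWMs
    have hqW : ¬ q ∣ S.relIndex W := fun h => hqS (hrel ▸ Dvd.dvd.mul_right h _)
    have hcop : (Nat.card Y).Coprime (S.relIndex W) := by
      by_contra h
      obtain ⟨r, hr, h1, h2⟩ := Nat.Prime.not_coprime_iff_dvd.mp h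
      have hrW : r ∣ Nat.card W := by
        have h3 := card_mul_relIndex_of_le hSW
        rw [← h3]; exact Dvd.dvd.mul_left h2 _
      have hrπ := mem_of_dvd_card_piCoreOf (alpha Ms ∪ {q}) Ms hr (hWdef ▸ hrW)
      rcases hrπ with hrα | hrq
      · exact bg1216_alpha_disjoint hU hM hMs hnc hrα (hY r hr h1)
      · rw [Set.mem_singleton_iff] at hrq
        exact hqW (hrq ▸ h2)
    obtain ⟨l, -, hl⟩ := bg1216_conj_into_normalizer hMsol hWMs hMsW hS.2.1 hSW hqW hYMs hcop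
    exact ⟨l, fun y hy => hNS (hl y hy)⟩
  · -- Case 2: `q ∉ σ(M*)`, so `q ∈ τ₂(M*)`
    obtain ⟨⟨hr2, hr1⟩, -, -⟩ := bg10_nonsigma_normalizer hG hU hMs hqs hXc hNX
    have hqτ : q ∈ tau2 Ms := ⟨hqp, hqs, hr2, hr1⟩
    obtain ⟨E, hEMs, hEc, hEe, hEcard⟩ := bg10_exists_elemAb_sq hqp hr1
    have hEq : IsPGroup q E := IsPGroup.of_card hEcard
    obtain ⟨S', hS', hES'⟩ := exists_isSylowOf_ge hEq hEMs
    obtain ⟨h, -, hSeq⟩ := bg10_sylow_conj hS' hSsyl
    obtain ⟨A, hAdef⟩ : ∃ A : Subgroup G, A = MulAut.conj h • E := ⟨_, rfl⟩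
    have hAS : A ≤ S := by rw [hAdef, hSeq]; exact conj_smul_le_conj_smul hES'
    have hA : IsElementaryAbelian q A := hAdef ▸ bg1216_elemAb_conj hEc hEe h
    have hAcard : Nat.card A = q ^ 2 := by rw [hAdef, card_conj_smul]; exact hEcard
    have hAM : A ≤ M := hAS.trans hSM
    have hAMs : A ≤ Ms := hAS.trans hSMs
    obtain ⟨hnil, hMsN⟩ := hT Ms hMs q hqτ A hAMs hA hAcard
    obtain ⟨W, hWdef⟩ : ∃ W : Subgroup G, W = sigmaCore Ms ⊔ A := ⟨_, rfl⟩
    have hσMs : sigmaCore Ms ≤ Ms := piCoreOf_le (sigma Ms) Ms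
    have hWMs : W ≤ Ms := hWdef ▸ sup_le hσMs hAMs
    have hMsW : Ms ≤ normalizer (W : Set G) := hWdef ▸ hMsN
    have hAW : A ≤ W := hWdef ▸ le_sup_right
    have hAN : A ≤ normalizer ((sigmaCore Ms : Subgroup G) : Set G) :=
      hAMs.trans (le_normalizer_piCoreOf (sigma Ms) Ms)
    have hdvd : A.relIndex W ∣ Nat.card (sigmaCore Ms) := by
      have h1 := Helper51.card_sup_mul_card_inf_of_le_normalizer A (sigmaCore Ms) hAN
      have h2 := card_mul_relIndex_of_le hAW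
      have hW' : A ⊔ sigmaCore Ms = W := by rw [hWdef, sup_comm]
      rw [hW', ← h2] at h1
      have h3 : Nat.card ↥A * (A.relIndex W * Nat.card ↥(A ⊓ sigmaCore Ms)) =
          Nat.card ↥A * Nat.card ↥(sigmaCore Ms) := by rw [← h1]; ring
      exact Dvd.intro _ (Nat.eq_of_mul_eq_mul_left Nat.card_pos h3)
    have hσp : ∀ r : ℕ, r.Prime → r ∣ Nat.card (sigmaCore Ms) → r ∈ sigma Ms :=
      (bg10_sigma_hall hG hU hMs).1.2.1
    have hqW : ¬ q ∣ A.relIndex W := fun h => hqs (hσp q hqp (h.trans hdvd))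
    have hcop : (Nat.card Y).Coprime (A.relIndex W) := by
      by_contra h
      obtain ⟨r, hr, h1, h2⟩ := Nat.Prime.not_coprime_iff_dvd.mp h
      exact bg1216_sigma_disjoint hG hU hM hMs hnc hnil hr (h2.trans hdvd) (hY r hr h1)
    obtain ⟨l, -, hl⟩ := bg1216_conj_into_normalizer hMsol hWMs hMsW (IsPGroup.of_card hAcard)
      hAW hqW hYMs hcop
    exact ⟨l, fun y hy => bg1216_normalizer_le hG hU hC hM hq hAM hA hAcard (hl y hy)⟩

/-- **Bender–Glauberman 12.16**, internal form: a nontrivial `σ(M)`-subgroup of `G` is conjugate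
into `M_σ`. -/
theorem bg1216_main (hG : IsMinSimpleOddOrder G) (hU : BGUniq G) (hna : BGNonab G)
    (hC : BGCent2 G) (hT : BGTau2 G) {M : Subgroup G} (hM : IsCoatom M) {Y : Subgroup G}
    (hY1 : Y ≠ ⊥) (hY : ∀ p : ℕ, p.Prime → p ∣ Nat.card Y → p ∈ Cfsg.sigma M) :
    ∃ g : G, Y.map (MulAut.conj g).toMonoidHom ≤ sigmaCore M := by
  have hY2 : Y ≠ ⊤ := by
    intro h
    have hidx : M.index ≠ 1 := fun h1 => hM.1 (Subgroup.index_eq_one.mp h1)
    obtain ⟨p, hp, hpd⟩ := Nat.exists_prime_and_dvd hidx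
    have hpG : p ∣ Nat.card Y := by
      rw [h, Subgroup.card_top]; exact hpd.trans (Subgroup.index_dvd_card M)
    exact bg10_sigma_not_dvd_index (hY p hp hpG) hpd
  have : Group.IsSolvable ↥Y := uq_isSolvable hG hY2
  have : Nontrivial ↥Y := (Subgroup.nontrivial_iff_ne_bot Y).mpr hY1
  obtain ⟨q, hqp, hq1⟩ := Helper1.exists_pCore_ne_bot ↥Y
  have : Fact q.Prime := ⟨hqp⟩
  obtain ⟨O, hOdef⟩ : ∃ O : Subgroup G, O = (Cfsg.pCore q ↥Y).map Y.subtype := ⟨_, rfl⟩
  have hOq : IsPGroup q O := hOdef ▸ (Helper1.pCore_isPGroup' q ↥Y).map _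
  have hO1 : O ≠ ⊥ := by
    rw [hOdef]
    intro h
    exact hq1 ((Subgroup.map_eq_bot_iff_of_injective _ Y.subtype_injective).mp h)
  have hOY : O ≤ Y := hOdef ▸ Subgroup.map_subtype_le _
  have hYO : Y ≤ normalizer (O : Set G) := by
    have hn : (Cfsg.pCore q ↥Y).Normal := Helper1.pCore_normal' q ↥Y
    have h1 := Subgroup.le_normalizer_map (H := Cfsg.pCore q ↥Y) Y.subtype
    rw [Subgroup.normalizer_eq_top (Cfsg.pCore q ↥Y)] at h1
    rw [hOdef]
    intro y hy
    exact h1 ⟨⟨y, hy⟩, Subgroup.mem_top _, rfl⟩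
  have hqσ : q ∈ sigma M := by
    apply hY q hqp
    obtain ⟨n, hn⟩ := IsPGroup.iff_card.mp hOq
    have hn0 : n ≠ 0 := by
      rintro rfl
      rw [pow_zero] at hn
      exact hO1 (Subgroup.card_eq_one.mp hn)
    exact (hn ▸ dvd_pow_self q hn0 : q ∣ Nat.card O).trans (Subgroup.card_dvd_of_le hOY)
  obtain ⟨X, hXdef⟩ : ∃ X : Subgroup G, X = omegaCenter q O := ⟨_, rfl⟩
  have hXO : X ≤ O := hXdef ▸ omegaCenter_le q O
  have hX : IsElementaryAbelian q X := hXdef ▸ omegaCenter_elemAb q O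
  have hX1 : X ≠ ⊥ := hXdef ▸ omegaCenter_ne_bot hOq hO1
  have hYX : Y ≤ normalizer (X : Set G) :=
    hXdef ▸ hYO.trans (normalizer_le_normalizer_omegaCenter q O)
  have hXq : IsPGroup q X := hOq.to_le hXO
  have hqσ' := hqσ
  obtain ⟨-, -, P₀, hP₀⟩ := hqσ'
  have hQM := isSylowOf_map P₀
  have hQtop : IsSylowOf q ((P₀ : Subgroup ↥M).map M.subtype) ⊤ :=
    hQM.of_normalizer_inf_le le_top (inf_le_left.trans hP₀)
  obtain ⟨h, hh⟩ := bg10_exists_conj_le hQtop hXq
  have hX'M : MulAut.conj h • X ≤ M := by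
    intro x hx
    have h1 := hQM.1 (hh _ (mem_conj_smul.mp hx))
    have e : h * (h⁻¹ * x * h) * h⁻¹ = x := by group
    rwa [e] at h1
  have hX' : IsElementaryAbelian q (MulAut.conj h • X) :=
    bg1216_elemAb_conj (fun x hx y hy => congrArg Subtype.val
      (hX.1.is_comm.comm (⟨x, hx⟩ : ↥X) ⟨y, hy⟩)) hX.2 h
  have hX'1 : MulAut.conj h • X ≠ ⊥ := by
    intro h1
    apply hX1
    rw [← Subgroup.card_eq_one, ← card_conj_smul h X, h1, Subgroup.card_bot]
  have hY'X' : MulAut.conj h • Y ≤ normalizer ((MulAut.conj h • X : Subgroup G) : Set G) := by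
    intro y' hy'
    have h1 := hYX (mem_conj_smul.mp hy')
    rw [mem_normalizer_iff_conj_smul_eq] at h1 ⊢
    rw [conj_smul_conj_smul]
    have e : y' * h = h * (h⁻¹ * y' * h) := by group
    rw [e, ← conj_smul_conj_smul, h1]
  have hY' : ∀ p : ℕ, p.Prime → p ∣ Nat.card ↥(MulAut.conj h • Y) → p ∈ Cfsg.sigma M := by
    intro p hp hpd
    rw [card_conj_smul] at hpd
    exact hY p hp hpd
  obtain ⟨g, hg⟩ := bg1216_core hG hU hna hC hT hM hqσ hX' hX'1 hX'M hY'X' hY'
  refine ⟨g * h, ?_⟩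
  apply bg1216_le_sigmaCore hG hU hM
  · rintro _ ⟨y, hy, rfl⟩
    have h1 := hg (h * y * h⁻¹) (conj_mem_conj_smul hy)
    show g * h * y * (g * h)⁻¹ ∈ M
    have e : g * h * y * (g * h)⁻¹ = g * (h * y * h⁻¹) * g⁻¹ := by group
    rw [e]; exact h1
  · intro p hp hpd
    rw [← smul_eq_map_conj, card_conj_smul] at hpd
    exact hY p hp hpd

end Cfsg.Agent.Helper49
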