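/-
helper49: piece `C2` of CALL S1378 (B&G Theorem 13.9): `C_S(E) = 1`.
-/
import Cfsg.Agent.Helper1.BG139Defs
import Cfsg.Agent.S1411
import Cfsg.Agent.Helper35.CoprimeAbelian
import Cfsg.Prelude.Def_OddOrder

set_option autoImplicit false

namespace Cfsg.Agent.Helper49

open Cfsg Subgroup Cfsg.Agent.Helper1

universe u

variable {G : Type u} [Group G] [Finite G]

/-- PIECE `C2`. -/
theorem bg139_cent_E (hG : IsMinSimpleOddOrder G) {M Ms S : Subgroup G} {s : ℕ}
    (c : BG139Cfg M Ms S s) (hSc : ∀ a ∈ S, ∀ b ∈ S, a * b = b * a)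
    (hcent : sigmaCore M ⊓ Ms ≤ centralizer (S : Set G)) {E : Subgroup G}
    (hE : IsComplIn E (sigmaCore M) M) (hEN : E ≤ normalizer (S : Set G)) :
    S ⊓ centralizer (E : Set G) = ⊥ := by
  have : Fact s.Prime := ⟨c.hs⟩
  let P : Sylow s G := ⟨S, c.hSp, fun {Q} hQ hle => c.hSmax Q hQ hle⟩
  have hPS : (P : Subgroup G) = S := rfl
  obtain ⟨V, hV, hVcop⟩ := bg107a_exists_compl P
  have h11 := (Cfsg.Agent.S1411.result hG s P V hV).1
  rw [hPS] at h11 hV
  have hVN : V ≤ normalizer (S : Set G) := hV.2.1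
  have hcop : (Nat.card V).Coprime (Nat.card S) := by
    obtain ⟨k, hk⟩ := IsPGroup.iff_card.mp c.hSp
    rw [hk]; exact Nat.Coprime.pow_right _ hVcop
  have hbot := Cfsg.Agent.Helper35.commutator_inf_centralizer_eq_bot_of_comm hVN hcop hSc
  rw [← h11] at hbot
  rw [eq_bot_iff, ← hbot]
  intro z hz
  obtain ⟨hzS, hzE⟩ := Subgroup.mem_inf.mp hz
  refine Subgroup.mem_inf.mpr ⟨hzS, ?_⟩
  rw [Subgroup.mem_centralizer_iff]
  intro v hv
  have hvL := hVN hv
  have hvM : v ∈ M := (c.hN hvL).1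
  obtain ⟨a, ha, b, hb, rfl⟩ := hE.2.2.2 v hvM
  have haL : a ∈ normalizer (S : Set G) := hEN ha
  have hbL : b ∈ normalizer (S : Set G) := by
    have : b = a⁻¹ * (a * b) := by group
    rw [this]; exact mul_mem (inv_mem haL) hvL
  have hbMs : b ∈ Ms := (c.hN hbL).2
  have hbC : b ∈ centralizer (S : Set G) := hcent ⟨hb, hbMs⟩
  have h1 : a * z = z * a := (Subgroup.mem_centralizer_iff.mp hzE) a ha
  have h2 : b * z = z * b := ((Subgroup.mem_centralizer_iff.mp hbC) z hzS).symm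
  calc a * b * z = a * (b * z) := by group
    _ = a * (z * b) := by rw [h2]
    _ = (a * z) * b := by group
    _ = z * a * b := by rw [h1]
    _ = z * (a * b) := by group

end Cfsg.Agent.Helper49
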