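/-
helper49: piece `C5` of CALL S1378 (B&G Theorem 13.9): the primes of `E₁` lie in `τ₁(Ms)`.
-/
import Cfsg.Agent.Helper1.BG139Defs
import Cfsg.Agent.S1403
import Cfsg.Agent.S1414
import Cfsg.Agent.S1415
import Cfsg.Agent.Helper22.BG12b
import Cfsg.Agent.Helper20.BG13P4
import Cfsg.Agent.Helper31.BG139HALL
import Cfsg.Prelude.Def_OddOrder

set_option autoImplicit false

namespace Cfsg.Agent.Helper49

open Cfsg Subgroup Cfsg.Agent.Helper1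

universe u

variable {G : Type u} [Group G] [Finite G]

/-- PIECE `C5`. -/
theorem bg139_E1_tau1 (hG : IsMinSimpleOddOrder G) {M Ms S : Subgroup G} {s : ℕ}
    (c : BG139Cfg M Ms S s) (hcent : sigmaCore Ms ⊓ M ≤ centralizer (S : Set G))
    (h2s : ∀ q : ℕ, q ∉ tau2 Ms) (hβs : s ∉ beta Ms) {E₁ : Subgroup G}
    (hE₁N : E₁ ≤ normalizer (S : Set G))
    (hfpf : ∀ x ∈ E₁, x ≠ 1 → S ⊓ centralizer ({x} : Set G) = ⊥) :
    ∀ q : ℕ, q.Prime → q ∣ Nat.card E₁ → q ∈ tau1 Ms := by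
  intro q hq hqE
  have hU : Helper22.BGUniq G := fun K hK h1 h2 => Cfsg.Agent.S1403.result hG K hK h1 h2
  have hqf : Fact q.Prime := ⟨hq⟩
  have hsf : Fact s.Prime := ⟨c.hs⟩
  obtain ⟨x₀, hx₀⟩ := exists_prime_orderOf_dvd_card' (G := ↥E₁) q hqE
  obtain ⟨x, hx⟩ : ∃ x : G, x = (x₀ : G) := ⟨_, rfl⟩
  have hxo : orderOf x = q := by rw [hx, Subgroup.orderOf_coe, hx₀]
  have hxE : x ∈ E₁ := by rw [hx]; exact x₀.2
  have hx1 : x ≠ 1 := by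
    intro h
    rw [h, orderOf_one] at hxo
    exact hq.one_lt.ne hxo
  have hxL : x ∈ normalizer (S : Set G) := hE₁N hxE
  have hxM : x ∈ M := (c.hN hxL).1
  have hxMs : x ∈ Ms := (c.hN hxL).2
  have hfx := hfpf x hxE hx1
  -- key: `x` does not centralize `S`
  have hnc : ¬ (∀ a ∈ S, a * x = x * a) := by
    intro h
    apply c.hS1
    rw [eq_bot_iff, ← hfx]
    intro a ha
    refine Subgroup.mem_inf.mpr ⟨ha, ?_⟩
    rw [Subgroup.mem_centralizer_iff]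
    intro y hy
    rw [Set.mem_singleton_iff] at hy
    rw [hy]; exact (h a ha).symm
  have hZ : Nat.card (zpowers x) = q := by rw [Nat.card_zpowers, hxo]
  have hZMs : zpowers x ≤ Ms := (Subgroup.zpowers_le).mpr hxMs
  have hZp : IsPGroup q (zpowers x) := IsPGroup.of_card (n := 1) (by rw [hZ, pow_one])
  have hqσ : q ∉ sigma Ms := by
    intro hqσ
    have h1 := Helper22.bg12_le_sigmaCore hG hU c.hMs hq hqσ hZMs hZp
    have hxσ : x ∈ sigmaCore Ms := h1 (mem_zpowers x)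
    have hxC := hcent ⟨hxσ, hxM⟩
    exact hnc (fun a ha => (Subgroup.mem_centralizer_iff.mp hxC) a ha)
  have hqMs : q ∣ Nat.card Ms := by
    rw [← hZ]; exact Subgroup.card_dvd_of_le hZMs
  have hr2 : PRankLE q 2 Ms := by
    by_contra h
    exact hqσ (Helper22.bg10_alpha_sub_sigma hG hU c.hMs ⟨hq, h⟩)
  have hr1 : PRankLE q 1 Ms := by
    by_contra h
    exact h2s q ⟨hq, hqσ, hr2, h⟩
  refine ⟨hq, hqσ, hqMs, ?_, hr1⟩
  intro hqd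
  have hq3 : q ∈ tau3 Ms := ⟨hq, hqσ, hqd, hr1⟩
  -- `x ∈ Ms'`
  obtain ⟨hσhall, -, -⟩ := Helper22.bg10_sigma_hall hG hU c.hMs
  have hcop : (Nat.card (zpowers x)).Coprime (Nat.card (sigmaCore Ms)) := by
    rw [hZ]
    exact (Nat.Prime.coprime_iff_not_dvd hq).mpr (fun h => hqσ (hσhall.2.1 q hq h))
  obtain ⟨E', hE', hZE'⟩ := Helper20.bg13_exists_compl_ge hG hU c.hMs hZMs hcop
  obtain ⟨E₃, hE₃⟩ := Helper31.bg139_exists_hall hG c.hMs hE' (tau3 Ms)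
  obtain ⟨-, hE₃d, hE₃n⟩ := (Cfsg.Agent.S1415.result hG Ms c.hMs E' hE').2.2 E₃ hE₃
  have hZE₃ : zpowers x ≤ E₃ := by
    refine Helper22.bg12_le_of_coprime_relIndex hE₃.1 hZE' (hZE'.trans hE₃n) ?_
    rw [hZ]
    exact (Nat.Prime.coprime_iff_not_dvd hq).mpr (hE₃.2.2 q hq hq3)
  have hxD : x ∈ ⁅Ms, Ms⁆ :=
    Subgroup.commutator_mono hE'.1 hE'.1 (hE₃d (hZE₃ (mem_zpowers x)))
  -- normal `s`-complement of `Ms'`
  have hsMs : s ∣ Nat.card Ms := c.hsMs.2.1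
  obtain ⟨⟨P, N, hNn, hNP⟩, -, -⟩ :=
    (Cfsg.Agent.S1414.result hG Ms c.hMs).2.2.2.2 s c.hs hsMs hβs
  have hqs : q ≠ s := fun h => hqσ (h ▸ c.hsMs)
  have hNmem : ∀ y : ↥⁅Ms, Ms⁆, orderOf y = q → y ∈ N := by
    intro y hy
    rw [← QuotientGroup.eq_one_iff]
    have h1 : orderOf (y : ↥⁅Ms, Ms⁆ ⧸ N) ∣ q := by
      rw [← hy]; exact orderOf_map_dvd (QuotientGroup.mk' N) y
    have h2 : orderOf (y : ↥⁅Ms, Ms⁆ ⧸ N) ∣ Nat.card (P : Subgroup ↥⁅Ms, Ms⁆) := by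
      rw [← hNP.symm.index_eq_card, Subgroup.index_eq_card]
      exact orderOf_dvd_natCard _
    obtain ⟨k, hk⟩ := IsPGroup.iff_card.mp P.isPGroup'
    rw [hk] at h2
    have h3 : orderOf (y : ↥⁅Ms, Ms⁆ ⧸ N) ∣ Nat.gcd q (s ^ k) := Nat.dvd_gcd h1 h2
    have h4 : Nat.gcd q (s ^ k) = 1 :=
      Nat.Coprime.pow_right k ((Nat.coprime_primes hq c.hs).mpr hqs)
    rw [h4, Nat.dvd_one, orderOf_eq_one_iff] at h3
    exact h3
  have hNcard : ¬ s ∣ Nat.card N := by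
    rw [← hNP.index_eq_card]
    exact P.not_dvd_index
  apply hnc
  intro a ha
  have haMs : a ∈ Ms := (c.hN (le_normalizer ha)).2
  have hcD : a * x * a⁻¹ ∈ ⁅Ms, Ms⁆ := by
    have h := Subgroup.commutator_mem_commutator haMs hxMs
    rw [commutatorElement_def] at h
    have h2 : a * x * a⁻¹ = (a * x * a⁻¹ * x⁻¹) * x := by group
    rw [h2]; exact mul_mem h hxD
  have ho1 : orderOf (⟨x, hxD⟩ : ↥⁅Ms, Ms⁆) = q := by rw [Subgroup.orderOf_mk, hxo]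
  have ho2 : orderOf (⟨a * x * a⁻¹, hcD⟩ : ↥⁅Ms, Ms⁆) = q := by
    rw [Subgroup.orderOf_mk, ← hxo]
    exact orderOf_injective (MulAut.conj a).toMonoidHom (MulAut.conj a).injective x
  have hwN : (⟨a * x * a⁻¹, hcD⟩ : ↥⁅Ms, Ms⁆) * (⟨x, hxD⟩ : ↥⁅Ms, Ms⁆)⁻¹ ∈ N :=
    mul_mem (hNmem _ ho2) (inv_mem (hNmem _ ho1))
  have hwS : a * x * a⁻¹ * x⁻¹ ∈ S := by
    have h := (Subgroup.mem_normalizer_iff.mp hxL a⁻¹).mp (inv_mem ha)
    have h2 : a * x * a⁻¹ * x⁻¹ = a * (x * a⁻¹ * x⁻¹) := by group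
    rw [h2]; exact mul_mem ha h
  -- the order of `w` divides `|N|` and a power of `s`
  have hd1 : orderOf (a * x * a⁻¹ * x⁻¹) ∣ Nat.card N := by
    have h := orderOf_dvd_natCard
      (⟨(⟨a * x * a⁻¹, hcD⟩ : ↥⁅Ms, Ms⁆) * (⟨x, hxD⟩ : ↥⁅Ms, Ms⁆)⁻¹, hwN⟩ : ↥N)
    rw [Subgroup.orderOf_mk, ← Subgroup.orderOf_coe] at h
    exact h
  obtain ⟨k, hk⟩ := c.hSp ⟨a * x * a⁻¹ * x⁻¹, hwS⟩
  have hpow2 : (a * x * a⁻¹ * x⁻¹) ^ s ^ k = 1 := by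
    have h' := congrArg (fun z : ↥S => (z : G)) hk
    simpa using h'
  have hd2 : orderOf (a * x * a⁻¹ * x⁻¹) ∣ s ^ k := orderOf_dvd_of_pow_eq_one hpow2
  have hcop2 : (Nat.card N).Coprime (s ^ k) :=
    Nat.Coprime.pow_right k ((Nat.Prime.coprime_iff_not_dvd c.hs).mpr hNcard).symm
  have hw1 : a * x * a⁻¹ * x⁻¹ = 1 := by
    have h := Nat.dvd_gcd hd1 hd2
    rw [hcop2, Nat.dvd_one, orderOf_eq_one_iff] at h
    exact h
  calc a * x = (a * x * a⁻¹ * x⁻¹) * (x * a) := by group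
    _ = x * a := by rw [hw1, one_mul]

end Cfsg.Agent.Helper49
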