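/-
helper49: Bender–Glauberman Lemma 14.2 (c), (d), (e) (rows S1359, S1360, S1361): the complement `U` of
`K M_σ` in the standard factorisation `M = K U M_σ`.  Everything is deduced from B&G Theorem 12.12
stated for a normal subgroup `W` of a complement `E` of `M_σ` that contains the `τ₂(M)`-elements of `E`
(hypothesis `BG12W G`; `W = E` is row S1421), from B&G 12.5 (`Helper72.B12T5 G`) and from B&G 12.10(e)
(`Helper72.b12c_cent_uniq`).
-/
import Cfsg.Agent.Helper49.BG1216b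
import Cfsg.Agent.Helper49.OddCyclic
import Cfsg.Agent.Helper23.FittingHall

set_option autoImplicit false

namespace Cfsg.Agent.Helper49

open Cfsg Subgroup Cfsg.Agent.Helper22 Cfsg.Agent.Helper23 Cfsg.Agent.Helper35
open scoped Pointwise

universe u

variable {G : Type u} [Group G] [Finite G]

/-- B&G Theorem 12.12 for a normal subgroup `W` of a complement `E` of `M_σ` containing the
`τ₂(M)`-elements of `E`, as a hypothesis on `G`. -/
def BG12W (G : Type u) [Group G] : Prop :=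
  ∀ (M : Subgroup G), IsCoatom M → ∀ (E : Subgroup G), IsComplIn E (sigmaCore M) M →
    ∀ (W : Subgroup G), W ≤ E → E ≤ normalizer (W : Set G) →
    (∀ e ∈ E, (∀ p : ℕ, p.Prime → p ∣ orderOf e → p ∈ tau2 M) → e ∈ W) →
    (∀ e ∈ W, e ≠ 1 → (∀ p : ℕ, p.Prime → p ∣ orderOf e → p ∈ tau1 M ∪ tau3 M) →
      sigmaCore M ⊓ centralizer ({e} : Set G) = ⊥) →
    (∃ A₀ : Subgroup G, A₀ ≤ W ∧ IsMulCommutative A₀ ∧
        ∀ x ∈ sigmaCore M, x ≠ 1 → W ⊓ centralizer ({x} : Set G) ≤ A₀) ∧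
      ∃ W₀ : Subgroup G, W₀ ≤ W ∧ Monoid.exponent W₀ = Monoid.exponent W ∧
        ∀ e ∈ W₀, e ≠ 1 → sigmaCore M ⊓ centralizer ({e} : Set G) = ⊥

/-- For `p ∈ (τ₁(M) ∪ τ₃(M)) \ κ(M)`, no element of order `p` of `M` centralizes a non-identity
element of `M_σ`. -/
theorem bg14u_regular_of_not_kappa (hG : IsMinSimpleOddOrder G) {M : Subgroup G} {p : ℕ}
    (hp13 : p ∈ tau1 M ∪ tau3 M) (hpκ : p ∉ kappa M) {e : G} (heM : e ∈ M)
    (heo : orderOf e = p) {y : G} (hy : y ∈ sigmaCore M) (hye : e * y = y * e) : y = 1 := by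
  have hpp : p.Prime := by rcases hp13 with h | h <;> exact h.1
  have := Fact.mk hpp
  have hpσ : p ∉ sigma M := by rcases hp13 with h | h <;> exact h.2.1
  have hrk : PRankLE p 1 ↥M := by
    rcases hp13 with h | h
    · exact h.2.2.2.2
    · exact h.2.2.2
  have heo' : orderOf (⟨e, heM⟩ : M) = p := by rw [← heo]; exact Subgroup.orderOf_mk e heM
  have hpM : p ∣ Nat.card M := by rw [← heo']; exact orderOf_dvd_natCard _
  have hodd : p ≠ 2 := by
    rintro rfl
    exact (Nat.not_even_iff_odd.mpr (uq_odd hG M)) (even_iff_two_dvd.mpr hpM)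
  have hκ : ∃ P : Sylow p M, ¬ (IsCyclic P ∧ ∃ x : M, x ∈ (P : Subgroup M) ∧ x ≠ 1 ∧
      ∃ y ∈ sigmaCore M, y ≠ 1 ∧ (x : G) * y = y * x) := by
    by_contra hcon
    exact hpκ ⟨hpp, hpM, hpσ, fun P => by_contra fun h => hcon ⟨P, h⟩⟩
  obtain ⟨P, hP⟩ := hκ
  have hPc : IsCyclic P := isCyclic_sylow_of_pRankLE_one hodd hrk P
  by_contra hy1
  have hep : IsPGroup p (zpowers (⟨e, heM⟩ : M)) :=
    IsPGroup.of_card (n := 1) (by rw [Nat.card_zpowers, heo', pow_one])
  obtain ⟨Q, hQ⟩ := hep.exists_le_sylow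
  obtain ⟨m, hm⟩ := MulAction.exists_smul_eq M Q P
  apply hP
  refine ⟨hPc, m * ⟨e, heM⟩ * m⁻¹, ?_, ?_, (m : G) * y * (m : G)⁻¹, ?_, ?_, ?_⟩
  · rw [← hm, Sylow.coe_subgroup_smul]
    exact conj_mem_conj_smul (hQ (mem_zpowers _))
  · intro h
    have h1 : (⟨e, heM⟩ : M) = 1 := by
      calc (⟨e, heM⟩ : M) = m⁻¹ * (m * ⟨e, heM⟩ * m⁻¹) * m := by group
        _ = 1 := by rw [h]; group
    rw [h1, orderOf_one] at heo'
    exact hpp.one_lt.ne heo'
  · exact (mem_normalizer_iff.mp (le_normalizer_piCoreOf (sigma M) M m.2) y).mp hy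
  · intro h
    apply hy1
    calc y = (m : G)⁻¹ * ((m : G) * y * (m : G)⁻¹) * (m : G) := by group
      _ = 1 := by rw [h]; group
  · show (m : G) * e * (m : G)⁻¹ * ((m : G) * y * (m : G)⁻¹)
      = (m : G) * y * (m : G)⁻¹ * ((m : G) * e * (m : G)⁻¹)
    calc (m : G) * e * (m : G)⁻¹ * ((m : G) * y * (m : G)⁻¹)
        = (m : G) * (e * y) * (m : G)⁻¹ := by group
      _ = (m : G) * (y * e) * (m : G)⁻¹ := by rw [hye]
      _ = (m : G) * y * (m : G)⁻¹ * ((m : G) * e * (m : G)⁻¹) := by group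

/-- A `κ(M)`-subgroup meets `M_σ` trivially. -/
theorem bg14u_kappa_inf_sigma {M K : Subgroup G}
    (hK : ∀ p : ℕ, p.Prime → p ∣ Nat.card K → p ∈ kappa M) : K ⊓ sigmaCore M = ⊥ := by
  rw [eq_bot_iff]
  rintro z ⟨hzK, hzσ⟩
  rw [mem_bot]
  by_contra hz1
  have hn1 : orderOf z ≠ 1 := fun h => hz1 (orderOf_eq_one_iff.mp h)
  have hq := Nat.minFac_prime hn1
  have hqd := Nat.minFac_dvd (orderOf z)
  have h1 : (orderOf z).minFac ∣ Nat.card K := hqd.trans (by
    have h := orderOf_dvd_natCard (⟨z, hzK⟩ : K)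
    rwa [Subgroup.orderOf_mk] at h)
  have h2 : (orderOf z).minFac ∣ Nat.card (sigmaCore M) := hqd.trans (by
    have h := orderOf_dvd_natCard (⟨z, hzσ⟩ : sigmaCore M)
    rwa [Subgroup.orderOf_mk] at h)
  exact (hK _ hq h1).2.2.1 (mem_of_dvd_card_piCoreOf (sigma M) M hq h2)

omit [Finite G] in
/-- Powers of a product `u k` with `k` normalizing `U ∋ u`. -/
theorem bg14u_mul_pow {U : Subgroup G} {u k : G} (hu : u ∈ U)
    (hk : k ∈ normalizer (U : Set G)) (n : ℕ) : ∃ u' ∈ U, (u * k) ^ n = u' * k ^ n := by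
  induction n with
  | zero => exact ⟨1, U.one_mem, by simp⟩
  | succ n ih =>
    obtain ⟨u', hu', h⟩ := ih
    have hkn : k ^ n ∈ normalizer (U : Set G) := pow_mem hk n
    refine ⟨u' * (k ^ n * u * (k ^ n)⁻¹), U.mul_mem hu' ((mem_normalizer_iff.mp hkn u).mp hu), ?_⟩
    rw [pow_succ, h, pow_succ]
    group

/-- `κ(M)` and `τ₂(M)` are disjoint. -/
theorem bg14u_kappa_tau2 {M : Subgroup G} {q : ℕ} (hκ : q ∈ kappa M) (h2 : q ∈ tau2 M) : False := by
  have hq : q.Prime := hκ.1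
  have := Fact.mk hq
  obtain ⟨A, hAM, hAc, hAe, hAcard⟩ := bg10_exists_elemAb_sq hq h2.2.2.2
  have hAq : IsPGroup q (A.subgroupOf M) := by
    have h1 : IsPGroup q A := IsPGroup.of_card (n := 2) hAcard
    exact h1.comap_subtype
  obtain ⟨Q, hQ⟩ := hAq.exists_le_sylow
  have hQc : IsCyclic Q := (hκ.2.2.2 Q).1
  have hAcyc : IsCyclic (A.subgroupOf M) :=
    isCyclic_of_injective (Subgroup.inclusion hQ) (Subgroup.inclusion_injective hQ)
  have hexp : Monoid.exponent (A.subgroupOf M) = Nat.card (A.subgroupOf M) :=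
    IsCyclic.exponent_eq_card
  have hcard : Nat.card (A.subgroupOf M) = q ^ 2 := by
    rw [Helper35.card_subgroupOf_of_le hAM, hAcard]
  have hdvd : Monoid.exponent (A.subgroupOf M) ∣ q := by
    apply Monoid.exponent_dvd_of_forall_pow_eq_one
    rintro ⟨⟨a, haM⟩, ha⟩
    have ha' : a ∈ A := mem_subgroupOf.mp ha
    apply Subtype.ext
    apply Subtype.ext
    simpa using hAe a ha'
  rw [hexp, hcard] at hdvd
  have h3 : q ^ 2 ≤ q := Nat.le_of_dvd hq.pos hdvd
  have h4 : 2 ≤ q := hq.two_le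
  nlinarith

/-- The structure of the standard factorisation needed to apply `BG12W` with `W := U`. -/
theorem bg14u_setup (hG : IsMinSimpleOddOrder G) {M K U : Subgroup G}
    (hKU : IsSigmaDecomposition M K U) :
    IsComplIn (U ⊔ K) (sigmaCore M) M ∧ U ⊔ K ≤ normalizer (U : Set G) ∧
      (∀ e ∈ U ⊔ K, (∀ p : ℕ, p.Prime → p ∣ orderOf e → p ∈ tau2 M) → e ∈ U) ∧
      (∀ e ∈ U, e ≠ 1 → (∀ p : ℕ, p.Prime → p ∣ orderOf e → p ∈ tau1 M ∪ tau3 M) →
        sigmaCore M ⊓ centralizer ({e} : Set G) = ⊥) := by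
  obtain ⟨hUM, hKσM, hinf, hprod⟩ := hKU.compl
  have hKM : K ≤ M := hKU.hall.1
  have hσM : sigmaCore M ≤ M := piCoreOf_le _ _
  have hSn : M ≤ normalizer (sigmaCore M : Set G) := le_normalizer_piCoreOf (sigma M) M
  have hKσ : K ⊓ sigmaCore M = ⊥ := bg14u_kappa_inf_sigma hKU.hall.2.1
  have hUK : U ⊓ K = ⊥ := by
    rw [eq_bot_iff, ← hinf]
    exact inf_le_inf_left U le_sup_left
  refine ⟨⟨sup_le hUM hKM, hσM, ?_, ?_⟩, sup_le le_normalizer hKU.normal, ?_, ?_⟩
  · rw [eq_bot_iff]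
    rintro z ⟨hzE, hzσ⟩
    obtain ⟨u, hu, k, hk, rfl⟩ := Helper35.exists_mul_of_mem_sup_of_le_normalizer hKU.normal hzE
    have hu1 : u ∈ U ⊓ (K ⊔ sigmaCore M) := by
      refine ⟨hu, ?_⟩
      have e : u = u * k * k⁻¹ := by group
      rw [e]
      exact mul_mem (mem_sup_right hzσ) (mem_sup_left (inv_mem hk))
    rw [hinf, mem_bot] at hu1
    rw [hu1, one_mul] at hzσ ⊢
    have hk1 : k ∈ K ⊓ sigmaCore M := ⟨hk, hzσ⟩
    rwa [hKσ] at hk1
  · intro m hm
    obtain ⟨u, hu, b, hb, rfl⟩ := hprod m hm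
    rw [sup_comm] at hb
    obtain ⟨s, hs, k, hk, rfl⟩ :=
      Helper35.exists_mul_of_mem_sup_of_le_normalizer (hKM.trans hSn) hb
    refine ⟨u * k, mul_mem (mem_sup_left hu) (mem_sup_right hk), k⁻¹ * s * k⁻¹⁻¹, ?_, by group⟩
    exact (mem_normalizer_iff.mp (hSn (M.inv_mem (hKM hk))) s).mp hs
  · intro e heE hτ
    obtain ⟨u, hu, k, hk, rfl⟩ := Helper35.exists_mul_of_mem_sup_of_le_normalizer hKU.normal heE
    obtain ⟨u', hu', hpow⟩ := bg14u_mul_pow hu (hKU.normal hk) (orderOf (u * k))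
    rw [pow_orderOf_eq_one] at hpow
    have hkn : k ^ orderOf (u * k) ∈ U ⊓ K := by
      refine ⟨?_, pow_mem hk _⟩
      have e : k ^ orderOf (u * k) = u'⁻¹ := by
        calc k ^ orderOf (u * k) = u'⁻¹ * (u' * k ^ orderOf (u * k)) := by group
          _ = u'⁻¹ := by rw [← hpow, mul_one]
      rw [e]; exact U.inv_mem hu'
    rw [hUK, mem_bot] at hkn
    have hdvd : orderOf k ∣ orderOf (u * k) := orderOf_dvd_of_pow_eq_one hkn
    have hk1 : k = 1 := by
      by_contra hk1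
      have hn1 : orderOf k ≠ 1 := fun h => hk1 (orderOf_eq_one_iff.mp h)
      have hq := Nat.minFac_prime hn1
      have hqd := Nat.minFac_dvd (orderOf k)
      have h1 : (orderOf k).minFac ∣ Nat.card K := hqd.trans (by
        have h := orderOf_dvd_natCard (⟨k, hk⟩ : K)
        rwa [Subgroup.orderOf_mk] at h)
      exact bg14u_kappa_tau2 (hKU.hall.2.1 _ hq h1) (hτ _ hq (hqd.trans hdvd))
    rw [hk1, mul_one]; exact hu
  · intro e heU he1 hτ
    have hn1 : orderOf e ≠ 1 := fun h => he1 (orderOf_eq_one_iff.mp h)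
    have hn0 : orderOf e ≠ 0 := (orderOf_pos e).ne'
    obtain ⟨p, hpdef⟩ : ∃ p, p = (orderOf e).minFac := ⟨_, rfl⟩
    have hp : p.Prime := by rw [hpdef]; exact Nat.minFac_prime hn1
    have hpd : p ∣ orderOf e := by rw [hpdef]; exact Nat.minFac_dvd _
    have hpU : p ∣ Nat.card U := hpd.trans (by
      have h := orderOf_dvd_natCard (⟨e, heU⟩ : U)
      rwa [Subgroup.orderOf_mk] at h)
    have hpκ : p ∉ kappa M := by
      intro hκ
      apply hKU.hall.2.2 p hp hκ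
      have h1 : K.relIndex M * Nat.card K = Nat.card M := by
        rw [mul_comm]; exact Helper35.card_mul_relIndex_of_le hKM
      have h2 : Nat.card M = Nat.card U * Nat.card ↥(K ⊔ sigmaCore M) :=
        card_of_isComplIn U (K ⊔ sigmaCore M) M hKU.compl
      obtain ⟨c, hc⟩ : Nat.card K ∣ Nat.card ↥(K ⊔ sigmaCore M) :=
        Subgroup.card_dvd_of_le le_sup_left
      have h3 : K.relIndex M = Nat.card U * c := by
        have h4 : K.relIndex M * Nat.card K = Nat.card U * c * Nat.card K := by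
          rw [h1, h2, hc]; ring
        exact Nat.eq_of_mul_eq_mul_right Nat.card_pos h4
      rw [h3]
      exact hpU.mul_right c
    have heo : orderOf (e ^ (orderOf e / p)) = p := orderOf_pow_orderOf_div hn0 hpd
    rw [eq_bot_iff]
    rintro y ⟨hyσ, hyC⟩
    rw [mem_bot]
    have hye : e * y = y * e := by
      have := mem_centralizer_iff.mp hyC e (Set.mem_singleton e)
      exact this
    have hye' : e ^ (orderOf e / p) * y = y * e ^ (orderOf e / p) :=
      ((Commute.pow_left (show Commute e y from hye) _).eq)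
    exact bg14u_regular_of_not_kappa hG (hτ p hp hpd) hpκ (M.pow_mem (hUM heU) _) heo hyσ hye'

omit [Finite G] in
theorem bg14u_mem_cent_singleton {a b : G} (h : a * b = b * a) :
    a ∈ centralizer ({b} : Set G) :=
  mem_centralizer_iff.mpr (fun z hz => by rw [Set.mem_singleton_iff.mp hz]; exact h.symm)

/-- **Row S1359** (B&G 14.2(d)) from `BG12W`. -/
theorem bg14u_1359 (hG : IsMinSimpleOddOrder G) (hW : BG12W G) {M K U : Subgroup G}
    (hM : IsCoatom M) (hKU : IsSigmaDecomposition M K U) :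
    IsMulCommutative (closure ((U : Set G) ∩ sigmaHat M)) := by
  obtain ⟨hE, hn, h2, h13⟩ := bg14u_setup hG hKU
  obtain ⟨⟨A₀, -, hA₀c, hA₀⟩, -⟩ := hW M hM (U ⊔ K) hE U le_sup_left hn h2 h13
  have hle : closure ((U : Set G) ∩ sigmaHat M) ≤ A₀ := by
    rw [closure_le]
    rintro u ⟨huU, -, y, hyσ, hy1, huy⟩
    exact hA₀ y hyσ hy1 (Subgroup.mem_inf.mpr ⟨huU, bg14u_mem_cent_singleton huy⟩)
  refine ⟨⟨fun a b => Subtype.ext ?_⟩⟩
  have h := hA₀c.is_comm.comm ⟨a, hle a.2⟩ ⟨b, hle b.2⟩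
  have h' := congrArg (fun z : A₀ => (z : G)) h
  simpa using h'

/-- **Row S1360** (B&G 14.2(e)) from `BG12W`. -/
theorem bg14u_1360 (hG : IsMinSimpleOddOrder G) (hW : BG12W G) {M K U : Subgroup G}
    (hM : IsCoatom M) (hKU : IsSigmaDecomposition M K U) :
    ∃ U₀ : Subgroup G, U₀ ≤ U ∧ Monoid.exponent U₀ = Monoid.exponent U ∧
      ∀ u ∈ U₀, u ∈ sigmaHat M → u = 1 := by
  obtain ⟨hE, hn, h2, h13⟩ := bg14u_setup hG hKU
  obtain ⟨-, W₀, hW₀U, hexp, hreg⟩ := hW M hM (U ⊔ K) hE U le_sup_left hn h2 h13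
  refine ⟨W₀, hW₀U, hexp, ?_⟩
  rintro u hu ⟨-, y, hyσ, hy1, huy⟩
  by_contra hu1
  have hy : y ∈ sigmaCore M ⊓ centralizer ({u} : Set G) :=
    Subgroup.mem_inf.mpr ⟨hyσ, bg14u_mem_cent_singleton huy.symm⟩
  rw [hreg u hu hu1, mem_bot] at hy
  exact hy1 hy

/-- **Row S1361** (B&G 14.2(c)) from `BG12W`, B&G 12.5 and B&G 12.10(e). -/
theorem bg14u_1361 (hG : IsMinSimpleOddOrder G) (hU' : BGUniq G)
    (hT : Cfsg.Agent.Helper72.B12T5 G) (hW : BG12W G) {M K U : Subgroup G}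
    (hM : IsCoatom M) (hKU : IsSigmaDecomposition M K U) {X : Subgroup G} (hXU : X ≤ U)
    (hX : X ≠ ⊥) (hXc : sigmaCore M ⊓ centralizer (X : Set G) ≠ ⊥) :
    centralizer (X : Set G) ≤ M ∧
      ∀ L : Subgroup G, IsCoatom L → centralizer (X : Set G) ≤ L → L = M := by
  obtain ⟨hE, hn, h2, h13⟩ := bg14u_setup hG hKU
  obtain ⟨⟨A₀, -, hA₀c, hA₀⟩, -⟩ := hW M hM (U ⊔ K) hE U le_sup_left hn h2 h13
  have hUM : U ≤ M := hKU.compl.1
  have hXM : X ≤ M := hXU.trans hUM
  -- a non-identity element `y` of `M_σ` centralizing `X`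
  obtain ⟨y, hy1⟩ := (Subgroup.ne_bot_iff_exists_ne_one).mp hXc
  have hy1' : (y : G) ≠ 1 := fun h => hy1 (Subtype.ext h)
  obtain ⟨hyσ, hyC⟩ := y.2
  have hyx : ∀ x ∈ X, x * (y : G) = (y : G) * x := fun x hx =>
    mem_centralizer_iff.mp hyC x hx
  have hXA : X ≤ A₀ := by
    intro x hx
    exact hA₀ y hyσ hy1' (Subgroup.mem_inf.mpr ⟨hXU hx, bg14u_mem_cent_singleton (hyx x hx)⟩)
  have hXcomm : ∀ a ∈ X, ∀ b ∈ X, a * b = b * a := by
    intro a ha b hb
    have h := hA₀c.is_comm.comm ⟨a, hXA ha⟩ ⟨b, hXA hb⟩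
    have h' := congrArg (fun z : A₀ => (z : G)) h
    simpa using h'
  -- the primes of `X` lie in `τ₂(M)`
  have hcardM : Nat.card M = Nat.card ↥(U ⊔ K) * Nat.card (sigmaCore M) :=
    card_of_isComplIn (U ⊔ K) (sigmaCore M) M hE
  have hσM : sigmaCore M ≤ M := piCoreOf_le _ _
  have hrel : (sigmaCore M).relIndex M = Nat.card ↥(U ⊔ K) := by
    have h1 := Helper35.card_mul_relIndex_of_le hσM
    rw [hcardM, mul_comm] at h1
    exact Nat.eq_of_mul_eq_mul_right Nat.card_pos h1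
  have hτ2 : ∀ p : ℕ, p.Prime → p ∣ Nat.card X → p ∈ tau2 M := by
    intro p hp hpX
    have := Fact.mk hp
    obtain ⟨x, hx⟩ := exists_prime_orderOf_dvd_card' (G := X) p hpX
    have hxo : orderOf (x : G) = p := by rw [← hx]; exact (Subgroup.orderOf_coe x)
    have hx1 : (x : G) ≠ 1 := by
      intro h
      rw [h, orderOf_one] at hxo
      exact hp.one_lt.ne hxo
    have hp13 : p ∉ tau1 M ∪ tau3 M := by
      intro h
      have h3 := h13 (x : G) (hXU x.2) hx1 (by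
        intro q hq hqd
        rw [hxo] at hqd
        rw [(Nat.prime_dvd_prime_iff_eq hq hp).mp hqd]; exact h)
      have h4 : (y : G) ∈ sigmaCore M ⊓ centralizer ({(x : G)} : Set G) :=
        Subgroup.mem_inf.mpr ⟨hyσ, bg14u_mem_cent_singleton (hyx x x.2).symm⟩
      rw [h3, mem_bot] at h4
      exact hy1' h4
    have hpU : p ∣ Nat.card ↥(U ⊔ K) :=
      (hpX.trans (Subgroup.card_dvd_of_le hXU)).trans (Subgroup.card_dvd_of_le le_sup_left)
    have hpσ : p ∉ sigma M := by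
      intro hσ
      have h5 := (bg10_sigma_hall hG hU' hM).1.2.2 p hp hσ
      rw [hrel] at h5
      exact h5 hpU
    have hpM : p ∣ Nat.card M := by rw [hcardM]; exact hpU.mul_right _
    have hrk2 : PRankLE p 2 ↥M :=
      bg10_pRank_of_not_alpha M p hp (fun hα => hpσ (bg10_alpha_sub_sigma hG hU' hM hα))
    refine ⟨hp, hpσ, hrk2, fun hrk1 => hp13 ?_⟩
    by_cases hd : p ∣ Nat.card ↥⁅M, M⁆
    · exact Or.inr ⟨hp, hpσ, hd, hrk1⟩
    · exact Or.inl ⟨hp, hpσ, hpM, hd, hrk1⟩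
  -- `X` has `p`-rank at most 1 for every prime `p`
  have hrk : ∀ p : ℕ, p.Prime → PRankLE p 1 ↥X := by
    intro p hp
    by_contra hnr
    have := Fact.mk hp
    obtain ⟨A, hAX, hAc, hAe, hAcard⟩ := bg10_exists_elemAb_sq hp hnr
    have hpX : p ∣ Nat.card X :=
      (Dvd.intro_left (p ^ 1) (by rw [← pow_succ, hAcard])).trans (Subgroup.card_dvd_of_le hAX)
    obtain ⟨-, -, -, hfix, -⟩ := hT M hM p (hτ2 p hp hpX) A
      ⟨hAX.trans hXM, Cfsg.Agent.Helper72.b12c_elemAb_of hAc hAe, hAcard⟩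
    have h4 : (y : G) ∈ sigmaCore M ⊓ centralizer (A : Set G) :=
      ⟨hyσ, centralizer_le (SetLike.coe_subset_coe.mpr hAX) hyC⟩
    rw [hfix, mem_bot] at h4
    exact hy1' h4
  -- `X` is cyclic
  have hodd : Odd (Nat.card X) := uq_odd hG X
  let _ : CommGroup X := { (inferInstance : Group X) with
    mul_comm := fun a b => Subtype.ext (hXcomm a a.2 b b.2) }
  have hZ : IsZGroup X := by
    refine ⟨fun p hp P => ?_⟩
    have := Fact.mk hp
    by_cases hp2 : p = 2
    · subst hp2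
      have h1 : Nat.card (P : Subgroup X) = 1 := by
        obtain ⟨n, hn⟩ := IsPGroup.iff_card.mp P.isPGroup'
        have h2 : Nat.card (P : Subgroup X) ∣ Nat.card X := Subgroup.card_subgroup_dvd_card _
        rcases Nat.eq_zero_or_pos n with h0 | h0
        · rw [hn, h0, pow_zero]
        · exfalso
          have h3 : 2 ∣ Nat.card X := (dvd_pow_self 2 h0.ne').trans (hn ▸ h2)
          exact (Nat.not_even_iff_odd.mpr hodd) (even_iff_two_dvd.mpr h3)
      have : Subsingleton (P : Subgroup X) := (Nat.card_eq_one_iff_unique.mp h1).1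
      exact isCyclic_of_subsingleton
    · exact isCyclic_sylow_of_pRankLE_one hp2 (hrk p hp) P
  have hXcyc : IsCyclic X := IsCyclic.of_exponent_eq_card (IsZGroup.exponent_eq_card X)
  obtain ⟨g, hg⟩ := hXcyc.exists_generator
  have hg1 : (g : G) ≠ 1 := by
    intro h
    apply hX
    rw [eq_bot_iff]
    intro x hx
    obtain ⟨k, hk⟩ := mem_zpowers_iff.mp (hg ⟨x, hx⟩)
    have h1 : (g : G) ^ k = x := by
      have := congrArg Subtype.val hk
      simpa using this
    rw [mem_bot, ← h1, h, one_zpow]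
  have hcent : centralizer ({(g : G)} : Set G) = centralizer (X : Set G) := by
    apply le_antisymm
    · intro z hz
      rw [mem_centralizer_iff] at hz ⊢
      intro x hx
      obtain ⟨k, hk⟩ := mem_zpowers_iff.mp (hg ⟨x, hx⟩)
      have h1 : (g : G) ^ k = x := by
        have := congrArg Subtype.val hk
        simpa using this
      have h2 : Commute (g : G) z := hz (g : G) (Set.mem_singleton _)
      rw [← h1]
      exact (h2.zpow_left k).eq
    · exact centralizer_le (Set.singleton_subset_iff.mpr g.2)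
  rw [← hcent]
  refine Cfsg.Agent.Helper72.b12c_cent_uniq hG hU' hT hM (hXM g.2) hg1 ?_
    ⟨hXM g.2, y, hyσ, hy1', hyx g g.2⟩
  intro p hp hpd
  apply hτ2 p hp
  have h := orderOf_dvd_natCard g
  rw [Subgroup.orderOf_coe] at hpd
  exact hpd.trans h

end Cfsg.Agent.Helper49
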