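/-
helper49: Bender–Glauberman, Lemma 12.16 again (see `Helper49/BG1216.lean`), now without B&G 12.13:
12.15 is taken from helper72's `b12c_sylow_inter` (which needs only the Uniqueness Theorem and
B&G 12.4).  Hypotheses: `BGUniq G` (S1403), `B12P4 G` (S1416), `BGTau2 G` (from S1417).
-/
import Cfsg.Agent.Helper49.BG1216
import Cfsg.Agent.Helper72.BG12Cor2

set_option autoImplicit false

namespace Cfsg.Agent.Helper49

open Cfsg Subgroup Cfsg.Agent.Helper22 Cfsg.Agent.Helper23 Cfsg.Agent.Helper35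
open scoped Pointwise

universe u

variable {G : Type u} [Group G] [Finite G]

/-! ### The core of 12.16, second version -/

/-- Core of B&G 12.16: if `Y` normalizes a nontrivial elementary abelian `q`-subgroup `X ≤ M` with
`q ∈ σ(M)` and `Y` is a `σ(M)`-group, then `Y` is conjugate into `M`. -/
theorem bg1216b_core (hG : IsMinSimpleOddOrder G) (hU : BGUniq G)
    (hP4 : Cfsg.Agent.Helper72.B12P4 G) (hT : BGTau2 G) {M : Subgroup G} (hM : IsCoatom M) {q : ℕ} [Fact q.Prime]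
    (hq : q ∈ Cfsg.sigma M) {X : Subgroup G} (hX : IsElementaryAbelian q X) (hX1 : X ≠ ⊥)
    (hXM : X ≤ M) {Y : Subgroup G} (hYX : Y ≤ normalizer (X : Set G))
    (hY : ∀ p : ℕ, p.Prime → p ∣ Nat.card Y → p ∈ Cfsg.sigma M) :
    ∃ g : G, ∀ y ∈ Y, g * y * g⁻¹ ∈ M := by
  by_cases hN : normalizer (X : Set G) ≤ M
  · exact ⟨1, fun y hy => by simpa using hN (hYX hy)⟩
  have hC : BGCent2 G := fun L hL p _ A h1 h2 h3 => (hP4 L hL p A ⟨h1, h2, h3⟩).1
  have hsimple := hG.2.1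
  have hqp : q.Prime := Fact.out
  have hXq : IsPGroup q X := bg1216_isPGroup_of_elemAb hX
  have hXc : Nat.card X = q := bg1216_card_eq hG hU hC hM hq hX hX1 hXM hN
  have hX2 : X ≠ ⊤ := fun h => hM.1 (top_le_iff.mp (h ▸ hXM))
  obtain ⟨Ms, hMs, hNX⟩ := uq_exists_coatom_ge (normalizer_ne_top_of_simple hX1 hX2)
  have hne : Ms ≠ M := fun h => hN (h ▸ hNX)
  have hXMs : X ≤ Ms := le_normalizer.trans hNX
  obtain ⟨S, hS, hXS⟩ := exists_isSylowOf_ge hXq (le_inf hXM hXMs)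
  obtain ⟨P', hP'⟩ := hS.exists_sylow
  have hP'map : (P' : Subgroup ↥(M ⊓ Ms)).map (M ⊓ Ms).subtype = S := by
    rw [hP']; exact Subgroup.map_subgroupOf_eq_of_le hS.1
  obtain ⟨hnc, hNS, hqS⟩ := Cfsg.Agent.Helper72.b12c_sylow_inter hG hU hP4 M hM q hq X hXq hX1 hXM
    Ms hMs hne hNX P' (by rw [hP'map]; exact hXS)
  rw [hP'map] at hNS hqS
  have hSM : S ≤ M := hS.1.trans inf_le_left
  have hSMs : S ≤ Ms := hS.1.trans inf_le_right
  have hSsyl : IsSylowOf q S Ms :=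
    ⟨hSMs, hS.2.1, fun T hTMs hT hST => bg1215_max hG hU hM hq hX1 hNX hS hXS hT hTMs hST⟩
  have hYMs : Y ≤ Ms := hYX.trans hNX
  have hMsol : Group.IsSolvable ↥Ms := uq_isSolvable hG hMs.1
  by_cases hqs : q ∈ Cfsg.sigma Ms
  · -- Case 1: `q ∈ σ(M*)`
    have hNSs : normalizer (S : Set G) ≤ Ms := bg1216_sigma_normalizer_le hqs hSsyl
    obtain ⟨P, hP⟩ := hSsyl.exists_sylow
    have hmap : (P : Subgroup ↥Ms).map Ms.subtype = S := by
      rw [hP]; exact Subgroup.map_subgroupOf_eq_of_le hSMs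
    have hcomm := bg10_sylow_le_commutator' hG hU hMs P (by rw [hmap]; exact hNSs)
    have hodd : Odd (Nat.card ↥Ms) := uq_odd hG Ms
    have hle : (P : Subgroup ↥Ms) ≤ piCore (alpha Ms ∪ {q}) ↥Ms :=
      bg10_le_piCore_of_le_commutator hodd (π := alpha Ms) (π' := alpha Ms ∪ {q})
        Set.subset_union_left (fun r hr hra => bg10_pRank_of_not_alpha Ms r hr hra)
        (p := q) (Set.mem_union_right _ rfl) P.isPGroup' hcomm
    obtain ⟨W, hWdef⟩ : ∃ W : Subgroup G, W = piCoreOf (alpha Ms ∪ {q}) Ms := ⟨_, rfl⟩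
    have hSW : S ≤ W := by
      rw [hWdef, ← hmap]; exact Subgroup.map_mono hle
    have hWMs : W ≤ Ms := hWdef ▸ piCoreOf_le _ _
    have hMsW : Ms ≤ normalizer (W : Set G) := hWdef ▸ le_normalizer_piCoreOf _ _
    have hrel : S.relIndex W * W.relIndex Ms = S.relIndex Ms :=
      Subgroup.relIndex_mul_relIndex _ _ _ hSW hWMs
    have hqW : ¬ q ∣ S.relIndex W := fun h => hqS (hrel ▸ Dvd.dvd.mul_right h _)
    have hcop : (Nat.card Y).Coprime (S.relIndex W) := by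
      by_contra h
      obtain ⟨r, hr, h1, h2⟩ := Nat.Prime.not_coprime_iff_dvd.mp h
      have hrW : r ∣ Nat.card W := by
        have h3 := card_mul_relIndex_of_le hSW
        rw [← h3]; exact Dvd.dvd.mul_left h2 _
      have hrπ := mem_of_dvd_card_piCoreOf (alpha Ms ∪ {q}) Ms hr (hWdef ▸ hrW)
      rcases hrπ with hrα | hrq
      · exact bg1216_alpha_disjoint hU hM hMs hnc hrα (hY r hr h1)
      · rw [Set.mem_singleton_iff] at hrq
        exact hqW (hrq ▸ h2)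
    obtain ⟨l, -, hl⟩ := bg1216_conj_into_normalizer hMsol hWMs hMsW hS.2.1 hSW hqW hYMs hcop
    exact ⟨l, fun y hy => hNS (hl y hy)⟩
  · -- Case 2: `q ∉ σ(M*)`, so `q ∈ τ₂(M*)`
    obtain ⟨⟨hr2, hr1⟩, -, -⟩ := bg10_nonsigma_normalizer hG hU hMs hqs hXc hNX
    have hqτ : q ∈ tau2 Ms := ⟨hqp, hqs, hr2, hr1⟩
    obtain ⟨E, hEMs, hEc, hEe, hEcard⟩ := bg10_exists_elemAb_sq hqp hr1
    have hEq : IsPGroup q E := IsPGroup.of_card hEcard
    obtain ⟨S', hS', hES'⟩ := exists_isSylowOf_ge hEq hEMs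
    obtain ⟨h, -, hSeq⟩ := bg10_sylow_conj hS' hSsyl
    obtain ⟨A, hAdef⟩ : ∃ A : Subgroup G, A = MulAut.conj h • E := ⟨_, rfl⟩
    have hAS : A ≤ S := by rw [hAdef, hSeq]; exact conj_smul_le_conj_smul hES'
    have hA : IsElementaryAbelian q A := hAdef ▸ bg1216_elemAb_conj hEc hEe h
    have hAcard : Nat.card A = q ^ 2 := by rw [hAdef, card_conj_smul]; exact hEcard
    have hAM : A ≤ M := hAS.trans hSM
    have hAMs : A ≤ Ms := hAS.trans hSMs
    obtain ⟨hnil, hMsN⟩ := hT Ms hMs q hqτ A hAMs hA hAcard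
    obtain ⟨W, hWdef⟩ : ∃ W : Subgroup G, W = sigmaCore Ms ⊔ A := ⟨_, rfl⟩
    have hσMs : sigmaCore Ms ≤ Ms := piCoreOf_le (sigma Ms) Ms
    have hWMs : W ≤ Ms := hWdef ▸ sup_le hσMs hAMs
    have hMsW : Ms ≤ normalizer (W : Set G) := hWdef ▸ hMsN
    have hAW : A ≤ W := hWdef ▸ le_sup_right
    have hAN : A ≤ normalizer ((sigmaCore Ms : Subgroup G) : Set G) :=
      hAMs.trans (le_normalizer_piCoreOf (sigma Ms) Ms)
    have hdvd : A.relIndex W ∣ Nat.card (sigmaCore Ms) := by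
      have h1 := Helper51.card_sup_mul_card_inf_of_le_normalizer A (sigmaCore Ms) hAN
      have h2 := card_mul_relIndex_of_le hAW
      have hW' : A ⊔ sigmaCore Ms = W := by rw [hWdef, sup_comm]
      rw [hW', ← h2] at h1
      have h3 : Nat.card ↥A * (A.relIndex W * Nat.card ↥(A ⊓ sigmaCore Ms)) =
          Nat.card ↥A * Nat.card ↥(sigmaCore Ms) := by rw [← h1]; ring
      exact Dvd.intro _ (Nat.eq_of_mul_eq_mul_left Nat.card_pos h3)
    have hσp : ∀ r : ℕ, r.Prime → r ∣ Nat.card (sigmaCore Ms) → r ∈ sigma Ms :=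
      (bg10_sigma_hall hG hU hMs).1.2.1
    have hqW : ¬ q ∣ A.relIndex W := fun h => hqs (hσp q hqp (h.trans hdvd))
    have hcop : (Nat.card Y).Coprime (A.relIndex W) := by
      by_contra h
      obtain ⟨r, hr, h1, h2⟩ := Nat.Prime.not_coprime_iff_dvd.mp h
      exact bg1216_sigma_disjoint hG hU hM hMs hnc hnil hr (h2.trans hdvd) (hY r hr h1)
    obtain ⟨l, -, hl⟩ := bg1216_conj_into_normalizer hMsol hWMs hMsW (IsPGroup.of_card hAcard)
      hAW hqW hYMs hcop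
    exact ⟨l, fun y hy => bg1216_normalizer_le hG hU hC hM hq hAM hA hAcard (hl y hy)⟩

/-- **Bender–Glauberman 12.16**, internal form: a nontrivial `σ(M)`-subgroup of `G` is conjugate
into `M_σ`. -/
theorem bg1216b_main (hG : IsMinSimpleOddOrder G) (hU : BGUniq G)
    (hP4 : Cfsg.Agent.Helper72.B12P4 G) (hT : BGTau2 G) {M : Subgroup G} (hM : IsCoatom M) {Y : Subgroup G}
    (hY1 : Y ≠ ⊥) (hY : ∀ p : ℕ, p.Prime → p ∣ Nat.card Y → p ∈ Cfsg.sigma M) :
    ∃ g : G, Y.map (MulAut.conj g).toMonoidHom ≤ sigmaCore M := by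
  have hY2 : Y ≠ ⊤ := by
    intro h
    have hidx : M.index ≠ 1 := fun h1 => hM.1 (Subgroup.index_eq_one.mp h1)
    obtain ⟨p, hp, hpd⟩ := Nat.exists_prime_and_dvd hidx
    have hpG : p ∣ Nat.card Y := by
      rw [h, Subgroup.card_top]; exact hpd.trans (Subgroup.index_dvd_card M)
    exact bg10_sigma_not_dvd_index (hY p hp hpG) hpd
  have : Group.IsSolvable ↥Y := uq_isSolvable hG hY2
  have : Nontrivial ↥Y := (Subgroup.nontrivial_iff_ne_bot Y).mpr hY1
  obtain ⟨q, hqp, hq1⟩ := Helper1.exists_pCore_ne_bot ↥Y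
  have : Fact q.Prime := ⟨hqp⟩
  obtain ⟨O, hOdef⟩ : ∃ O : Subgroup G, O = (Cfsg.pCore q ↥Y).map Y.subtype := ⟨_, rfl⟩
  have hOq : IsPGroup q O := hOdef ▸ (Helper1.pCore_isPGroup' q ↥Y).map _
  have hO1 : O ≠ ⊥ := by
    rw [hOdef]
    intro h
    exact hq1 ((Subgroup.map_eq_bot_iff_of_injective _ Y.subtype_injective).mp h)
  have hOY : O ≤ Y := hOdef ▸ Subgroup.map_subtype_le _
  have hYO : Y ≤ normalizer (O : Set G) := by
    have hn : (Cfsg.pCore q ↥Y).Normal := Helper1.pCore_normal' q ↥Y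
    have h1 := Subgroup.le_normalizer_map (H := Cfsg.pCore q ↥Y) Y.subtype
    rw [Subgroup.normalizer_eq_top (Cfsg.pCore q ↥Y)] at h1
    rw [hOdef]
    intro y hy
    exact h1 ⟨⟨y, hy⟩, Subgroup.mem_top _, rfl⟩
  have hqσ : q ∈ sigma M := by
    apply hY q hqp
    obtain ⟨n, hn⟩ := IsPGroup.iff_card.mp hOq
    have hn0 : n ≠ 0 := by
      rintro rfl
      rw [pow_zero] at hn
      exact hO1 (Subgroup.card_eq_one.mp hn)
    exact (hn ▸ dvd_pow_self q hn0 : q ∣ Nat.card O).trans (Subgroup.card_dvd_of_le hOY)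
  obtain ⟨X, hXdef⟩ : ∃ X : Subgroup G, X = omegaCenter q O := ⟨_, rfl⟩
  have hXO : X ≤ O := hXdef ▸ omegaCenter_le q O
  have hX : IsElementaryAbelian q X := hXdef ▸ omegaCenter_elemAb q O
  have hX1 : X ≠ ⊥ := hXdef ▸ omegaCenter_ne_bot hOq hO1
  have hYX : Y ≤ normalizer (X : Set G) :=
    hXdef ▸ hYO.trans (normalizer_le_normalizer_omegaCenter q O)
  have hXq : IsPGroup q X := hOq.to_le hXO
  have hqσ' := hqσ
  obtain ⟨-, -, P₀, hP₀⟩ := hqσ'
  have hQM := isSylowOf_map P₀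
  have hQtop : IsSylowOf q ((P₀ : Subgroup ↥M).map M.subtype) ⊤ :=
    hQM.of_normalizer_inf_le le_top (inf_le_left.trans hP₀)
  obtain ⟨h, hh⟩ := bg10_exists_conj_le hQtop hXq
  have hX'M : MulAut.conj h • X ≤ M := by
    intro x hx
    have h1 := hQM.1 (hh _ (mem_conj_smul.mp hx))
    have e : h * (h⁻¹ * x * h) * h⁻¹ = x := by group
    rwa [e] at h1
  have hX' : IsElementaryAbelian q (MulAut.conj h • X) :=
    bg1216_elemAb_conj (fun x hx y hy => congrArg Subtype.val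
      (hX.1.is_comm.comm (⟨x, hx⟩ : ↥X) ⟨y, hy⟩)) hX.2 h
  have hX'1 : MulAut.conj h • X ≠ ⊥ := by
    intro h1
    apply hX1
    rw [← Subgroup.card_eq_one, ← card_conj_smul h X, h1, Subgroup.card_bot]
  have hY'X' : MulAut.conj h • Y ≤ normalizer ((MulAut.conj h • X : Subgroup G) : Set G) := by
    intro y' hy'
    have h1 := hYX (mem_conj_smul.mp hy')
    rw [mem_normalizer_iff_conj_smul_eq] at h1 ⊢
    rw [conj_smul_conj_smul]
    have e : y' * h = h * (h⁻¹ * y' * h) := by group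
    rw [e, ← conj_smul_conj_smul, h1]
  have hY' : ∀ p : ℕ, p.Prime → p ∣ Nat.card ↥(MulAut.conj h • Y) → p ∈ Cfsg.sigma M := by
    intro p hp hpd
    rw [card_conj_smul] at hpd
    exact hY p hp hpd
  obtain ⟨g, hg⟩ := bg1216b_core hG hU hP4 hT hM hqσ hX' hX'1 hX'M hY'X' hY'
  refine ⟨g * h, ?_⟩
  apply bg1216_le_sigmaCore hG hU hM
  · rintro _ ⟨y, hy, rfl⟩
    have h1 := hg (h * y * h⁻¹) (conj_mem_conj_smul hy)
    show g * h * y * (g * h)⁻¹ ∈ M
    have e : g * h * y * (g * h)⁻¹ = g * (h * y * h⁻¹) * g⁻¹ := by group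
    rw [e]; exact h1
  · intro p hp hpd
    rw [← smul_eq_map_conj, card_conj_smul] at hpd
    exact hY p hp hpd

end Cfsg.Agent.Helper49
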