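/-
helper49: S1351 part (C).  Interface between parts (A)+(B) (B&G Corollary 13.11, the structure of a
maximal subgroup with a nonregular `τ₃`-element) and part (C) (construction of helper1's
`StarFamily`).
-/
import Cfsg.Agent.Helper1.BGSDefs

set_option autoImplicit false

namespace Cfsg.Agent.Helper49

open Cfsg Subgroup

universe u

variable {G : Type u} [Group G]

/-- Output of parts (A)+(B) = B&G Corollary 13.11: if `P ≤ E` has order `p ∈ τ₃(M)` and centralizes
a non-identity element of `M_σ` (`E` a complement of `M_σ` in the maximal subgroup `M`), then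
`τ₂(M) = ∅`, `E` acts in a prime manner on `M_σ` (all `C_{M_σ}(y)`, `y ∈ E^#`, equal `C_{M_σ}(E)`),
and every subgroup of prime order of `E` is normal in `E`. -/
def StarAB (G : Type u) [Group G] : Prop :=
  ∀ (M E P : Subgroup G) (p : ℕ), IsCoatom M → IsComplIn E (sigmaCore M) M → p ∈ tau3 M → P ≤ E →
    Nat.card P = p → sigmaCore M ⊓ centralizer (P : Set G) ≠ ⊥ →
    tau2 M = ∅ ∧
    (∀ y ∈ E, y ≠ 1 → sigmaCore M ⊓ centralizer ({y} : Set G) =
      sigmaCore M ⊓ centralizer (E : Set G)) ∧
    (∀ Y : Subgroup G, Y ≤ E → (Nat.card Y).Prime → E ≤ normalizer (Y : Set G))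

/-- The (STAR) context for `M`: a complement `E` of `M_σ`, a nonregular `P ≤ E` of order
`p ∈ τ₃(M)`, together with the three conclusions of `StarAB`. -/
structure StarCtx (M E P : Subgroup G) (p : ℕ) : Prop where
  coatom : IsCoatom M
  compl : IsComplIn E (sigmaCore M) M
  tau3 : p ∈ tau3 M
  PE : P ≤ E
  cardP : Nat.card P = p
  nonreg : sigmaCore M ⊓ centralizer (P : Set G) ≠ ⊥
  tau2 : tau2 M = ∅
  prime_act : ∀ y ∈ E, y ≠ 1 → sigmaCore M ⊓ centralizer ({y} : Set G) =
    sigmaCore M ⊓ centralizer (E : Set G)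
  normal : ∀ Y : Subgroup G, Y ≤ E → (Nat.card Y).Prime → E ≤ normalizer (Y : Set G)

/-- `Z = C_{M_σ}(E)`. -/
def starZ (M E : Subgroup G) : Subgroup G := sigmaCore M ⊓ centralizer (E : Set G)

/-- `W = Z E`. -/
def starW (M E : Subgroup G) : Subgroup G := starZ M E ⊔ E

/-- `H` is a maximal subgroup over `N_G(Y)` for some subgroup `Y` of prime order of `E`. -/
def StarOver (E H : Subgroup G) : Prop :=
  IsCoatom H ∧ ∃ Y : Subgroup G, Y ≤ E ∧ (Nat.card Y).Prime ∧ normalizer (Y : Set G) ≤ H

/-- The members of the family: `M` and the maximal subgroups over the `N_G(Y)`. -/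
def starSet (M E : Subgroup G) : Set (Subgroup G) := {L | L = M ∨ StarOver E L}

end Cfsg.Agent.Helper49
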