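/-
helper49: S1351 part (C).  The context of a member `H ≠ M` of the (STAR) family.
-/
import Cfsg.Agent.Helper49.BGCDefs

set_option autoImplicit false

namespace Cfsg.Agent.Helper49

open Cfsg Subgroup

universe u

variable {G : Type u} [Group G]

/-- Basic facts about a maximal subgroup `H` over `N_G(Y)`, `Y ≤ E` of prime order, in the (STAR)
context `StarCtx M E P p` (with `Z = starZ M E = C_{M_σ}(E)` and `W = starW M E = Z E`). -/
structure StarHCtx (M E P : Subgroup G) (p : ℕ) (H : Subgroup G) : Prop where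
  ctx : StarCtx M E P p
  coatomH : IsCoatom H
  Z_ne : starZ M E ≠ ⊥
  Z_eq : starZ M E = sigmaCore M ⊓ centralizer (P : Set G)
  E_primes : ∀ q : ℕ, q.Prime → q ∣ Nat.card E → q ∉ sigma M ∧ PRankLE q 1 ↥M
  nconj : ∀ g : G, H ≠ M.map (MulAut.conj g).toMonoidHom
  sigma_disj : ∀ q : ℕ, q ∈ sigma M → q ∉ sigma H
  E_le : E ≤ H
  Z_le : starZ M E ≤ H
  overY : ∃ Y : Subgroup G, Y ≤ E ∧ (Nat.card Y).Prime ∧ normalizer (Y : Set G) ≤ H ∧
    Nat.card Y ∈ sigma H ∧ Y ≤ sigmaCore H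
  over_sigma : ∀ Q : Subgroup G, Q ≤ E → (Nat.card Q).Prime → normalizer (Q : Set G) ≤ H →
    Nat.card Q ∈ sigma H
  X_norm : ∀ X : Subgroup G, X ≤ starZ M E → (Nat.card X).Prime → normalizer (X : Set G) ≤ M
  sigma_inf : sigmaCore M ⊓ sigmaCore H = ⊥
  inf_sigma : sigmaCore M ⊓ H = starZ M E
  inf_eq : M ⊓ H = starW M E
  mem_W : ∀ w : G, w ∈ starW M E ↔ ∃ z ∈ starZ M E, ∃ e ∈ E, w = z * e

end Cfsg.Agent.Helper49
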