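/-
helper49: CALL S1351C piece GH.
-/
import Cfsg.Agent.Helper49.BGCDefs2
import Cfsg.Agent.Helper24.BG13V

set_option autoImplicit false

namespace Cfsg.Agent.Helper49

open Cfsg Subgroup

universe u

variable {G : Type u} [Group G] [Finite G]

/-- A nontrivial subgroup contains a subgroup of prime order. -/
theorem starc_exists_prime_le {Z : Subgroup G} (hZ : Z ≠ ⊥) :
    ∃ X : Subgroup G, X ≤ Z ∧ (Nat.card X).Prime := by
  obtain ⟨z, hz1⟩ := (Subgroup.ne_bot_iff_exists_ne_one).mp hZ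
  have hz1' : (z : G) ≠ 1 := fun h => hz1 (Subtype.ext h)
  have ho : orderOf (z : G) ≠ 1 := fun h => hz1' (orderOf_eq_one_iff.mp h)
  obtain ⟨q, hq, hqd⟩ := Nat.exists_prime_and_dvd ho
  obtain ⟨k, hk⟩ := hqd
  have hpos : 0 < orderOf (z : G) := orderOf_pos (z : G)
  have hk0 : k ≠ 0 := by
    rintro rfl
    rw [Nat.mul_zero] at hk
    omega
  refine ⟨zpowers ((z : G) ^ k), ?_, ?_⟩
  · rw [zpowers_le]
    exact Subgroup.pow_mem _ z.2 k
  · rw [Nat.card_zpowers, orderOf_pow' _ hk0, hk, Nat.gcd_eq_right (Dvd.intro_left q rfl),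
      Nat.mul_div_cancel _ (Nat.pos_of_ne_zero hk0)]
    exact hq

/-- GH. Non-identity elements of `H_σ ∩ W` have their centralizer in `H`. -/
theorem starc_good_H (hG : IsMinSimpleOddOrder G) {M E P : Subgroup G} {p : ℕ} {H : Subgroup G}
    (h : StarHCtx M E P p H)
    (hτ : ∀ X : Subgroup G, X ≤ starZ M E → (Nat.card X).Prime → Nat.card X ∈ tau1 H ∪ tau3 H) :
    ∀ d ∈ sigmaCore H ⊓ starW M E, d ≠ 1 → centralizer ({d} : Set G) ≤ H := by
  intro d hd hd1
  obtain ⟨z, hz, e, he, rfl⟩ := (h.mem_W d).mp hd.2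
  have hzσ : z ∈ sigmaCore M := (show starZ M E ≤ sigmaCore M from inf_le_left) hz
  have hze : Commute z e := (Subgroup.mem_centralizer_iff.mp hz.2 e he).symm
  have hcop : (orderOf z).Coprime (orderOf e) := by
    by_contra hc
    obtain ⟨q, hq, h1, h2⟩ := Nat.Prime.not_coprime_iff_dvd.mp hc
    have hqM : q ∈ sigma M := Helper54.bg14t_mem_sigma_of_dvd hzσ hq h1
    have hqE : q ∣ Nat.card E := by
      have h3 := orderOf_dvd_natCard (⟨e, he⟩ : ↥E)
      rw [Subgroup.orderOf_mk] at h3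
      exact h2.trans h3
    exact (h.E_primes q hq hqE).1 hqM
  have hzpow : z ∈ zpowers (z * e) := (Helper54.bg14t_mem_zpowers_mul hze hcop).1
  have hzH : z ∈ sigmaCore H := by
    have hle : zpowers (z * e) ≤ sigmaCore H := by
      rw [zpowers_le]; exact hd.1
    exact hle hzpow
  have hz1 : z = 1 := by
    have : z ∈ sigmaCore M ⊓ sigmaCore H := ⟨hzσ, hzH⟩
    rw [h.sigma_inf] at this
    exact Subgroup.mem_bot.mp this
  subst hz1
  rw [one_mul] at hd hd1 ⊢
  obtain ⟨X, hXZ, hX⟩ := starc_exists_prime_le h.Z_ne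
  have hXH : X ≤ H := hXZ.trans h.Z_le
  have heX : e ∈ centralizer (X : Set G) := by
    rw [Subgroup.mem_centralizer_iff]
    intro x hx
    exact (Subgroup.mem_centralizer_iff.mp (hXZ hx).2 e he).symm
  exact Helper24.bg13u_cent_le hG h.coatomH (hτ X hXZ hX) hXH rfl hd.1 hd1 heX

end Cfsg.Agent.Helper49
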