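/-
helper49: CALL S1366 (helper2), piece PB (core): the Hall `κ(L)`-subgroup `K₁ ≥ K*` of a maximal
subgroup `L` over `N_G(X)`, `X ≤ K` of prime order.
-/
import Cfsg.Agent.Helper2.BG147Defs
import Cfsg.Agent.Helper68.BG14R30
import Cfsg.Agent.Helper24.BG13V
import Cfsg.Agent.Helper49.BGCGH
import Cfsg.Agent.S1378
import Cfsg.Agent.S1354

set_option autoImplicit false

namespace Cfsg.Agent.Helper49

open Cfsg Subgroup

universe u

variable {G : Type u} [Group G] [Finite G]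

/-- A6 (core, the dependencies DISJ KAP ABS PA as hypotheses). The Hall `κ(L)`-subgroup `K₁ ≥ K*`: `K₁ ≤ M`, `L_σ ∩ M = K₁*`, `X ≤ K₁* ≤ K`. -/
theorem bg147_pb_core (hG : IsMinSimpleOddOrder G) (hcyc : Cfsg.Agent.Helper2.Cyc51 G)
    {M K X L K₁ : Subgroup G}
    (bg147_comm : ∀ {M L : Subgroup G}, IsCoatom M → IsCoatom L →
      (∀ g : G, L ≠ M.map (MulAut.conj g).toMonoidHom) → ∀ {a x : G},
      a ∈ sigmaCore M → a ∈ L → x ∈ sigmaCore L → x ∈ M → a * x = x * a)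
    (bg147_mem_kappa : ∀ {L Y : Subgroup G} {t : ℕ}, IsCoatom L → t.Prime → t ∉ sigma L →
      Y ≤ L → Nat.card Y = t → sigmaCore L ⊓ centralizer (Y : Set G) ≠ ⊥ →
      (∃ H : Subgroup G, IsCoatom H ∧ centralizer (Y : Set G) ≤ H ∧ H ≠ L) → t ∈ kappa L)
    (bg147_hall_absorb : ∀ {π : Set ℕ} {K B M : Subgroup G}, IsPiHallOf π K M → B ≤ M →
      (∀ p : ℕ, p.Prime → p ∣ Nat.card B → p ∈ π) → K ≤ normalizer (B : Set G) → B ≤ K)
    (hpa : X ≤ sigmaCore L ∧ (∀ g : G, L ≠ M.map (MulAut.conj g).toMonoidHom) ∧ K ≤ L ∧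
      sigmaCore M ⊓ centralizer (K : Set G) ≤ L ∧
      sigmaCore M ⊓ L = sigmaCore M ⊓ centralizer (K : Set G))
    (hM : IsCoatom M) (hK : IsPiHallOf (kappa M) K M) (hK1 : K ≠ ⊥) (hXK : X ≤ K)
    (hXp : (Nat.card X).Prime) (hL : IsCoatom L) (hN : normalizer (X : Set G) ≤ L)
    (hK₁ : IsPiHallOf (kappa L) K₁ L)
    (hle : sigmaCore M ⊓ centralizer (K : Set G) ≤ K₁) :
    K₁ ≤ M ∧ sigmaCore L ⊓ M = sigmaCore L ⊓ centralizer (K₁ : Set G) ∧
      X ≤ sigmaCore L ⊓ centralizer (K₁ : Set G) ∧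
      sigmaCore L ⊓ centralizer (K₁ : Set G) ≤ K := by
  have hKc : IsCyclic K := hcyc M K hM hK
  have hK₁c : IsCyclic K₁ := hcyc L K₁ hL hK₁
  obtain ⟨hXσ, hnc, hKL, hKsL, -⟩ := hpa
  have hKs1 : sigmaCore M ⊓ centralizer (K : Set G) ≠ ⊥ :=
    (Cfsg.Agent.S1354.result hG M hM K hKc hK).1
  have hK₁1 : K₁ ≠ ⊥ := by
    intro h
    rw [h] at hle
    exact hKs1 (le_bot_iff.mp hle)
  obtain ⟨⟨U, hKU⟩, -⟩ := Cfsg.Agent.S1352.result hG M hM K hKc hK
  obtain ⟨⟨U₁, hKU₁⟩, -⟩ := Cfsg.Agent.S1352.result hG L hL K₁ hK₁c hK₁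
  obtain ⟨-, -, -, -, -, hU1⟩ := Cfsg.Agent.Helper23.bg14_pkg hG hM hKU hK1
  obtain ⟨-, -, -, -, -, hU1L⟩ := Cfsg.Agent.Helper23.bg14_pkg hG hL hKU₁ hK₁1
  have use1 : Cfsg.Agent.Helper68.BGUse1 G :=
    fun M P H p hM hpp hpσ hp1 hPM hP hD hH hNP =>
      Cfsg.Agent.Helper24.bg13u_over_sigma hG hM hpp hpσ hp1 hPM hP hD hH hNP
  obtain ⟨h30, -, -⟩ := Cfsg.Agent.Helper68.bg14_1430_of_cyclic hG use1 L hL K₁ hK₁ hK₁1 hK₁c
  obtain ⟨Y, hYle, hYp⟩ := starc_exists_prime_le hKs1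
  obtain ⟨hCY, -⟩ := hU1 Y hYle hYp
  have hY1 : Y ≠ ⊥ := by
    intro h
    rw [h, Subgroup.card_bot] at hYp
    exact Nat.not_prime_one hYp
  obtain ⟨⟨y, hyY⟩, hy1'⟩ := (Subgroup.ne_bot_iff_exists_ne_one).mp hY1
  have hy1 : y ≠ 1 := fun h => hy1' (Subtype.ext h)
  have hcomm₁ := Cfsg.Agent.Helper68.bg14r_comm_of_cyclic hK₁c
  have hK₁M : K₁ ≤ M := by
    intro k hk
    apply hCY
    rw [mem_centralizer_iff]
    intro z hz
    exact hcomm₁ z (hle (hYle hz)) k hk
  have hyKs : y ∈ sigmaCore M ⊓ centralizer (K : Set G) := hYle hyY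
  have hyK₁ : y ∈ K₁ := hle hyKs
  have heq : sigmaCore L ⊓ M = sigmaCore L ⊓ centralizer (K₁ : Set G) := by
    apply le_antisymm
    · intro x hx
      have hxy : y * x = x * y := bg147_comm hM hL hnc hyKs.1 (hKsL hyKs) hx.1 hx.2
      have h1 : x ∈ sigmaCore L ⊓ centralizer ({y} : Set G) := by
        refine Subgroup.mem_inf.mpr ⟨hx.1, ?_⟩
        rw [mem_centralizer_iff]
        intro z hz
        rw [Set.mem_singleton_iff] at hz
        subst hz
        exact hxy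
      rw [h30 y hyK₁ hy1] at h1
      exact h1
    · intro x hx
      refine ⟨hx.1, hCY ?_⟩
      rw [mem_centralizer_iff]
      intro z hz
      exact mem_centralizer_iff.mp hx.2 z (hle (hYle hz))
  refine ⟨hK₁M, heq, ?_, ?_⟩
  · rw [← heq]
    intro x hx
    exact ⟨hXσ hx, hK.1 (hXK hx)⟩
  · rw [← heq]
    refine bg147_hall_absorb hK inf_le_right ?_ ?_
    · intro s hs hsd
      have hsL : s ∈ sigma L :=
        Cfsg.Agent.Helper23.mem_of_dvd_card_piCoreOf (sigma L) L hs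
          (hsd.trans (Subgroup.card_dvd_of_le inf_le_left))
      have hsM : s ∉ sigma M := by
        intro hsM
        obtain ⟨g, hg⟩ := (Cfsg.Agent.S1378.result hG).2 M L hM hL ⟨s, hsM, hsL⟩
        exact hnc g hg
      have : Fact s.Prime := ⟨hs⟩
      obtain ⟨⟨z, hz⟩, hzo⟩ := exists_prime_orderOf_dvd_card' (G := ↥(sigmaCore L ⊓ M)) s hsd
      have hzo' : orderOf z = s := by
        rw [← hzo]
        exact (Subgroup.orderOf_mk z hz).symm
      have hzc : z ∈ sigmaCore L ⊓ centralizer (K₁ : Set G) := heq ▸ hz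
      have hyz : y * z = z * y := mem_centralizer_iff.mp hzc.2 y hyK₁
      have hS₀le : zpowers z ≤ sigmaCore L ⊓ centralizer (K₁ : Set G) := by
        rw [zpowers_le]
        exact hzc
      have hS₀c : Nat.card (zpowers z) = s := by
        rw [Nat.card_zpowers, hzo']
      refine bg147_mem_kappa hM hs hsM ?_ hS₀c ?_ ?_
      · rw [zpowers_le]
        exact hz.2
      · intro hbot
        have hy : y ∈ sigmaCore M ⊓ centralizer ((zpowers z : Subgroup G) : Set G) := by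
          refine Subgroup.mem_inf.mpr ⟨hyKs.1, ?_⟩
          have h1 : zpowers z ≤ centralizer ({y} : Set G) := by
            rw [zpowers_le, mem_centralizer_iff]
            intro w hw
            rw [Set.mem_singleton_iff] at hw
            subst hw
            exact hyz
          rw [mem_centralizer_iff]
          intro w hw
          exact (mem_centralizer_iff.mp (h1 hw) y (Set.mem_singleton y)).symm
        rw [hbot] at hy
        exact hy1 (Subgroup.mem_bot.mp hy)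
      · refine ⟨L, hL, (hU1L (zpowers z) hS₀le (by rw [hS₀c]; exact hs)).1, ?_⟩
        intro hLM
        refine hnc 1 ?_
        rw [hLM]
        ext w
        simp [Subgroup.mem_map]
    · intro k hk
      have hkL : k ∈ normalizer ((sigmaCore L : Subgroup G) : Set G) :=
        Cfsg.Agent.Helper23.le_normalizer_piCoreOf (sigma L) L (hKL hk)
      have hkM : k ∈ M := hK.1 hk
      rw [mem_normalizer_iff] at hkL ⊢
      intro w
      constructor
      · intro hw
        exact ⟨(hkL w).mp hw.1, M.mul_mem (M.mul_mem hkM hw.2) (M.inv_mem hkM)⟩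
      · intro hw
        refine ⟨(hkL w).mpr hw.1, ?_⟩
        have h2 : w = k⁻¹ * (k * w * k⁻¹) * k := by group
        rw [h2]
        exact M.mul_mem (M.mul_mem (M.inv_mem hkM) hw.2) hkM

end Cfsg.Agent.Helper49
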