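/-
helper49: CALL S1351C piece CA.
-/
import Cfsg.Agent.Helper49.BGCDefs2
import Cfsg.Agent.Helper34.BG1210P4c

set_option autoImplicit false

namespace Cfsg.Agent.Helper49

open Cfsg Subgroup

universe u

variable {G : Type u} [Group G] [Finite G]

/-- CA. Case A: `H` has a nonregular `τ₃`-element; then (`StarAB` for `H`) every prime-order
subgroup `X` of a complement `EH` is normal in `EH` and all `C_{H_σ}(e)`, `e ∈ EH^#`, centralize
`X`. -/
theorem starc_caseA (hG : IsMinSimpleOddOrder G) (hAB : StarAB G) {H EH Q X : Subgroup G} {q : ℕ}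
    (hH : IsCoatom H) (hEH : IsComplIn EH (sigmaCore H) H) (hq : q ∈ tau3 H) (hQH : Q ≤ H)
    (hQ : Nat.card Q = q) (hQD : sigmaCore H ⊓ centralizer (Q : Set G) ≠ ⊥) (hXE : X ≤ EH)
    (hX : (Nat.card X).Prime) :
    EH ≤ normalizer (X : Set G) ∧
      ∀ e ∈ EH, e ≠ 1 → sigmaCore H ⊓ centralizer ({e} : Set G) ≤ centralizer (X : Set G) := by
  have hqp : q.Prime := hq.1
  have := Fact.mk hqp
  have hQq : IsPGroup q Q := IsPGroup.of_card (n := 1) (by rw [pow_one]; exact hQ)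
  obtain ⟨g, hgH, hg⟩ := Helper34.bg1210_conj_into_compl hEH hq.2.1 hQH hQq
  have hQ'E : Q.map (MulAut.conj g).toMonoidHom ≤ EH := by
    rintro _ ⟨x, hx, rfl⟩
    exact hg x hx
  have hQ'c : Nat.card (Q.map (MulAut.conj g).toMonoidHom) = q := by
    rw [Subgroup.card_map_of_injective (MulAut.conj g).injective]
    exact hQ
  have hQ'D : sigmaCore H ⊓ centralizer ((Q.map (MulAut.conj g).toMonoidHom : Subgroup G) : Set G)
      ≠ ⊥ := by
    obtain ⟨⟨d, hd⟩, hd1⟩ := (Subgroup.ne_bot_iff_exists_ne_one).mp hQD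
    have hd1' : d ≠ 1 := fun hx => hd1 (Subtype.ext hx)
    intro hb
    have hmem : g * d * g⁻¹ ∈
        sigmaCore H ⊓ centralizer ((Q.map (MulAut.conj g).toMonoidHom : Subgroup G) : Set G) := by
      refine ⟨(mem_normalizer_iff.mp (Helper23.le_normalizer_piCoreOf (sigma H) H hgH) d).mp hd.1,
        ?_⟩
      show g * d * g⁻¹ ∈ centralizer ((Q.map (MulAut.conj g).toMonoidHom : Subgroup G) : Set G)
      rw [Subgroup.mem_centralizer_iff]
      rintro _ ⟨x, hx, rfl⟩
      have hxd : x * d = d * x := Subgroup.mem_centralizer_iff.mp hd.2 x hx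
      show g * x * g⁻¹ * (g * d * g⁻¹) = g * d * g⁻¹ * (g * x * g⁻¹)
      calc g * x * g⁻¹ * (g * d * g⁻¹) = g * (x * d) * g⁻¹ := by group
        _ = g * (d * x) * g⁻¹ := by rw [hxd]
        _ = g * d * g⁻¹ * (g * x * g⁻¹) := by group
    rw [hb, Subgroup.mem_bot] at hmem
    apply hd1'
    have : d = g⁻¹ * (g * d * g⁻¹) * g := by group
    rw [this, hmem]; group
  obtain ⟨-, hpa, hnorm⟩ := hAB H EH _ q hH hEH hq hQ'E hQ'c hQ'D
  refine ⟨hnorm X hXE hX, ?_⟩
  intro e he he1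
  rw [hpa e he he1]
  exact inf_le_right.trans (Subgroup.centralizer_le (show (X : Set G) ⊆ EH from hXE))

end Cfsg.Agent.Helper49
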