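/-
helper49: CALL S1351C pieces HB and HI (via helper24's `bg13w_over`).
-/
import Cfsg.Agent.Helper49.BGCDefs2
import Cfsg.Agent.Helper24.BG13W
import Cfsg.Agent.S1378

set_option autoImplicit false

namespace Cfsg.Agent.Helper49

open Cfsg Subgroup

universe u

variable {G : Type u} [Group G] [Finite G]

/-- HB. A maximal subgroup `H` over `N_G(Y)`, `Y ≤ E` of prime order. -/
theorem starc_over_basic (hG : IsMinSimpleOddOrder G) {M E P : Subgroup G} {p : ℕ}
    (c : StarCtx M E P p) (hZne : starZ M E ≠ ⊥)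
    (hEp : ∀ q : ℕ, q.Prime → q ∣ Nat.card E → q ∉ sigma M ∧ PRankLE q 1 ↥M)
    {H Y : Subgroup G} (hH : IsCoatom H) (hYE : Y ≤ E) (hY : (Nat.card Y).Prime)
    (hNY : normalizer (Y : Set G) ≤ H) :
    Nat.card Y ∈ sigma H ∧ Y ≤ sigmaCore H ∧
      (∀ g : G, H ≠ M.map (MulAut.conj g).toMonoidHom) ∧
      (∀ q : ℕ, q ∈ sigma M → q ∉ sigma H) ∧ E ≤ H ∧ starZ M E ≤ H := by
  obtain ⟨hyσ, hy1⟩ := hEp _ hY (Subgroup.card_dvd_of_le hYE)
  have hZle : starZ M E ≤ sigmaCore M ⊓ centralizer (Y : Set G) :=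
    inf_le_inf_left _ (Subgroup.centralizer_le (show (Y : Set G) ⊆ E from hYE))
  have hZY : sigmaCore M ⊓ centralizer (Y : Set G) ≠ ⊥ := fun hb => hZne (le_bot_iff.mp (hb ▸ hZle))
  have hEY := c.normal Y hYE hY
  obtain ⟨h1, h2, h3, -, -, -, -⟩ :=
    Helper24.bg13w_over hG c.coatom c.compl hY hyσ hy1 hYE rfl hZY hEY hH hNY
  refine ⟨h1, h2, h3, ?_, hEY.trans hNY, ?_⟩
  · intro q hq hq'
    obtain ⟨g, hg⟩ := (Cfsg.Agent.S1378.result hG).2 M H c.coatom hH ⟨q, hq, hq'⟩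
    exact h3 g hg
  · exact (hZle.trans inf_le_right).trans ((Subgroup.centralizer_le_normalizer _).trans hNY)

/-- HI. `M_σ ∩ H_σ = 1`, `M_σ ∩ H = Z`, `M ∩ H = W`. -/
theorem starc_inf (hG : IsMinSimpleOddOrder G) {M E P : Subgroup G} {p : ℕ}
    (c : StarCtx M E P p)
    (hmem : ∀ w : G, w ∈ starW M E ↔ ∃ z ∈ starZ M E, ∃ e ∈ E, w = z * e)
    {H Y : Subgroup G} (hH : IsCoatom H) (hYE : Y ≤ E) (hY : (Nat.card Y).Prime)
    (hYσ : Y ≤ sigmaCore H) (hdisj : ∀ q : ℕ, q ∈ sigma M → q ∉ sigma H) (hEH : E ≤ H)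
    (hZH : starZ M E ≤ H) :
    sigmaCore M ⊓ sigmaCore H = ⊥ ∧ sigmaCore M ⊓ H = starZ M E ∧ M ⊓ H = starW M E := by
  have hEM : E ≤ M := c.compl.1
  have hσM : sigmaCore M ≤ M := Helper23.piCoreOf_le (sigma M) M
  have hσH : sigmaCore H ≤ H := Helper23.piCoreOf_le (sigma H) H
  -- `M_σ ∩ H_σ = 1`
  have h1 : sigmaCore M ⊓ sigmaCore H = ⊥ := by
    rw [eq_bot_iff]
    intro x hx
    rw [Subgroup.mem_bot]
    by_contra hx1
    have ho : orderOf x ≠ 1 := fun h => hx1 (orderOf_eq_one_iff.mp h)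
    obtain ⟨q, hq, hqd⟩ := Nat.exists_prime_and_dvd ho
    exact hdisj q (Helper54.bg14t_mem_sigma_of_dvd hx.1 hq hqd)
      (Helper54.bg14t_mem_sigma_of_dvd hx.2 hq hqd)
  -- a generator of `Y`
  have hYne : Y ≠ ⊥ := by
    intro hb
    rw [hb, Subgroup.card_bot] at hY
    exact Nat.not_prime_one hY
  obtain ⟨⟨y, hyY⟩, hy1⟩ := (Subgroup.ne_bot_iff_exists_ne_one).mp hYne
  have hy1' : y ≠ 1 := fun hx => hy1 (Subtype.ext hx)
  have hyE : y ∈ E := hYE hyY
  have h2 : sigmaCore M ⊓ H = starZ M E := by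
    apply le_antisymm
    · intro x hx
      have hxy : x * y * x⁻¹ * y⁻¹ ∈ sigmaCore M ⊓ sigmaCore H := by
        constructor
        · have h3 : y * x⁻¹ * y⁻¹ ∈ sigmaCore M :=
            (mem_normalizer_iff.mp (Helper23.le_normalizer_piCoreOf (sigma M) M (hEM hyE)) x⁻¹).mp
              ((sigmaCore M).inv_mem hx.1)
          have h4 : x * y * x⁻¹ * y⁻¹ = x * (y * x⁻¹ * y⁻¹) := by group
          rw [h4]
          exact (sigmaCore M).mul_mem hx.1 h3
        · have h3 : x * y * x⁻¹ ∈ sigmaCore H :=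
            (mem_normalizer_iff.mp (Helper23.le_normalizer_piCoreOf (sigma H) H hx.2) y).mp
              (hYσ hyY)
          exact (sigmaCore H).mul_mem h3 ((sigmaCore H).inv_mem (hYσ hyY))
      rw [h1, Subgroup.mem_bot] at hxy
      have hcomm : y * x = x * y := by
        calc y * x = (x * y * x⁻¹ * y⁻¹)⁻¹ * (x * y) := by group
          _ = x * y := by rw [hxy, inv_one, one_mul]
      have hxc : x ∈ sigmaCore M ⊓ centralizer ({y} : Set G) := by
        refine ⟨hx.1, ?_⟩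
        show x ∈ centralizer ({y} : Set G)
        rw [Subgroup.mem_centralizer_iff]
        intro z hz
        rw [Set.mem_singleton_iff] at hz
        rw [hz]
        exact hcomm
      rw [c.prime_act y hyE hy1'] at hxc
      exact hxc
    · exact le_inf inf_le_left hZH
  refine ⟨h1, h2, ?_⟩
  apply le_antisymm
  · intro m hm
    obtain ⟨a, ha, b, hb, rfl⟩ := c.compl.2.2.2 m hm.1
    have hbH : b ∈ H := by
      have h3 : b = a⁻¹ * (a * b) := by group
      rw [h3]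
      exact H.mul_mem (H.inv_mem (hEH ha)) hm.2
    have hbZ : b ∈ starZ M E := by
      rw [← h2]
      exact ⟨hb, hbH⟩
    exact Subgroup.mul_mem _ (Subgroup.mem_sup_right ha) (Subgroup.mem_sup_left hbZ)
  · refine sup_le ?_ ?_
    · exact le_inf ((show starZ M E ≤ sigmaCore M from inf_le_left).trans hσM) hZH
    · exact le_inf hEM hEH

end Cfsg.Agent.Helper49
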