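/-
helper49: CALL S1351C piece T2.
-/
import Cfsg.Agent.Helper49.BGCDefs2
import Cfsg.Agent.Helper24.BG13V
import Cfsg.Agent.Helper20.BG13P4
import Cfsg.Agent.S1420
import Cfsg.Agent.S1403

set_option autoImplicit false

namespace Cfsg.Agent.Helper49

open Cfsg Subgroup

universe u

variable {G : Type u} [Group G] [Finite G]

/-- Two normal subgroups of `E` of different prime orders commute elementwise. -/
theorem starc_comm_of_normal {E A B : Subgroup G} (hAE : A ≤ E) (hBE : B ≤ E)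
    (hA : (Nat.card A).Prime) (hB : (Nat.card B).Prime) (hne : Nat.card A ≠ Nat.card B)
    (hEA : E ≤ normalizer (A : Set G)) (hEB : E ≤ normalizer (B : Set G)) :
    ∀ x ∈ A, ∀ y ∈ B, x * y = y * x := by
  have := Fact.mk hA
  have := Fact.mk hB
  have hAp : IsPGroup (Nat.card A) A := IsPGroup.of_card (n := 1) (by rw [pow_one])
  have hBp : IsPGroup (Nat.card B) B := IsPGroup.of_card (n := 1) (by rw [pow_one])
  have hdisj : Disjoint A B := IsPGroup.disjoint_of_ne _ _ hne A B hAp hBp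
  intro x hx y hy
  have h1 : x * y * x⁻¹ * y⁻¹ ∈ A := by
    have h2 : y * x⁻¹ * y⁻¹ ∈ A :=
      (mem_normalizer_iff.mp (hEA (hBE hy)) x⁻¹).mp (A.inv_mem hx)
    have h3 : x * y * x⁻¹ * y⁻¹ = x * (y * x⁻¹ * y⁻¹) := by group
    rw [h3]
    exact A.mul_mem hx h2
  have h2 : x * y * x⁻¹ * y⁻¹ ∈ B := by
    have h3 : x * y * x⁻¹ ∈ B := (mem_normalizer_iff.mp (hEB (hAE hx)) y).mp hy
    exact B.mul_mem h3 (B.inv_mem hy)
  have h3 : x * y * x⁻¹ * y⁻¹ = 1 := Subgroup.disjoint_def.mp hdisj h1 h2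
  calc x * y = (x * y * x⁻¹ * y⁻¹) * (y * x) := by group
    _ = y * x := by rw [h3, one_mul]

/-- A subgroup of prime order has a non-identity element, and every element of the subgroup is a
power of it. -/
theorem starc_exists_gen {Q : Subgroup G} (hQ : (Nat.card Q).Prime) :
    ∃ x ∈ Q, x ≠ 1 ∧ orderOf x = Nat.card Q ∧ ∀ y ∈ Q, y ∈ zpowers x := by
  have := Fact.mk hQ
  have hQne : Q ≠ ⊥ := by
    intro hb
    rw [hb, Subgroup.card_bot] at hQ
    exact Nat.not_prime_one hQ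
  obtain ⟨⟨x, hxQ⟩, hx1⟩ := (Subgroup.ne_bot_iff_exists_ne_one).mp hQne
  have hx1' : x ≠ 1 := fun hx => hx1 (Subtype.ext hx)
  have htop : zpowers (⟨x, hxQ⟩ : ↥Q) = ⊤ := zpowers_eq_top_of_prime_card rfl hx1
  refine ⟨x, hxQ, hx1', ?_, ?_⟩
  · have h1 : orderOf (⟨x, hxQ⟩ : ↥Q) = Nat.card Q := by
      rw [← Nat.card_zpowers, htop, Subgroup.card_top]
    rwa [Subgroup.orderOf_mk] at h1
  · intro y hy
    have h1 : (⟨y, hy⟩ : ↥Q) ∈ zpowers (⟨x, hxQ⟩ : ↥Q) := by rw [htop]; exact Subgroup.mem_top _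
    obtain ⟨k, hk⟩ := Subgroup.mem_zpowers_iff.mp h1
    refine Subgroup.mem_zpowers_iff.mpr ⟨k, ?_⟩
    have := congrArg Subtype.val hk
    simpa using this

/-- T2. A prime-order subgroup `Q` of `E` with `|Q| ∉ σ(H)` centralizes a non-identity element of
`H_σ` and `H` has `|Q|`-rank one. -/
theorem starc_T2 (hG : IsMinSimpleOddOrder G) {M E P : Subgroup G} {p : ℕ} {H : Subgroup G}
    (h : StarHCtx M E P p H) {Q : Subgroup G} (hQE : Q ≤ E) (hQ : (Nat.card Q).Prime)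
    (hqσ : Nat.card Q ∉ sigma H) :
    sigmaCore H ⊓ centralizer (Q : Set G) ≠ ⊥ ∧ PRankLE (Nat.card Q) 1 ↥H := by
  have c := h.ctx
  have hU : Helper22.BGUniq G := fun K hK h1 h2 => Cfsg.Agent.S1403.result hG K hK h1 h2
  obtain ⟨Y, hYE, hY, hNY, hYσ, hYle⟩ := h.overY
  have hne : Nat.card Q ≠ Nat.card Y := fun he => hqσ (he ▸ hYσ)
  have hEQ := c.normal Q hQE hQ
  have hEY := c.normal Y hYE hY
  have hcomm := starc_comm_of_normal hQE hYE hQ hY hne hEQ hEY
  obtain ⟨y, hyY, hy1, -, -⟩ := starc_exists_gen hY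
  obtain ⟨x, hxQ, hx1, hxo, hxgen⟩ := starc_exists_gen hQ
  have hyc : y ∈ sigmaCore H ⊓ centralizer (Q : Set G) := by
    refine ⟨hYle hyY, ?_⟩
    show y ∈ centralizer (Q : Set G)
    rw [Subgroup.mem_centralizer_iff]
    intro z hz
    exact hcomm z hz y hyY
  have hfirst : sigmaCore H ⊓ centralizer (Q : Set G) ≠ ⊥ := by
    intro hb
    rw [hb, Subgroup.mem_bot] at hyc
    exact hy1 hyc
  refine ⟨hfirst, ?_⟩
  by_contra hrk1
  have hr2 : PRankLE (Nat.card Q) 2 ↥H :=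
    Helper22.bg10_pRank_of_not_alpha H _ hQ
      (fun hα => hqσ (Helper22.bg10_alpha_sub_sigma hG hU h.coatomH hα))
  have hτ2 : Nat.card Q ∈ tau2 H := ⟨hQ, hqσ, hr2, hrk1⟩
  -- a complement of `H_σ` (needed by the statement of S1420)
  obtain ⟨E', hE', -⟩ := Helper20.bg13_exists_compl_ge hG hU h.coatomH (bot_le : (⊥ : Subgroup G) ≤ H)
    (by rw [Subgroup.card_bot]; exact Nat.coprime_one_left _)
  have hxH : x ∈ H := h.E_le (hQE hxQ)
  have hprimes : ∀ p' : ℕ, p'.Prime → p' ∣ orderOf x → p' ∈ tau2 H := by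
    intro p' hp' hd
    rw [hxo] at hd
    have : p' = Nat.card Q := (Nat.prime_dvd_prime_iff_eq hp' hQ).mp hd
    rw [this]; exact hτ2
  have hhat : x ∈ sigmaHat H := ⟨hxH, y, hYle hyY, hy1, hcomm x hxQ y hyY⟩
  obtain ⟨hCx, huniq⟩ := (Cfsg.Agent.S1420.result hG H h.coatomH E' hE').2.2.2 x hxH hx1 hprimes hhat
  -- `C_G(Q) = C_G(x)`
  have hCeq : centralizer (Q : Set G) = centralizer ({x} : Set G) := by
    apply le_antisymm
    · exact Subgroup.centralizer_le (by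
        intro z hz
        rw [Set.mem_singleton_iff] at hz
        rw [hz]; exact hxQ)
    · intro g hg
      rw [Subgroup.mem_centralizer_iff]
      intro z hz
      obtain ⟨k, rfl⟩ := Subgroup.mem_zpowers_iff.mp (hxgen z hz)
      have hgx : x * g = g * x := Subgroup.mem_centralizer_iff.mp hg x (Set.mem_singleton x)
      exact ((Commute.zpow_left (show Commute x g from hgx) k)).eq
  have hNQ : normalizer (Q : Set G) ≤ H :=
    Helper24.bg13v_norm_le_of_cent_uniq hG h.coatomH (hCeq ▸ hCx)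
      (fun L' hL' hle => huniq L' hL' (hCeq ▸ hle))
  exact hqσ (h.over_sigma Q hQE hQ hNQ)

end Cfsg.Agent.Helper49
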