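/-
helper49: CALL S1351C piece IH.
-/
import Cfsg.Agent.Helper49.BGCT2

set_option autoImplicit false

namespace Cfsg.Agent.Helper49

open Cfsg Subgroup

universe u

variable {G : Type u} [Group G] [Finite G]

omit [Finite G] in
/-- Elements of the join of two elementwise commuting subgroups are products. -/
theorem starc_mem_sup_of_commute {A B : Subgroup G} (hc : ∀ a ∈ A, ∀ b ∈ B, a * b = b * a)
    {w : G} (hw : w ∈ A ⊔ B) : ∃ a ∈ A, ∃ b ∈ B, w = a * b := by
  let S : Subgroup G :=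
    { carrier := {w | ∃ a ∈ A, ∃ b ∈ B, w = a * b}
      one_mem' := ⟨1, A.one_mem, 1, B.one_mem, by simp⟩
      mul_mem' := by
        rintro _ _ ⟨a, ha, b, hb, rfl⟩ ⟨a', ha', b', hb', rfl⟩
        refine ⟨a * a', A.mul_mem ha ha', b * b', B.mul_mem hb hb', ?_⟩
        calc a * b * (a' * b') = a * (b * a') * b' := by group
          _ = a * (a' * b) * b' := by rw [hc a' ha' b hb]
          _ = a * a' * (b * b') := by group
      inv_mem' := by
        rintro _ ⟨a, ha, b, hb, rfl⟩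
        refine ⟨a⁻¹, A.inv_mem ha, b⁻¹, B.inv_mem hb, ?_⟩
        calc (a * b)⁻¹ = b⁻¹ * a⁻¹ := by group
          _ = a⁻¹ * b⁻¹ := (hc a⁻¹ (A.inv_mem ha) b⁻¹ (B.inv_mem hb)).symm }
  have hle : A ⊔ B ≤ S := by
    refine sup_le ?_ ?_
    · intro a ha
      exact ⟨a, ha, 1, B.one_mem, by simp⟩
    · intro b hb
      exact ⟨1, A.one_mem, b, hb, by simp⟩
  exact hle hw

/-- IH. Two members `H ≠ H'` with disjoint `σ`-sets meet inside `W`. -/
theorem starc_inf_HH (hG : IsMinSimpleOddOrder G) {M E P : Subgroup G} {p : ℕ}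
    {H H' : Subgroup G} (h : StarHCtx M E P p H) (h' : StarHCtx M E P p H')
    (hdisj : ∀ q : ℕ, q ∈ sigma H' → q ∉ sigma H)
    (hP : ∀ EH : Subgroup G, IsComplIn EH (sigmaCore H) H → starZ M E ≤ EH →
      EH ≤ M ∧ ∀ e ∈ EH, e ≠ 1 → sigmaCore H ⊓ centralizer ({e} : Set G) ≤ M) :
    H ⊓ H' ≤ starW M E := by
  have hU : Helper22.BGUniq G := fun K hK h1 h2 => Cfsg.Agent.S1403.result hG K hK h1 h2
  obtain ⟨Y', hY'E, hY', hNY', hY'σ, hY'le⟩ := h'.overY
  have hy'H : Nat.card Y' ∉ sigma H := hdisj _ hY'σ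
  -- `Z` and `Y'` commute elementwise
  have hZY : ∀ z ∈ starZ M E, ∀ y ∈ Y', z * y = y * z := by
    intro z hz y hy
    exact (Subgroup.mem_centralizer_iff.mp hz.2 y (hY'E hy)).symm
  -- `K = Z Y'` has order prime to `|H_σ|`
  have hKH : starZ M E ⊔ Y' ≤ H := sup_le h.Z_le (hY'E.trans h.E_le)
  have hcop : (Nat.card ↥(starZ M E ⊔ Y')).Coprime (Nat.card (sigmaCore H)) := by
    by_contra hc
    obtain ⟨q, hq, h1, h2⟩ := Nat.Prime.not_coprime_iff_dvd.mp hc
    have := Fact.mk hq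
    have hqH : q ∈ sigma H := Helper23.mem_of_dvd_card_piCoreOf (sigma H) H hq h2
    obtain ⟨⟨k, hkK⟩, hko⟩ := exists_prime_orderOf_dvd_card' (G := ↥(starZ M E ⊔ Y')) q h1
    have hko' : orderOf k = q := by rwa [Subgroup.orderOf_mk] at hko
    obtain ⟨z, hz, y, hy, rfl⟩ := starc_mem_sup_of_commute hZY hkK
    have hpow : (z * y) ^ (Nat.card (starZ M E) * Nat.card Y') = 1 := by
      rw [(show Commute z y from hZY z hz y hy).mul_pow]
      have hz1 : z ^ (Nat.card (starZ M E) * Nat.card Y') = 1 := by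
        rw [pow_mul]
        have : z ^ Nat.card (starZ M E) = 1 := by
          have := pow_card_eq_one' (G := ↥(starZ M E)) (x := ⟨z, hz⟩)
          exact congrArg Subtype.val this
        rw [this, one_pow]
      have hy1 : y ^ (Nat.card (starZ M E) * Nat.card Y') = 1 := by
        rw [mul_comm, pow_mul]
        have : y ^ Nat.card Y' = 1 := by
          have := pow_card_eq_one' (G := ↥Y') (x := ⟨y, hy⟩)
          exact congrArg Subtype.val this
        rw [this, one_pow]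
      rw [hz1, hy1, one_mul]
    have hdvd : q ∣ Nat.card (starZ M E) * Nat.card Y' := by
      rw [← hko']
      exact orderOf_dvd_of_pow_eq_one hpow
    rcases (Nat.Prime.dvd_mul hq).mp hdvd with hd | hd
    · have hqM : q ∈ sigma M :=
        Helper23.mem_of_dvd_card_piCoreOf (sigma M) M hq
          (hd.trans (Subgroup.card_dvd_of_le (show starZ M E ≤ sigmaCore M from inf_le_left)))
      exact h.sigma_disj q hqM hqH
    · have : q = Nat.card Y' := (Nat.prime_dvd_prime_iff_eq hq hY').mp hd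
      exact hy'H (this ▸ hqH)
  obtain ⟨EH, hEH, hKE⟩ := Helper20.bg13_exists_compl_ge hG hU h.coatomH hKH hcop
  obtain ⟨hEM, hact⟩ := hP EH hEH (le_sup_left.trans hKE)
  obtain ⟨y, hyY, hy1, -, -⟩ := starc_exists_gen hY'
  have hyEH : y ∈ EH := hKE (Subgroup.mem_sup_right hyY)
  have hyH : y ∈ H := hEH.1 hyEH
  -- `H_σ ∩ H'_σ = 1`
  have hσσ : ∀ x : G, x ∈ sigmaCore H → x ∈ sigmaCore H' → x = 1 := by
    intro x hx hx'
    by_contra hx1
    have ho : orderOf x ≠ 1 := fun h => hx1 (orderOf_eq_one_iff.mp h)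
    obtain ⟨q, hq, hqd⟩ := Nat.exists_prime_and_dvd ho
    exact hdisj q (Helper54.bg14t_mem_sigma_of_dvd hx' hq hqd)
      (Helper54.bg14t_mem_sigma_of_dvd hx hq hqd)
  intro m hm
  obtain ⟨a, ha, b, hb, rfl⟩ := hEH.2.2.2 m hm.1
  have haW : a ∈ starW M E := by
    rw [← h.inf_eq]
    exact ⟨hEM ha, hEH.1 ha⟩
  have haH' : a ∈ H' := by
    have : a ∈ M ⊓ H' := by rw [h'.inf_eq]; exact haW
    exact this.2
  have hbH' : b ∈ H' := by
    have h3 : b = a⁻¹ * (a * b) := by group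
    rw [h3]
    exact H'.mul_mem (H'.inv_mem haH') hm.2
  have hbH : b ∈ H := (Helper23.piCoreOf_le (sigma H) H) hb
  have hcomm1 : b * y * b⁻¹ * y⁻¹ = 1 := by
    apply hσσ
    · have h3 : y * b⁻¹ * y⁻¹ ∈ sigmaCore H :=
        (mem_normalizer_iff.mp (Helper23.le_normalizer_piCoreOf (sigma H) H hyH) b⁻¹).mp
          ((sigmaCore H).inv_mem hb)
      have h4 : b * y * b⁻¹ * y⁻¹ = b * (y * b⁻¹ * y⁻¹) := by group
      rw [h4]
      exact (sigmaCore H).mul_mem hb h3
    · have h3 : b * y * b⁻¹ ∈ sigmaCore H' :=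
        (mem_normalizer_iff.mp (Helper23.le_normalizer_piCoreOf (sigma H') H' hbH') y).mp
          (hY'le hyY)
      exact (sigmaCore H').mul_mem h3 ((sigmaCore H').inv_mem (hY'le hyY))
  have hyb : y * b = b * y := by
    calc y * b = (b * y * b⁻¹ * y⁻¹)⁻¹ * (b * y) := by group
      _ = b * y := by rw [hcomm1, inv_one, one_mul]
  have hbc : b ∈ sigmaCore H ⊓ centralizer ({y} : Set G) := by
    refine ⟨hb, ?_⟩
    show b ∈ centralizer ({y} : Set G)
    rw [Subgroup.mem_centralizer_iff]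
    intro z hz
    rw [Set.mem_singleton_iff] at hz
    rw [hz]
    exact hyb
  have hbM : b ∈ M := hact y hyEH hy1 hbc
  have hbW : b ∈ starW M E := by
    rw [← h.inf_eq]
    exact ⟨hbM, hbH⟩
  exact Subgroup.mul_mem _ haW hbW

end Cfsg.Agent.Helper49
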