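/-
helper49: CALL S1351C piece MG (via helper24's `bg13w_good`).
-/
import Cfsg.Agent.Helper49.BGCDefs2
import Cfsg.Agent.Helper24.BG13W

set_option autoImplicit false

namespace Cfsg.Agent.Helper49

open Cfsg Subgroup

universe u

variable {G : Type u} [Group G] [Finite G]

/-- MG. Non-identity elements of `M_σ ∩ W = Z` have their centralizer in `M`. -/
theorem starc_good_M (hG : IsMinSimpleOddOrder G) {M E P : Subgroup G} {p : ℕ}
    (c : StarCtx M E P p)
    (hmem : ∀ w : G, w ∈ starW M E ↔ ∃ z ∈ starZ M E, ∃ e ∈ E, w = z * e)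
    (hZ : starZ M E = sigmaCore M ⊓ centralizer (P : Set G)) :
    ∀ d ∈ sigmaCore M ⊓ starW M E, d ≠ 1 → centralizer ({d} : Set G) ≤ M := by
  intro d hd hd1
  obtain ⟨z, hz, e, he, rfl⟩ := (hmem d).mp hd.2
  have hzσ : z ∈ sigmaCore M := (show starZ M E ≤ sigmaCore M from inf_le_left) hz
  have heσ : e ∈ sigmaCore M := by
    have h3 : e = z⁻¹ * (z * e) := by group
    rw [h3]
    exact (sigmaCore M).mul_mem ((sigmaCore M).inv_mem hzσ) hd.1
  have he1 : e = 1 := by
    have : e ∈ E ⊓ sigmaCore M := ⟨he, heσ⟩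
    rw [c.compl.2.2.1] at this
    exact Subgroup.mem_bot.mp this
  subst he1
  rw [mul_one] at hd1 ⊢
  rw [hZ] at hz
  exact Helper24.bg13w_good hG c.coatom c.tau3.1 c.tau3.2.1 c.tau3.2.2.2 (c.PE.trans c.compl.1)
    c.cardP hz hd1

end Cfsg.Agent.Helper49
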