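/-
helper49: CALL S1351C piece NN3.
-/
import Cfsg.Agent.Helper49.BGCDefs2
import Cfsg.Agent.Helper49.OddCyclic
import Cfsg.Agent.Helper20.BG13P4
import Cfsg.Agent.Helper21.PRank
import Cfsg.Agent.S1427
import Cfsg.Agent.S1403

set_option autoImplicit false

namespace Cfsg.Agent.Helper49

open Cfsg Subgroup

universe u

variable {G : Type u} [Group G] [Finite G]

/-- NN3. With `Q ≤ H_σ`: the prime `r` is in `σ(H)` (S1427 in `H`). -/
theorem starc_r_sigma (hG : IsMinSimpleOddOrder G) {M E P : Subgroup G} {p : ℕ} {H : Subgroup G}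
    (h : StarHCtx M E P p H) {r : ℕ} {Q S R : Subgroup G} (hr : r.Prime) (hrp : r ≠ p)
    (hQE : Q ≤ E) (hQp : IsPGroup p Q) (hEQ : E ≤ normalizer (Q : Set G)) (hSE : S ≤ E)
    (hSr : IsPGroup r S) (hnc : ¬ S ≤ centralizer (Q : Set G)) (hRS : R ≤ S)
    (hR : Nat.card R = r) (hQσ : Q ≤ sigmaCore H) (hrk : r ∉ sigma H → PRankLE r 1 ↥H) :
    r ∈ sigma H := by
  by_contra hrσ
  have hrk1 := hrk hrσ
  have c := h.ctx
  have := Fact.mk hr
  have hU : Helper22.BGUniq G := fun K hK h1 h2 => Cfsg.Agent.S1403.result hG K hK h1 h2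
  have hRE : R ≤ E := hRS.trans hSE
  have hRr : IsPGroup r R := hSr.to_le hRS
  -- `R` centralizes `Q`
  have hER : E ≤ normalizer (R : Set G) := c.normal R hRE (by rw [hR]; exact hr)
  have := Fact.mk c.tau3.1
  have hdisj : Disjoint R Q := IsPGroup.disjoint_of_ne r p hrp R Q hRr hQp
  have hRQ : ∀ x ∈ R, ∀ y ∈ Q, x * y = y * x := by
    intro x hx y hy
    have h1 : x * y * x⁻¹ * y⁻¹ ∈ R := by
      have h2 : y * x⁻¹ * y⁻¹ ∈ R :=
        (mem_normalizer_iff.mp (hER (hQE hy)) x⁻¹).mp (R.inv_mem hx)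
      have h3 : x * y * x⁻¹ * y⁻¹ = x * (y * x⁻¹ * y⁻¹) := by group
      rw [h3]
      exact R.mul_mem hx h2
    have h2 : x * y * x⁻¹ * y⁻¹ ∈ Q := by
      have h3 : x * y * x⁻¹ ∈ Q := (mem_normalizer_iff.mp (hEQ (hRE hx)) y).mp hy
      exact Q.mul_mem h3 (Q.inv_mem hy)
    have h3 : x * y * x⁻¹ * y⁻¹ = 1 := by
      have := Subgroup.disjoint_def.mp hdisj h1 h2
      exact this
    calc x * y = (x * y * x⁻¹ * y⁻¹) * (y * x) := by group
      _ = y * x := by rw [h3, one_mul]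
  -- a complement of `H_σ` containing `S`
  have hSH : S ≤ H := hSE.trans h.E_le
  have hcop : (Nat.card S).Coprime (Nat.card (sigmaCore H)) := by
    obtain ⟨n, hn⟩ := IsPGroup.iff_card.mp hSr
    rw [hn]
    apply Nat.Coprime.pow_left
    exact (Nat.Prime.coprime_iff_not_dvd hr).mpr
      (fun hd => hrσ (Helper23.mem_of_dvd_card_piCoreOf (sigma H) H hr hd))
  obtain ⟨E', hE', hSE'⟩ := Helper20.bg13_exists_compl_ge hG hU h.coatomH hSH hcop
  have hE'H : E' ≤ H := hE'.1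
  -- a Sylow `r`-subgroup of `E'` containing `S`
  have hS' : IsPGroup r (S.subgroupOf E') := hSr.comap_subtype
  obtain ⟨Sy, hSy⟩ := hS'.exists_le_sylow
  -- a generator of `R`
  have hRne : R ≠ ⊥ := by
    intro hb
    rw [hb, Subgroup.card_bot] at hR
    exact hr.one_lt.ne hR
  obtain ⟨⟨x, hxR⟩, hx1⟩ := (Subgroup.ne_bot_iff_exists_ne_one).mp hRne
  have hx1' : x ≠ 1 := fun hx => hx1 (Subtype.ext hx)
  have hxmap : x ∈ (Sy : Subgroup ↥E').map E'.subtype := by
    refine ⟨⟨x, hSE' (hRS hxR)⟩, ?_, rfl⟩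
    apply hSy
    rw [Subgroup.mem_subgroupOf]
    exact hRS hxR
  have hSy1 : (Sy : Subgroup ↥E') ≠ ⊥ := by
    intro hb
    obtain ⟨y, hy, hyx⟩ := hxmap
    rw [hb] at hy
    have hy' : y = 1 := Subgroup.mem_bot.mp hy
    rw [hy'] at hyx
    exact hx1' hyx.symm
  have hodd : r ≠ 2 := by
    rintro rfl
    have ho := Helper23.uq_odd hG R
    rw [hR] at ho
    exact (Nat.not_even_iff_odd.mpr ho) even_two
  have hSyc : IsCyclic ↥(Sy : Subgroup ↥E') := by
    apply isCyclic_of_pRankLE_one hodd Sy.isPGroup'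
    exact Helper21.pRankLE_of_injective
      ((Subgroup.inclusion hE'H).comp (Sy : Subgroup ↥E').subtype)
      ((Subgroup.inclusion_injective hE'H).comp (Subgroup.subtype_injective _)) hrk1
  have key := Cfsg.Agent.S1427.result hG H h.coatomH E' hE' r Sy hSy1 hSyc x hxmap hx1'
  apply hnc
  intro s hs
  rw [Subgroup.mem_centralizer_iff]
  intro y hy
  have hyc : y ∈ sigmaCore H ⊓ centralizer ({x} : Set G) := by
    refine ⟨hQσ hy, ?_⟩
    show y ∈ centralizer ({x} : Set G)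
    rw [Subgroup.mem_centralizer_iff]
    intro z hz
    rw [Set.mem_singleton_iff] at hz
    rw [hz]
    exact hRQ x hxR y hy
  rw [key] at hyc
  have hsmap : s ∈ (Sy : Subgroup ↥E').map E'.subtype := by
    refine ⟨⟨s, hSE' hs⟩, ?_, rfl⟩
    apply hSy
    rw [Subgroup.mem_subgroupOf]
    exact hs
  exact (Subgroup.mem_centralizer_iff.mp hyc.2 s hsmap).symm

end Cfsg.Agent.Helper49
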