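/-
helper49: CALL S1351C piece OE (via helper24's `bg13w_eq_of_conj`).
-/
import Cfsg.Agent.Helper49.BGCDefs2
import Cfsg.Agent.Helper24.BG13W
import Cfsg.Agent.S1378

set_option autoImplicit false

namespace Cfsg.Agent.Helper49

open Cfsg Subgroup

universe u

variable {G : Type u} [Group G] [Finite G]

/-- OE. Two maximal subgroups with a common `σ`-prime, one of them over `N_G(Y')` for a subgroup
`Y'` of prime order of the other, are equal (S1378 + S1404). -/
theorem starc_over_eq (hG : IsMinSimpleOddOrder G) {H H' Y' : Subgroup G} (hH : IsCoatom H)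
    (hH' : IsCoatom H') {q : ℕ} (hq : q ∈ sigma H) (hq' : q ∈ sigma H') (hY'H : Y' ≤ H)
    (hY' : (Nat.card Y').Prime) (hY'σ : Nat.card Y' ∈ sigma H')
    (hN : normalizer (Y' : Set G) ≤ H') : H = H' := by
  obtain ⟨g, hg⟩ := (Cfsg.Agent.S1378.result hG).2 H H' hH hH' ⟨q, hq, hq'⟩
  have hyσ : Nat.card Y' ∈ sigma H := Helper24.bg13v_sigma_of_map_conj hg hY'σ
  have := Fact.mk hY'
  have hY'q : IsPGroup (Nat.card Y') Y' := IsPGroup.of_card (n := 1) (by rw [pow_one])
  have hY'1 : Y' ≠ ⊥ := by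
    intro hb
    rw [hb, Subgroup.card_bot] at hY'
    exact Nat.not_prime_one hY'
  exact (Helper24.bg13w_eq_of_conj hG hH hyσ hY'H hY'q hY'1 hN hg).symm

end Cfsg.Agent.Helper49
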