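/-
helper49: CALL S1351C small pieces ME, MW, MP, MS, PM (own copies, for the assembly).
-/
import Cfsg.Agent.Helper49.BGCIH
import Cfsg.Agent.Helper22.BG12a
import Cfsg.Agent.S1426

set_option autoImplicit false

namespace Cfsg.Agent.Helper49

open Cfsg Subgroup

universe u

variable {G : Type u} [Group G] [Finite G]

/-- ME. Primes of `|E|` are outside `σ(M)` and of rank one in `M` (`τ₂(M) = ∅`). -/
theorem starc_E_primes (hG : IsMinSimpleOddOrder G) {M E P : Subgroup G} {p : ℕ}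
    (c : StarCtx M E P p) :
    ∀ q : ℕ, q.Prime → q ∣ Nat.card E → q ∉ sigma M ∧ PRankLE q 1 ↥M := by
  intro q hq hd
  have hU : Helper22.BGUniq G := fun K hK h1 h2 => Cfsg.Agent.S1403.result hG K hK h1 h2
  have hqσ : q ∉ sigma M := Helper22.bg12_not_sigma_of_dvd hG hU c.coatom c.compl hq hd
  have hr2 : PRankLE q 2 ↥M :=
    Helper22.bg10_pRank_of_not_alpha M q hq
      (fun hα => hqσ (Helper22.bg10_alpha_sub_sigma hG hU c.coatom hα))
  refine ⟨hqσ, ?_⟩
  by_contra hrk
  have : q ∈ tau2 M := ⟨hq, hqσ, hr2, hrk⟩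
  rw [c.tau2] at this
  exact this

omit [Finite G] in
/-- MW (pure). `W = Z E` elementwise (`Z` centralizes `E`). -/
theorem starc_mem_W {M E : Subgroup G} (w : G) :
    w ∈ starW M E ↔ ∃ z ∈ starZ M E, ∃ e ∈ E, w = z * e := by
  constructor
  · intro hw
    have hc : ∀ z ∈ starZ M E, ∀ e ∈ E, z * e = e * z :=
      fun z hz e he => (Subgroup.mem_centralizer_iff.mp hz.2 e he).symm
    exact starc_mem_sup_of_commute (A := starZ M E) (B := E) hc hw
  · rintro ⟨z, hz, e, he, rfl⟩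
    exact Subgroup.mul_mem _ (Subgroup.mem_sup_left hz) (Subgroup.mem_sup_right he)

/-- MP. `M_σ` is not contained in `W`. -/
theorem starc_proper_M (hG : IsMinSimpleOddOrder G) {M E P : Subgroup G} {p : ℕ}
    (c : StarCtx M E P p)
    (hmem : ∀ w : G, w ∈ starW M E ↔ ∃ z ∈ starZ M E, ∃ e ∈ E, w = z * e)
    (hZne : starZ M E ≠ ⊥) : ¬ sigmaCore M ≤ starW M E := by
  intro hle
  have hcent : sigmaCore M ≤ centralizer (E : Set G) := by
    intro x hx
    obtain ⟨z, hz, e, he, rfl⟩ := (hmem x).mp (hle hx)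
    have hzσ : z ∈ sigmaCore M := (show starZ M E ≤ sigmaCore M from inf_le_left) hz
    have heσ : e ∈ sigmaCore M := by
      have h3 : e = z⁻¹ * (z * e) := by group
      rw [h3]
      exact (sigmaCore M).mul_mem ((sigmaCore M).inv_mem hzσ) hx
    have he1 : e = 1 := by
      have : e ∈ E ⊓ sigmaCore M := ⟨he, heσ⟩
      rw [c.compl.2.2.1] at this
      exact Subgroup.mem_bot.mp this
    rw [he1, mul_one]
    exact hz.2
  have h1 : ⁅sigmaCore M, E⁆ = ⊥ := Subgroup.commutator_eq_bot_iff_le_centralizer.mpr hcent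
  have h2 : ⁅sigmaCore M, E⁆ = sigmaCore M := (Cfsg.Agent.S1426.result hG M c.coatom E c.compl).2.1
  have h3 : sigmaCore M = ⊥ := by rw [← h2, h1]
  apply hZne
  rw [eq_bot_iff, ← h3]
  exact inf_le_left

omit [Finite G] in
/-- MS. `M = M_σ W`. -/
theorem starc_sup_M {M E P : Subgroup G} {p : ℕ} (c : StarCtx M E P p) :
    ∀ m ∈ M, ∃ n ∈ sigmaCore M, ∃ w ∈ starW M E, m = n * w := by
  intro m hm
  obtain ⟨a, ha, b, hb, rfl⟩ := c.compl.2.2.2 m hm
  refine ⟨a * b * a⁻¹, ?_, a, Subgroup.mem_sup_right ha, by group⟩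
  exact (mem_normalizer_iff.mp (Helper23.le_normalizer_piCoreOf (sigma M) M (c.compl.1 ha)) b).mp hb

/-- PM. A prime of `|W|` is in `σ(M)` or is the order of a subgroup of `E`. -/
theorem starc_prime_mem {M E P : Subgroup G} {p : ℕ} (c : StarCtx M E P p)
    (hmem : ∀ w : G, w ∈ starW M E ↔ ∃ z ∈ starZ M E, ∃ e ∈ E, w = z * e) :
    ∀ q : ℕ, q.Prime → q ∣ Nat.card (starW M E) →
      q ∈ sigma M ∨ ∃ Y : Subgroup G, Y ≤ E ∧ Nat.card Y = q := by
  intro q hq hd
  have := Fact.mk hq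
  obtain ⟨⟨k, hkW⟩, hko⟩ := exists_prime_orderOf_dvd_card' (G := ↥(starW M E)) q hd
  have hko' : orderOf k = q := by rwa [Subgroup.orderOf_mk] at hko
  obtain ⟨z, hz, e, he, rfl⟩ := (hmem k).mp hkW
  have hze : Commute z e := (Subgroup.mem_centralizer_iff.mp hz.2 e he).symm
  have hpow : (z * e) ^ (Nat.card (starZ M E) * Nat.card E) = 1 := by
    rw [hze.mul_pow]
    have hz1 : z ^ (Nat.card (starZ M E) * Nat.card E) = 1 := by
      rw [pow_mul]
      have : z ^ Nat.card (starZ M E) = 1 := by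
        have := pow_card_eq_one' (G := ↥(starZ M E)) (x := ⟨z, hz⟩)
        exact congrArg Subtype.val this
      rw [this, one_pow]
    have he1 : e ^ (Nat.card (starZ M E) * Nat.card E) = 1 := by
      rw [mul_comm, pow_mul]
      have : e ^ Nat.card E = 1 := by
        have := pow_card_eq_one' (G := ↥E) (x := ⟨e, he⟩)
        exact congrArg Subtype.val this
      rw [this, one_pow]
    rw [hz1, he1, one_mul]
  have hdvd : q ∣ Nat.card (starZ M E) * Nat.card E := by
    rw [← hko']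
    exact orderOf_dvd_of_pow_eq_one hpow
  rcases (Nat.Prime.dvd_mul hq).mp hdvd with hd' | hd'
  · left
    exact Helper23.mem_of_dvd_card_piCoreOf (sigma M) M hq
      (hd'.trans (Subgroup.card_dvd_of_le (show starZ M E ≤ sigmaCore M from inf_le_left)))
  · right
    obtain ⟨⟨y, hyE⟩, hyo⟩ := exists_prime_orderOf_dvd_card' (G := ↥E) q hd'
    have hyo' : orderOf y = q := by rwa [Subgroup.orderOf_mk] at hyo
    refine ⟨zpowers y, ?_, ?_⟩
    · rw [zpowers_le]; exact hyE
    · rw [Nat.card_zpowers, hyo']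

end Cfsg.Agent.Helper49
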