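/-
helper49: S1351 part (C) assembly: `StarAB G` ⟹ a `StarFamily` with two members
(pieces of CALL S1351C by helper25, helper62, helper68, helper73 and helper49).
-/
import Cfsg.Agent.Helper49.BGCSmall
import Cfsg.Agent.Helper49.BGCMG
import Cfsg.Agent.Helper49.BGCHB
import Cfsg.Agent.Helper49.BGCT2
import Cfsg.Agent.Helper49.BGCCA
import Cfsg.Agent.Helper49.BGCNN3
import Cfsg.Agent.Helper49.BGCGH
import Cfsg.Agent.Helper49.BGCOE
import Cfsg.Agent.Helper49.BGCIH
import Cfsg.Agent.Helper73.BGCMZ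
import Cfsg.Agent.Helper73.BGCNN4
import Cfsg.Agent.Helper62.BGCHX
import Cfsg.Agent.Helper25.BGCNN1
import Cfsg.Agent.Helper68.BGCCB1
import Cfsg.Agent.Helper68.BGCCB2
import Cfsg.Agent.Helper20.BG13P4
import Cfsg.Agent.Helper98.BG14HM
import Cfsg.Agent.Helper22.BG12b
import Cfsg.Agent.S1403

set_option autoImplicit false

namespace Cfsg.Agent.Helper49

open Cfsg Subgroup

universe u

variable {G : Type u} [Group G] [Finite G]

/-- The context of a member `H ≠ M`. -/
theorem starc_hctx (hG : IsMinSimpleOddOrder G) {M E P : Subgroup G} {p : ℕ}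
    (c : StarCtx M E P p) {H : Subgroup G} (hH : StarOver E H) : StarHCtx M E P p H := by
  obtain ⟨hHc, Y, hYE, hY, hNY⟩ := hH
  obtain ⟨hZeq, hZne⟩ := Helper73.starc_Z c
  have hEp := starc_E_primes hG c
  have hmem := starc_mem_W (M := M) (E := E)
  obtain ⟨hYσ, hYle, hnc, hdisj, hEH, hZH⟩ := starc_over_basic hG c hZne hEp hHc hYE hY hNY
  obtain ⟨h1, h2, h3⟩ := starc_inf hG c hmem hHc hYE hY hYle hdisj hEH hZH
  have hpp : p.Prime := c.tau3.1
  refine { ctx := c, coatomH := hHc, Z_ne := hZne, Z_eq := hZeq, E_primes := hEp, nconj := hnc,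
           sigma_disj := hdisj, E_le := hEH, Z_le := hZH,
           overY := ⟨Y, hYE, hY, hNY, hYσ, hYle⟩, over_sigma := ?_, X_norm := ?_,
           sigma_inf := h1, inf_sigma := h2, inf_eq := h3, mem_W := hmem }
  · intro Q hQE hQ hNQ
    exact (starc_over_basic hG c hZne hEp hHc hQE hQ hNQ).1
  · intro X hXZ hX
    exact Helper24.bg13u_star_norm_le hG c.coatom hpp c.tau3.2.1 c.tau3.2.2.2
      (c.PE.trans c.compl.1) c.cardP hX rfl (hZeq ▸ hXZ)

/-- CLAIM P: a complement of `H_σ` in `H` containing `Z` lies in `M`, and the centralizers in `H_σ`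
of its non-identity elements lie in `M`. -/
theorem starc_claimP (hG : IsMinSimpleOddOrder G) (hAB : StarAB G) {M E P : Subgroup G} {p : ℕ}
    {H : Subgroup G} (h : StarHCtx M E P p H) :
    ∀ EH : Subgroup G, IsComplIn EH (sigmaCore H) H → starZ M E ≤ EH →
      EH ≤ M ∧ ∀ e ∈ EH, e ≠ 1 → sigmaCore H ⊓ centralizer ({e} : Set G) ≤ M := by
  intro EH hEH hZE
  have c := h.ctx
  obtain ⟨X, hXZ, hX⟩ := starc_exists_prime_le h.Z_ne
  have hXN := h.X_norm X hXZ hX
  have hXE : X ≤ EH := hXZ.trans hZE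
  have hCN : centralizer (X : Set G) ≤ normalizer (X : Set G) := Subgroup.centralizer_le_normalizer _
  by_cases hA : ∃ (q : ℕ) (Q : Subgroup G), q ∈ tau3 H ∧ Q ≤ H ∧ Nat.card Q = q ∧
      sigmaCore H ⊓ centralizer (Q : Set G) ≠ ⊥
  · obtain ⟨q, Q, hq, hQH, hQ, hQD⟩ := hA
    obtain ⟨h1, h2⟩ := starc_caseA hG hAB h.coatomH hEH hq hQH hQ hQD hXE hX
    exact ⟨h1.trans hXN, fun e he he1 => (h2 e he he1).trans (hCN.trans hXN)⟩
  · have hB : ∀ (q : ℕ) (Q : Subgroup G), q ∈ tau3 H → Q ≤ H → Nat.card Q = q →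
        sigmaCore H ⊓ centralizer (Q : Set G) = ⊥ := by
      intro q Q hq hQH hQ
      by_contra hne
      exact hA ⟨q, Q, hq, hQH, hQ, hne⟩
    obtain ⟨r, Q, S, R, hr, hrp, hQE, hQp, hEQ, hSE, hSr, hnc, hRS, hR, hPc⟩ := Helper25.starc_noncomm hG c
    have hpp : p.Prime := c.tau3.1
    have hU : Helper22.BGUniq G := fun K hK h1 h2 => Cfsg.Agent.S1403.result hG K hK h1 h2
    have hpσ : p ∈ sigma H := by
      by_contra hpσ
      have hPp : (Nat.card P).Prime := by rw [c.cardP]; exact hpp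
      obtain ⟨hne, hrk⟩ := starc_T2 hG h c.PE hPp (by rw [c.cardP]; exact hpσ)
      rw [c.cardP] at hrk
      have hdvd : p ∣ Nat.card ↥⁅H, H⁆ := by
        have hPH' : P ≤ ⁅H, H⁆ := hPc.trans (Subgroup.commutator_mono h.E_le h.E_le)
        have := Subgroup.card_dvd_of_le hPH'
        rwa [c.cardP] at this
      exact hne (hB p P ⟨hpp, hpσ, hdvd, hrk⟩ (c.PE.trans h.E_le) c.cardP)
    have hQσ : Q ≤ sigmaCore H :=
      Helper22.bg12_le_sigmaCore hG hU h.coatomH hpp hpσ (hQE.trans h.E_le) hQp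
    have hRE : R ≤ E := hRS.trans hSE
    have hRp : (Nat.card R).Prime := by rw [hR]; exact hr
    have hrσ : r ∈ sigma H :=
      starc_r_sigma hG h hr hrp hQE hQp hEQ hSE hSr hnc hRS hR hQσ (fun hrσ => by
        have := (starc_T2 hG h hRE hRp (by rw [hR]; exact hrσ)).2
        rwa [hR] at this)
    have hSσ : S ≤ sigmaCore H :=
      Helper22.bg12_le_sigmaCore hG hU h.coatomH hr hrσ (hSE.trans h.E_le) hSr
    have hnil := Helper73.starc_not_nilp_of hpp hr hrp hQp hSr hQσ hSσ hnc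
    obtain ⟨hcyc, hτ⟩ := Helper68.starc_cyclic_compl hG h.coatomH hEH hB hnil
    have h2 := Helper68.starc_cyclic_concl hG h.coatomH hEH hcyc hτ hXE hX
    have hEC : EH ≤ centralizer (X : Set G) := by
      intro e he
      rw [Subgroup.mem_centralizer_iff]
      intro x hx
      have := (IsCyclic.isMulCommutative (α := ↥EH)).is_comm.comm ⟨x, hXE hx⟩ ⟨e, he⟩
      exact congrArg Subtype.val this
    exact ⟨hEC.trans (hCN.trans hXN), fun e he he1 => (h2 e he he1).trans (hCN.trans hXN)⟩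

/-- `H = H_σ W` for a member `H ≠ M`. -/
theorem starc_sup_H (hG : IsMinSimpleOddOrder G) (hAB : StarAB G) {M E P : Subgroup G} {p : ℕ}
    {H : Subgroup G} (h : StarHCtx M E P p H) :
    ∀ m ∈ H, ∃ n ∈ sigmaCore H, ∃ w ∈ starW M E, m = n * w := by
  have hU : Helper22.BGUniq G := fun K hK h1 h2 => Cfsg.Agent.S1403.result hG K hK h1 h2
  have hcop : (Nat.card (starZ M E)).Coprime (Nat.card (sigmaCore H)) := by
    by_contra hc
    obtain ⟨q, hq, h1, h2⟩ := Nat.Prime.not_coprime_iff_dvd.mp hc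
    have hqM : q ∈ sigma M :=
      Helper23.mem_of_dvd_card_piCoreOf (sigma M) M hq
        (h1.trans (Subgroup.card_dvd_of_le (show starZ M E ≤ sigmaCore M from inf_le_left)))
    exact h.sigma_disj q hqM (Helper23.mem_of_dvd_card_piCoreOf (sigma H) H hq h2)
  obtain ⟨EH, hEH, hZE⟩ := Helper20.bg13_exists_compl_ge hG hU h.coatomH h.Z_le hcop
  obtain ⟨hEM, -⟩ := starc_claimP hG hAB h EH hEH hZE
  intro m hm
  obtain ⟨a, ha, b, hb, rfl⟩ := hEH.2.2.2 m hm
  have haH : a ∈ H := hEH.1 ha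
  refine ⟨a * b * a⁻¹, ?_, a, ?_, by group⟩
  · exact (mem_normalizer_iff.mp (Helper23.le_normalizer_piCoreOf (sigma H) H haH) b).mp hb
  · rw [← h.inf_eq]
    exact ⟨hEM ha, haH⟩

/-- **Part (C) of S1351**: from the output `StarAB` of parts (A)+(B), a nonregular `τ₃`-element
gives a `StarFamily` with at least two members. -/
theorem star_exists_of_AB (hG : IsMinSimpleOddOrder G) (hAB : StarAB G) {M P : Subgroup G} {p : ℕ}
    (hM : IsCoatom M) (hp : p ∈ tau3 M) (hPM : P ≤ M) (hP : Nat.card P = p)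
    (hD : sigmaCore M ⊓ centralizer (P : Set G) ≠ ⊥) :
    ∃ (ι : Type u) (_ : Finite ι) (Mf : ι → Subgroup G) (W : Subgroup G),
      Helper1.StarFamily Mf W ∧ ∃ j k : ι, j ≠ k := by
  have hU : Helper22.BGUniq G := fun K hK h1 h2 => Cfsg.Agent.S1403.result hG K hK h1 h2
  have hpp : p.Prime := hp.1
  have hcop : (Nat.card P).Coprime (Nat.card (sigmaCore M)) := by
    rw [hP]
    exact (Nat.Prime.coprime_iff_not_dvd hpp).mpr
      (fun hd => hp.2.1 (Helper23.mem_of_dvd_card_piCoreOf (sigma M) M hpp hd))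
  obtain ⟨E, hE, hPE⟩ := Helper20.bg13_exists_compl_ge hG hU hM hPM hcop
  obtain ⟨a1, a2, a3⟩ := hAB M E P p hM hE hp hPE hP hD
  have c : StarCtx M E P p := ⟨hM, hE, hp, hPE, hP, hD, a1, a2, a3⟩
  obtain ⟨hZeq, hZne⟩ := Helper73.starc_Z c
  have hEp := starc_E_primes hG c
  have hmem := starc_mem_W (M := M) (E := E)
  have hctx : ∀ H : Subgroup G, StarOver E H → StarHCtx M E P p H := fun H hH => starc_hctx hG c hH
  have hneM : ∀ H : Subgroup G, StarOver E H → H ≠ M := by
    intro H hH hHM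
    apply (hctx H hH).nconj 1
    rw [hHM]
    ext x
    simp
  -- existence of a member over `N_G(Y)`
  have hex : ∀ (q : ℕ) (Y : Subgroup G), q.Prime → Y ≤ E → Nat.card Y = q →
      ∃ H : Subgroup G, StarOver E H ∧ q ∈ sigma H := by
    intro q Y hq hYE hY
    have := Fact.mk hq
    have hqE : q ∣ Nat.card E := by rw [← hY]; exact Subgroup.card_dvd_of_le hYE
    obtain ⟨hqσ, hq1⟩ := hEp q hq hqE
    obtain ⟨H, hH, hNH, -⟩ := Helper98.bg14_exists_coatom hG hM hqσ hq1 hY
    have hYp : (Nat.card Y).Prime := by rw [hY]; exact hq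
    have hO : StarOver E H := ⟨hH, Y, hYE, hYp, hNH⟩
    refine ⟨H, hO, ?_⟩
    have := (hctx H hO).over_sigma Y hYE hYp hNH
    rwa [hY] at this
  -- pair facts
  have hpair : ∀ L L' : Subgroup G, L ∈ starSet M E → L' ∈ starSet M E → L ≠ L' →
      (∀ q : ℕ, q ∈ sigma L → q ∉ sigma L') ∧ L ⊓ L' = starW M E := by
    intro L L' hL hL' hne
    rcases hL with rfl | hL
    · rcases hL' with rfl | hL'
      · exact absurd rfl hne
      · exact ⟨(hctx L' hL').sigma_disj, (hctx L' hL').inf_eq⟩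
    · rcases hL' with rfl | hL'
      · refine ⟨fun q hq hq' => (hctx L hL).sigma_disj q hq' hq, ?_⟩
        rw [inf_comm]; exact (hctx L hL).inf_eq
      · have h := hctx L hL
        have h' := hctx L' hL'
        have hdisj : ∀ q : ℕ, q ∈ sigma L → q ∉ sigma L' := by
          intro q hq hq'
          obtain ⟨Y', hY'E, hY', hNY', hY'σ, -⟩ := h'.overY
          exact hne (starc_over_eq hG h.coatomH h'.coatomH hq hq' (hY'E.trans h.E_le) hY' hY'σ hNY')
        refine ⟨hdisj, le_antisymm ?_ ?_⟩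
        · exact starc_inf_HH hG h h' (fun q hq' hq => hdisj q hq hq') (starc_claimP hG hAB h)
        · refine le_inf ?_ ?_
          · rw [← h.inf_eq]; exact inf_le_right
          · rw [← h'.inf_eq]; exact inf_le_right
  obtain ⟨H₀, hH₀, -⟩ := hex p P hpp hPE hP
  refine ⟨↥(starSet M E), inferInstance, Subtype.val, starW M E, ?_,
    ⟨M, Or.inl rfl⟩, ⟨H₀, Or.inr hH₀⟩, ?_⟩
  · refine ⟨?_, ?_, ?_, ?_, ?_, ?_, ?_⟩
    · rintro ⟨L, rfl | hL⟩
      · exact hM
      · exact hL.1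
    · rintro ⟨L, hL⟩ ⟨L', hL'⟩ hne
      exact (hpair L L' hL hL' (fun h => hne (Subtype.ext h))).1
    · rintro ⟨L, hL⟩ ⟨L', hL'⟩ hne
      exact (hpair L L' hL hL' (fun h => hne (Subtype.ext h))).2
    · intro q hq hd
      rcases starc_prime_mem c hmem q hq hd with h | ⟨Y, hYE, hY⟩
      · exact ⟨⟨M, Or.inl rfl⟩, h⟩
      · obtain ⟨H, hH, hqH⟩ := hex q Y hq hYE hY
        exact ⟨⟨H, Or.inr hH⟩, hqH⟩
    · rintro ⟨L, rfl | hL⟩
      · exact starc_sup_M c
      · exact starc_sup_H hG hAB (hctx L hL)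
    · rintro ⟨L, rfl | hL⟩
      · exact starc_good_M hG c hmem hZeq
      · exact starc_good_H hG (hctx L hL) (fun X hXZ hX => Helper62.starc_X_tau hG (hctx L hL) hXZ hX)
    · rintro ⟨L, rfl | hL⟩
      · exact starc_proper_M hG c hmem hZne
      · intro hle
        have h := hctx L hL
        have hLW : L ≤ starW M E := by
          intro m hm
          obtain ⟨n, hn, w, hw, rfl⟩ := starc_sup_H hG hAB h m hm
          exact Subgroup.mul_mem _ (hle hn) hw
        have hLM : L ≤ M := by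
          refine hLW.trans ?_
          rw [← h.inf_eq]; exact inf_le_left
        rcases h.coatomH.le_iff.mp hLM with h1 | h1
        · exact hM.1 h1
        · exact hneM L hL h1.symm
  · intro h
    exact hneM H₀ hH₀ (congrArg Subtype.val h).symm

end Cfsg.Agent.Helper49
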