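/-
helper49: CALL BG15 (helper25), piece AH: the hypotheses of the prime-action normal-Sylow theorem
inside `↥M` for `M = K M_σ` (`U = 1`) with `|K*|` prime.
-/
import Cfsg.Agent.S1365
import Cfsg.Agent.S1430

set_option autoImplicit false

namespace Cfsg.Agent.Helper49

open Cfsg Subgroup

universe u

variable {G : Type u} [Group G] [Finite G]

/-- AH. For `M = K M_σ` (`U = 1`) with `|K*|` prime: the hypotheses of `bg15_sylow_normal`
inside `Γ := ↥M`, `L := piCore (sigma M) ↥M`. -/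
theorem bg15_app_hyps (hG : IsMinSimpleOddOrder G) (M : Subgroup G) (hM : IsCoatom M)
    (K U : Subgroup G) (hKU : IsSigmaDecomposition M K U) (hK1 : K ≠ ⊥) (hU : U = ⊥)
    (hprime : (Nat.card ↥(sigmaCore M ⊓ centralizer (K : Set G))).Prime) :
    ∃ (p q : ℕ) (k z : ↥M), p.Prime ∧ q.Prime ∧ k ^ p = 1 ∧
      ¬ p ∣ Nat.card ↥(piCore (sigma M) ↥M) ∧ z ∈ piCore (sigma M) ↥M ∧ orderOf z = q ∧
      k * z = z * k ∧ (∀ a ∈ piCore (sigma M) ↥M, k * a = a * k → a ∈ zpowers z) ∧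
      z ∈ ⁅piCore (sigma M) ↥M, piCore (sigma M) ↥M⁆ ∧
      sigmaCore M ⊓ centralizer (K : Set G) = (zpowers z).map M.subtype := by
  classical
  have hK := hKU.hall
  obtain ⟨h30, -, -⟩ := Cfsg.Agent.S1430.result hG M hM K hK hK1
  obtain ⟨h65a, h65b⟩ := Cfsg.Agent.S1365.result hG M hM K U hKU hK1
  have hσM : sigmaCore M ≤ M := Cfsg.Agent.Helper23.piCoreOf_le (sigma M) M
  -- the element `k`
  have hcard : Nat.card K ≠ 1 := fun h => hK1 (Subgroup.card_eq_one.mp h)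
  obtain ⟨p, hp, hpd⟩ := Nat.exists_prime_and_dvd hcard
  have : Fact p.Prime := ⟨hp⟩
  obtain ⟨⟨k₀, hk₀K⟩, hk₀o⟩ := exists_prime_orderOf_dvd_card' (G := ↥K) p hpd
  have hk₀o' : orderOf k₀ = p := by
    rw [← hk₀o]
    exact (Subgroup.orderOf_mk k₀ hk₀K).symm
  have hk₀1 : k₀ ≠ 1 := by
    intro h
    rw [h, orderOf_one] at hk₀o'
    exact hp.one_lt.ne hk₀o'
  have hpκ : p ∈ kappa M := hK.2.1 p hp hpd
  have hpσ : p ∉ sigma M := hpκ.2.2.1
  -- the element `z`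
  have : Fact (Nat.card ↥(sigmaCore M ⊓ centralizer (K : Set G))).Prime := ⟨hprime⟩
  have hKsc : IsCyclic ↥(sigmaCore M ⊓ centralizer (K : Set G)) := isCyclic_of_prime_card rfl
  obtain ⟨⟨z₀, hz₀⟩, hgen⟩ := hKsc.exists_generator
  have hzo : orderOf z₀ = Nat.card ↥(sigmaCore M ⊓ centralizer (K : Set G)) := by
    rw [← orderOf_eq_card_of_forall_mem_zpowers hgen]
    exact (Subgroup.orderOf_mk z₀ hz₀).symm
  have hzpow : zpowers z₀ = sigmaCore M ⊓ centralizer (K : Set G) := by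
    refine le_antisymm ((zpowers_le).mpr hz₀) ?_
    intro a ha
    obtain ⟨n, hn⟩ := mem_zpowers_iff.mp (hgen ⟨a, ha⟩)
    have h1 : z₀ ^ n = a := by
      have := congrArg Subtype.val hn
      simpa using this
    rw [← h1]
    exact zpow_mem (mem_zpowers z₀) n
  have hz₀M : z₀ ∈ M := hσM hz₀.1
  have hk₀M : k₀ ∈ M := hK.1 hk₀K
  have hmem : ∀ (w : G) (hw : w ∈ M), w ∈ sigmaCore M → (⟨w, hw⟩ : ↥M) ∈ piCore (sigma M) ↥M := by
    intro w hw hwσ
    obtain ⟨v, hv, hvw⟩ := Subgroup.mem_map.mp hwσ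
    have : v = ⟨w, hw⟩ := Subtype.ext hvw
    rw [← this]
    exact hv
  refine ⟨p, Nat.card ↥(sigmaCore M ⊓ centralizer (K : Set G)), ⟨k₀, hk₀M⟩, ⟨z₀, hz₀M⟩, hp, hprime,
    ?_, ?_, hmem z₀ hz₀M hz₀.1, ?_, ?_, ?_, ?_, ?_⟩
  · apply Subtype.ext
    show k₀ ^ p = 1
    rw [← hk₀o']
    exact pow_orderOf_eq_one k₀
  · intro hdvd
    apply hpσ
    refine Cfsg.Agent.Helper23.mem_of_dvd_card_piCoreOf (sigma M) M hp ?_
    have hc : Nat.card ↥(sigmaCore M) = Nat.card ↥(piCore (sigma M) ↥M) :=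
      Subgroup.card_map_of_injective M.subtype_injective
    show p ∣ Nat.card ↥(sigmaCore M)
    rw [hc]
    exact hdvd
  · rw [← hzo]
    exact Subgroup.orderOf_mk z₀ hz₀M
  · apply Subtype.ext
    show k₀ * z₀ = z₀ * k₀
    exact mem_centralizer_iff.mp hz₀.2 k₀ hk₀K
  · intro a ha hcomm
    have haσ : (a : G) ∈ sigmaCore M := Subgroup.mem_map.mpr ⟨a, ha, rfl⟩
    have hac : (a : G) ∈ centralizer ({k₀} : Set G) := by
      rw [mem_centralizer_iff]
      intro h hh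
      rw [Set.mem_singleton_iff] at hh
      subst hh
      exact congrArg Subtype.val hcomm
    have h1 : (a : G) ∈ sigmaCore M ⊓ centralizer ({k₀} : Set G) := Subgroup.mem_inf.mpr ⟨haσ, hac⟩
    rw [h30 k₀ hk₀K hk₀1, ← hzpow] at h1
    obtain ⟨n, hn⟩ := mem_zpowers_iff.mp h1
    refine mem_zpowers_iff.mpr ⟨n, ?_⟩
    apply Subtype.ext
    rw [Subgroup.coe_zpow]
    exact hn
  · have h1 : z₀ ∈ ⁅⁅M, M⁆, ⁅M, M⁆⁆ := h65b hz₀
    rw [h65a, hU, bot_sup_eq] at h1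
    have h2 : sigmaCore M = (piCore (sigma M) ↥M).map M.subtype := rfl
    rw [h2, ← Subgroup.map_commutator] at h1
    obtain ⟨v, hv, hvw⟩ := Subgroup.mem_map.mp h1
    have : v = ⟨z₀, hz₀M⟩ := Subtype.ext hvw
    rw [← this]
    exact hv
  · rw [MonoidHom.map_zpowers]
    exact hzpow.symm

end Cfsg.Agent.Helper49
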