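import Mathlib
import Cfsg.Agent.S1355

set_option autoImplicit false

/-!
# CALL S1357 piece DN (helper49): a subgroup of `M_σ` meeting `M_F` trivially is nilpotent.
-/

namespace Cfsg.Agent.Helper49

open Cfsg Subgroup

universe u

variable {G : Type u} [Group G] [Finite G]

/-- pure core: a subgroup `D` of the derived subgroup of `M` meeting a normal subgroup `N` of `M`
trivially is nilpotent when the image of `M'` in `M / N` is. -/
theorem bg152_dn_core {M D : Subgroup G} (N : Subgroup ↥M) [N.Normal]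
    (hD : D ≤ ⁅M, M⁆) (hDF : D ⊓ N.map M.subtype = ⊥)
    (hnil : Group.IsNilpotent ↥((commutator ↥M).map (QuotientGroup.mk' N))) :
    Group.IsNilpotent ↥D := by
  have hDM : D ≤ M := hD.trans (Subgroup.commutator_le_self M)
  have hmem : ∀ d : ↥D, (⟨(d : G), hDM d.2⟩ : ↥M) ∈ commutator ↥M := by
    intro d
    have h1 : (d : G) ∈ (commutator ↥M).map M.subtype := by
      rw [Subgroup.map_subtype_commutator]
      exact hD d.2
    obtain ⟨m, hm, hmd⟩ := h1
    have : m = ⟨(d : G), hDM d.2⟩ := Subtype.ext hmd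
    rw [← this]
    exact hm
  let f : ↥D →* ↥((commutator ↥M).map (QuotientGroup.mk' N)) :=
    { toFun := fun d => ⟨QuotientGroup.mk' N ⟨(d : G), hDM d.2⟩, ⟨_, hmem d, rfl⟩⟩
      map_one' := by
        apply Subtype.ext
        exact map_one (QuotientGroup.mk' N)
      map_mul' := by
        intro a b
        apply Subtype.ext
        exact map_mul (QuotientGroup.mk' N) ⟨(a : G), hDM a.2⟩ ⟨(b : G), hDM b.2⟩ }
  have hf : Function.Injective f := by
    rw [injective_iff_map_eq_one]
    intro d hd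
    have h1 : QuotientGroup.mk' N ⟨(d : G), hDM d.2⟩ = 1 := congrArg Subtype.val hd
    have h2 : (⟨(d : G), hDM d.2⟩ : ↥M) ∈ N := (QuotientGroup.eq_one_iff _).mp h1
    have h3 : (d : G) ∈ D ⊓ N.map M.subtype := ⟨d.2, ⟨_, h2, rfl⟩⟩
    rw [hDF] at h3
    exact Subtype.ext ((Subgroup.mem_bot).mp h3)
  haveI := hnil
  exact Group.nilpotent_of_mulEquiv (MonoidHom.ofInjective hf).symm

/-- DN. A subgroup `D ≤ M_σ` with `D ∩ M_F = 1` is nilpotent: row S1355 gives `M_σ ≤ M'` and
the image of `commutator ↥M` in `↥M ⧸ fittingHall ↥M` nilpotent; `d ↦ mk ⟨d, _⟩` is an injective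
hom from `↥D` into that image (kernel `D ⊓ M_F`); `Group.nilpotent_of_injective` /
`isNilpotent_of_ker_le_center`-style lemma (compare `Helper1.bg15_chain_nil` in Helper1/BG15E1). -/
theorem bg152_D_nilpotent (hG : IsMinSimpleOddOrder G) {M D : Subgroup G} (hM : IsCoatom M)
    (hD : D ≤ sigmaCore M) (hDF : D ⊓ fittingHallOf M = ⊥) : Group.IsNilpotent ↥D := by
  obtain ⟨-, -, hσ, -, hnil⟩ := Cfsg.Agent.S1355.result hG M hM
  exact bg152_dn_core (fittingHall ↥M) (hD.trans hσ) hDF hnil

end Cfsg.Agent.Helper49
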