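/-
helper49: piece P3 (W-form) of CALL S1421 (helper23): a `W`-invariant line of `A` can be replaced by
a good `W`-invariant line.  `bg1210_good_line_aux` takes piece P3a (`N_G(A)/C_G(A)` abelian) as a
hypothesis.
-/
import Cfsg.Agent.Helper23.BG1210
import Cfsg.Agent.Helper35.SZ
import Cfsg.Agent.Helper23.Uniq3

set_option autoImplicit false

namespace Cfsg.Agent.Helper49

open Cfsg Subgroup Cfsg.Agent.Helper23 Cfsg.Agent.Helper35
open scoped Pointwise

universe u

variable {G : Type u} [Group G] [Finite G]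

/-- P3 of CALL S1421, with P3a as a hypothesis `hcomm`. -/
theorem bg1210_good_line_aux (hG : IsMinSimpleOddOrder G) {M E : Subgroup G} (hM : IsCoatom M)
    (hE : IsComplIn E (sigmaCore M) M) {p : ℕ} [Fact p.Prime] (hp : p ∈ tau2 M)
    {P A : Subgroup G} (hS : BG1210Syl p E P A)
    (hcomm : ∀ g ∈ normalizer (A : Set G), ∀ h ∈ normalizer (A : Set G),
      g * h * g⁻¹ * h⁻¹ ∈ centralizer (A : Set G))
    {W : Subgroup G} (hWE : W ≤ E)
    {X : Subgroup G} (hXA : X ≤ A)
    (hXc : Nat.card X = p) (hXW : W ≤ normalizer (X : Set G)) :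
    ∃ X' : Subgroup G, X' ≤ A ∧ Nat.card X' = p ∧ W ≤ normalizer (X' : Set G) ∧
      sigmaCore M ⊓ centralizer (X' : Set G) = ⊥ := by
  by_cases hgood : sigmaCore M ⊓ centralizer (X : Set G) = ⊥
  · exact ⟨X, hXA, hXc, hXW, hgood⟩
  have hpp : p.Prime := Fact.out
  have hAE : A ≤ E := hS.leA.trans hS.le
  have hAM : A ≤ M := hAE.trans hE.1
  obtain ⟨⟨hEA, -⟩, ⟨-, -, hNM⟩, hbad⟩ :=
    Cfsg.Agent.S1418.result hG M hM E hE p hp A ⟨hAE, hS.elemA, hS.cardA⟩
  obtain ⟨hCXM, -⟩ := hbad X hXA hXc hgood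
  obtain ⟨-, -, -, -, hinf, -⟩ :=
    Cfsg.Agent.S1417.result hG M hM p hp A ⟨hAM, hS.elemA, hS.cardA⟩
  obtain ⟨g, hgN, hgM⟩ := SetLike.not_le_iff_exists.mp hNM
  have hM1 : M ≠ ⊥ := by
    intro h
    rw [h, le_bot_iff] at hAM
    have h1 := hS.cardA
    rw [hAM, Subgroup.card_bot] at h1
    have h2 : 1 < p ^ 2 := Nat.one_lt_pow (by norm_num) hpp.one_lt
    omega
  refine ⟨MulAut.conj g • X, ?_, ?_, ?_, ?_⟩
  · intro x hx
    rw [mem_conj_smul] at hx
    have h2 := (mem_normalizer_iff.mp hgN (g⁻¹ * x * g)).mp (hXA hx)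
    have e : g * (g⁻¹ * x * g) * g⁻¹ = x := by group
    rwa [e] at h2
  · rw [card_conj_smul, hXc]
  · intro e he
    rw [mem_normalizer_iff_conj_smul_eq, conj_smul_conj_smul]
    have hc : g⁻¹ * e * g * e⁻¹ ∈ centralizer (A : Set G) := by
      have h := hcomm g⁻¹ (inv_mem hgN) e (hEA (hWE he))
      rwa [inv_inv] at h
    have hcX : g⁻¹ * e * g * e⁻¹ ∈ normalizer (X : Set G) :=
      centralizer_le_normalizer _ (centralizer_le (SetLike.coe_subset_coe.mpr hXA) hc)
    have e1 : e * g = g * (g⁻¹ * e * g * e⁻¹) * e := by group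
    rw [e1, ← conj_smul_conj_smul, ← conj_smul_conj_smul,
      conj_smul_eq_self_of_mem_normalizer (hXW he), conj_smul_eq_self_of_mem_normalizer hcX]
  · rw [eq_bot_iff]
    rintro y ⟨hyσ, hyC⟩
    rw [mem_bot]
    have h1 : g⁻¹ * y * g ∈ centralizer (X : Set G) := by
      rw [mem_centralizer_iff]
      intro x hx
      have h2 := mem_centralizer_iff.mp hyC (g * x * g⁻¹) (conj_mem_conj_smul hx)
      calc x * (g⁻¹ * y * g) = g⁻¹ * ((g * x * g⁻¹) * y) * g := by group
        _ = g⁻¹ * (y * (g * x * g⁻¹)) * g := by rw [h2]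
        _ = g⁻¹ * y * g * x := by group
    have hyMs : y ∈ MulAut.conj g • M := mem_conj_smul.mpr (hCXM h1)
    have hMs : IsCoatom (MulAut.conj g • M) := isCoatom_conj_smul g hM
    have hne : MulAut.conj g • M ≠ M := by
      intro h
      apply hgM
      have h2 : g ∈ normalizer (M : Set G) := mem_normalizer_iff_conj_smul_eq.mpr h
      rwa [uq_normalizer_eq hG hM hM1 le_rfl le_normalizer] at h2
    have hAMs : A ≤ MulAut.conj g • M := by
      intro a ha
      rw [mem_conj_smul]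
      have h2 := (mem_normalizer_iff.mp (inv_mem hgN) a).mp ha
      rw [inv_inv] at h2
      exact hAM h2
    have h3 := hinf (MulAut.conj g • M) hMs hne hAMs
    have hy : y ∈ sigmaCore M ⊓ MulAut.conj g • M := ⟨hyσ, hyMs⟩
    rwa [h3, mem_bot] at hy

end Cfsg.Agent.Helper49
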