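/-
helper49: piece P6a (W-form) of CALL S1421 (helper23): a `W`-invariant cyclic subgroup of `P` of full
exponent with good socle.  `bg1210_cyclic_aux` takes piece P3a (`N_G(A)/C_G(A)` abelian) and piece P5
(Teichmüller averaging) as hypotheses.
-/
import Cfsg.Agent.Helper49.BG1210P3
import Cfsg.Agent.Helper33.BG1210P6b

set_option autoImplicit false

namespace Cfsg.Agent.Helper49

open Cfsg Subgroup Cfsg.Agent.Helper23 Cfsg.Agent.Helper35
open scoped Pointwise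

universe u

variable {G : Type u} [Group G] [Finite G]

omit [Finite G] in
/-- The subgroup of `n`-th powers of an abelian subgroup. -/
def bg1210_powSubgroup (P : Subgroup G) (hPc : ∀ x ∈ P, ∀ y ∈ P, x * y = y * x) (n : ℕ) :
    Subgroup G where
  carrier := {y | ∃ x ∈ P, y = x ^ n}
  mul_mem' := by
    rintro _ _ ⟨x, hx, rfl⟩ ⟨y, hy, rfl⟩
    exact ⟨x * y, P.mul_mem hx hy, ((show Commute x y from hPc x hx y hy).mul_pow n).symm⟩
  one_mem' := ⟨1, P.one_mem, (one_pow n).symm⟩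
  inv_mem' := by
    rintro _ ⟨x, hx, rfl⟩
    exact ⟨x⁻¹, P.inv_mem hx, (inv_pow x n).symm⟩

/-- Core of P6a: given a good `W`-invariant line `X` and `u₀ ∈ P` with `u₀ ^ p ^ a ∈ X \ {1}`. -/
theorem bg1210_cyclic_core {M E : Subgroup G} {p : ℕ} [Fact p.Prime] {P A : Subgroup G}
    (hS : BG1210Syl p E P A)
    (hteich : ∀ (H : Subgroup G), H ≤ normalizer (P : Set G) → ¬ p ∣ Nat.card H → ∀ (a : ℕ),
      (∀ x ∈ P, x ^ p ^ (a + 1) = 1) → ∀ u₀ ∈ P, u₀ ^ p ^ a ≠ 1 →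
      (∀ h ∈ H, h * u₀ ^ p ^ a * h⁻¹ ∈ zpowers (u₀ ^ p ^ a)) →
      ∃ u ∈ P, u ^ p ^ a ∈ zpowers (u₀ ^ p ^ a) ∧ u ^ p ^ a ≠ 1 ∧
        ∀ h ∈ H, h * u * h⁻¹ ∈ zpowers u)
    {W : Subgroup G} (hWE : W ≤ E) (hPW : P ≤ W)
    {X : Subgroup G} (hXc : Nat.card X = p) (hXW : W ≤ normalizer (X : Set G))
    (hXgood : sigmaCore M ⊓ centralizer (X : Set G) = ⊥)
    {a : ℕ} (hexp : ∀ x ∈ P, x ^ p ^ (a + 1) = 1) {u₀ : G} (hu₀ : u₀ ∈ P)
    (hu₀X : u₀ ^ p ^ a ∈ X) (hne : u₀ ^ p ^ a ≠ 1) :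
    ∃ u ∈ P, (∀ x ∈ P, x ^ orderOf u = 1) ∧ (∀ e ∈ W, e * u * e⁻¹ ∈ zpowers u) ∧
      ∀ x ∈ zpowers u, x ≠ 1 → x ^ p = 1 →
        sigmaCore M ⊓ centralizer ({x} : Set G) = ⊥ := by
  have hpp : p.Prime := Fact.out
  have hzX : ∀ z ∈ X, z ≠ 1 → zpowers z = X := by
    intro z hz hz1
    apply Subgroup.eq_of_le_of_card_ge (zpowers_le.mpr hz)
    rw [Nat.card_zpowers, hXc]
    have h1 : orderOf z ∣ p := by
      have h := orderOf_dvd_natCard (⟨z, hz⟩ : X)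
      rwa [Subgroup.orderOf_mk, hXc] at h
    rcases (Nat.dvd_prime hpp).mp h1 with h | h
    · exact absurd (orderOf_eq_one_iff.mp h) hz1
    · exact h.ge
  obtain ⟨H, hHW, hPH, hdec, hcop⟩ := Helper33.bg1210_sz hPW (hWE.trans hS.norm) hS.pgroup
    (fun x hx hk => hS.all x (hWE hx) hk)
  have hHP : H ≤ normalizer (P : Set G) := hHW.trans (hWE.trans hS.norm)
  have hHp : ¬ p ∣ Nat.card H := (Nat.Prime.coprime_iff_not_dvd hpp).mp hcop.symm
  obtain ⟨u, huP, huX, hune, huH⟩ := hteich H hHP hHp a hexp u₀ hu₀ hne (by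
    intro h hh
    rw [hzX _ hu₀X hne]
    exact (mem_normalizer_iff.mp (hXW (hHW hh)) _).mp hu₀X)
  have huX' : u ^ p ^ a ∈ X := by rw [← hzX _ hu₀X hne]; exact huX
  have hord : orderOf u = p ^ (a + 1) := orderOf_eq_prime_pow hune (hexp u huP)
  refine ⟨u, huP, fun x hx => by rw [hord]; exact hexp x hx, ?_, ?_⟩
  · intro e he
    obtain ⟨x, hx, h, hh, rfl⟩ := hdec e he
    have h1 : h * u * h⁻¹ ∈ P := (mem_normalizer_iff.mp (hHP hh) u).mp huP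
    have h2 : x * h * u * (x * h)⁻¹ = h * u * h⁻¹ := by
      calc x * h * u * (x * h)⁻¹ = x * (h * u * h⁻¹) * x⁻¹ := by group
        _ = (h * u * h⁻¹) * x * x⁻¹ := by rw [hS.comm x hx _ h1]
        _ = h * u * h⁻¹ := by group
    rw [h2]; exact huH h hh
  · intro x hx hx1 hxp
    obtain ⟨k, rfl⟩ := mem_zpowers_iff.mp hx
    have h1 : u ^ (k * (p : ℤ)) = 1 := by
      rw [zpow_mul, zpow_natCast]; exact hxp
    have h2 : ((orderOf u : ℕ) : ℤ) ∣ k * (p : ℤ) := orderOf_dvd_iff_zpow_eq_one.mpr h1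
    have h3 : ((p ^ a : ℕ) : ℤ) ∣ k := by
      rw [hord, pow_succ] at h2
      push_cast at h2 ⊢
      exact Int.dvd_of_mul_dvd_mul_right (by exact_mod_cast hpp.ne_zero) h2
    obtain ⟨j, rfl⟩ := h3
    have hxX : u ^ (((p ^ a : ℕ) : ℤ) * j) ∈ X := by
      rw [zpow_mul, zpow_natCast]; exact X.zpow_mem huX' j
    have hzx := hzX _ hxX hx1
    rw [eq_bot_iff]
    rintro y ⟨hyσ, hyC⟩
    have hy : y ∈ sigmaCore M ⊓ centralizer (X : Set G) := by
      refine Subgroup.mem_inf.mpr ⟨hyσ, ?_⟩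
      rw [← hzx, mem_centralizer_iff]
      intro z hz
      obtain ⟨i, rfl⟩ := mem_zpowers_iff.mp hz
      have hc : Commute (u ^ (((p ^ a : ℕ) : ℤ) * j)) y :=
        mem_centralizer_iff.mp hyC _ (Set.mem_singleton _)
      exact (hc.zpow_left i).eq
    rwa [hXgood] at hy

/-- P6a (W-form) of CALL S1421, with P3a and P5 as hypotheses `hcomm`, `hteich`. -/
theorem bg1210_cyclic_aux (hG : IsMinSimpleOddOrder G) {M E : Subgroup G} (hM : IsCoatom M)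
    (hE : IsComplIn E (sigmaCore M) M) {p : ℕ} [Fact p.Prime]
    (hp : p ∈ tau2 M) {P A : Subgroup G} (hS : BG1210Syl p E P A)
    (hcomm : ∀ g ∈ normalizer (A : Set G), ∀ h ∈ normalizer (A : Set G),
      g * h * g⁻¹ * h⁻¹ ∈ centralizer (A : Set G))
    (hteich : ∀ (H : Subgroup G), H ≤ normalizer (P : Set G) → ¬ p ∣ Nat.card H → ∀ (a : ℕ),
      (∀ x ∈ P, x ^ p ^ (a + 1) = 1) → ∀ u₀ ∈ P, u₀ ^ p ^ a ≠ 1 →
      (∀ h ∈ H, h * u₀ ^ p ^ a * h⁻¹ ∈ zpowers (u₀ ^ p ^ a)) →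
      ∃ u ∈ P, u ^ p ^ a ∈ zpowers (u₀ ^ p ^ a) ∧ u ^ p ^ a ≠ 1 ∧
        ∀ h ∈ H, h * u * h⁻¹ ∈ zpowers u)
    {W : Subgroup G} (hWE : W ≤ E) (hPW : P ≤ W)
    (hline : ∃ X : Subgroup G, X ≤ A ∧ Nat.card X = p ∧ W ≤ normalizer (X : Set G)) :
    ∃ u ∈ P, (∀ x ∈ P, x ^ orderOf u = 1) ∧ (∀ e ∈ W, e * u * e⁻¹ ∈ zpowers u) ∧
      ∀ x ∈ zpowers u, x ≠ 1 → x ^ p = 1 →
        sigmaCore M ⊓ centralizer ({x} : Set G) = ⊥ := by
  have hpp : p.Prime := Fact.out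
  have hsimple := hG.2.1
  obtain ⟨X₀, hX₀A, hX₀c, hX₀W⟩ := hline
  obtain ⟨X, hXA, hXc, hXW, hXgood⟩ :=
    bg1210_good_line_aux hG hM hE hp hS hcomm hWE hX₀A hX₀c hX₀W
  obtain ⟨u₁, hu₁P, hmax⟩ :=
    Set.exists_max_image (P : Set G) orderOf (Set.toFinite _) ⟨1, P.one_mem⟩
  have hpow : ∀ x ∈ P, ∃ k, orderOf x = p ^ k := by
    intro x hx
    obtain ⟨k, hk⟩ := hS.pgroup ⟨x, hx⟩
    have h1 : x ^ p ^ k = 1 := by simpa using congrArg Subtype.val hk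
    obtain ⟨m, -, hm⟩ := (Nat.dvd_prime_pow hpp).mp (orderOf_dvd_of_pow_eq_one h1)
    exact ⟨m, hm⟩
  obtain ⟨b, hb⟩ := hpow u₁ hu₁P
  have hb1 : b ≠ 0 := by
    rintro rfl
    have hP1 : ∀ x ∈ P, x = 1 := fun x hx => by
      have h := hmax x hx
      rw [hb, pow_zero] at h
      exact orderOf_eq_one_iff.mp (le_antisymm h (orderOf_pos x))
    have hA1 : A = ⊥ := by
      rw [eq_bot_iff]; intro x hx; rw [mem_bot]; exact hP1 x (hS.leA hx)
    have h1 := hS.cardA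
    rw [hA1, Subgroup.card_bot] at h1
    have h2 : 1 < p ^ 2 := Nat.one_lt_pow (by norm_num) hpp.one_lt
    omega
  obtain ⟨a, rfl⟩ : ∃ a, b = a + 1 := ⟨b - 1, by omega⟩
  have hexp : ∀ x ∈ P, x ^ p ^ (a + 1) = 1 := by
    intro x hx
    obtain ⟨k, hk⟩ := hpow x hx
    have h1 := hmax x hx
    rw [hk, hb] at h1
    have h2 : k ≤ a + 1 := (Nat.pow_le_pow_iff_right hpp.one_lt).mp h1
    have h3 : orderOf x ∣ p ^ (a + 1) := by rw [hk]; exact pow_dvd_pow p h2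
    exact orderOf_dvd_iff_pow_eq_one.mp h3
  have hu₁ne : u₁ ^ p ^ a ≠ 1 := by
    intro h
    have h1 := orderOf_dvd_of_pow_eq_one h
    rw [hb] at h1
    have h3 := Nat.le_of_dvd (pow_pos hpp.pos a) h1
    have h2 : p ^ a < p ^ (a + 1) := Nat.pow_lt_pow_right hpp.one_lt (Nat.lt_succ_self a)
    omega
  by_cases hI : ∃ u₀ ∈ P, u₀ ^ p ^ a ∈ X ∧ u₀ ^ p ^ a ≠ 1
  · obtain ⟨u₀, hu₀, hu₀X, hne⟩ := hI
    exact bg1210_cyclic_core hS hteich hWE hPW hXc hXW hXgood hexp hu₀ hu₀X hne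
  · obtain ⟨Y, hYdef⟩ : ∃ Y : Subgroup G, Y = bg1210_powSubgroup P hS.comm (p ^ a) := ⟨_, rfl⟩
    have hYmem : ∀ y, y ∈ Y ↔ ∃ x ∈ P, y = x ^ p ^ a := by
      intro y; rw [hYdef]; rfl
    have hYA : Y ≤ A := by
      intro y hy
      obtain ⟨x, hx, rfl⟩ := (hYmem y).mp hy
      apply hS.omega _ (P.pow_mem hx _)
      rw [← pow_mul, ← pow_succ]; exact hexp x hx
    have hYX : Y ⊓ X = ⊥ := by
      rw [eq_bot_iff]
      rintro y ⟨hy, hyX⟩
      obtain ⟨x, hx, rfl⟩ := (hYmem y).mp hy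
      rw [mem_bot]
      by_contra hne
      exact hI ⟨x, hx, hyX, hne⟩
    have hu₁Y : u₁ ^ p ^ a ∈ Y := (hYmem _).mpr ⟨u₁, hu₁P, rfl⟩
    have hY1 : Y ≠ ⊥ := by
      intro h
      rw [h, mem_bot] at hu₁Y
      exact hu₁ne hu₁Y
    have hYc : Nat.card Y = p := by
      have h1 : Nat.card Y ∣ p ^ 2 := by rw [← hS.cardA]; exact Subgroup.card_dvd_of_le hYA
      obtain ⟨m, hm, hmc⟩ := (Nat.dvd_prime_pow hpp).mp h1
      interval_cases m
      · exact absurd (Subgroup.eq_bot_of_card_eq Y (by simpa using hmc)) hY1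
      · simpa using hmc
      · exfalso
        have hYeq : Y = A := Subgroup.eq_of_le_of_card_ge hYA (by rw [hmc, hS.cardA])
        have hXY : X ≤ Y ⊓ X := le_inf (hYeq ▸ hXA) le_rfl
        rw [hYX, le_bot_iff] at hXY
        rw [hXY, Subgroup.card_bot] at hXc
        exact hpp.one_lt.ne hXc
    have hNPY : normalizer (P : Set G) ≤ normalizer (Y : Set G) := by
      intro n hn
      rw [mem_normalizer_iff]
      intro y
      constructor
      · intro hy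
        obtain ⟨x, hx, rfl⟩ := (hYmem y).mp hy
        exact (hYmem _).mpr ⟨n * x * n⁻¹, (mem_normalizer_iff.mp hn x).mp hx, by rw [conj_pow]⟩
      · intro hy
        obtain ⟨x, hx, hxy⟩ := (hYmem _).mp hy
        refine (hYmem _).mpr ⟨n⁻¹ * x * n, ?_, ?_⟩
        · have h := (mem_normalizer_iff.mp (inv_mem hn) x).mp hx
          rwa [inv_inv] at h
        · have e1 : y = n⁻¹ * (n * y * n⁻¹) * n := by group
          rw [e1, hxy]
          have h := conj_pow (a := n⁻¹) (b := x) (i := p ^ a)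
          rw [inv_inv] at h
          exact h.symm
    have hYW : W ≤ normalizer (Y : Set G) := (hWE.trans hS.norm).trans hNPY
    have hYgood : sigmaCore M ⊓ centralizer (Y : Set G) = ⊥ := by
      by_contra hbadY
      have hAE : A ≤ E := hS.leA.trans hS.le
      have hAM : A ≤ M := hAE.trans hE.1
      obtain ⟨-, -, hbad⟩ :=
        Cfsg.Agent.S1418.result hG M hM E hE p hp A ⟨hAE, hS.elemA, hS.cardA⟩
      obtain ⟨hCYM, huniq⟩ := hbad Y hYA hYc hbadY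
      have hY2 : Y ≠ ⊤ := fun h => hM.1 (top_le_iff.mp (h ▸ hYA.trans hAM))
      obtain ⟨L, hL, hNL⟩ := uq_exists_coatom_ge (normalizer_ne_top_of_simple hY1 hY2)
      have hLM : L = M := huniq L hL ((centralizer_le_normalizer _).trans hNL)
      obtain ⟨-, hSyl, -⟩ :=
        Cfsg.Agent.S1417.result hG M hM p hp A ⟨hAM, hS.elemA, hS.cardA⟩
      have hPM : P ≤ M := hS.le.trans hE.1
      have hPsyl : IsSylowOf p P M := ⟨hPM, hS.pgroup, fun Q _ hQ hPQ => hS.sylG Q hQ hPQ⟩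
      obtain ⟨P', hP'⟩ := hPsyl.exists_sylow
      have hmap : (P' : Subgroup M).map M.subtype = P := by
        rw [hP']; exact Subgroup.map_subgroupOf_eq_of_le hPM
      have h4 := ((hSyl P').2 (by rw [hmap]; exact hS.leA)).2
      rw [hmap] at h4
      exact h4 (hNPY.trans (hLM ▸ hNL))
    exact bg1210_cyclic_core hS hteich hWE hPW hYc hYW hYgood hexp hu₁P hu₁Y hu₁ne

end Cfsg.Agent.Helper49
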