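/-
helper49: pieces P3 and P6a (W-forms) of CALL S1421 (helper23) in their exact statements
(`bg1210_good_line`, `bg1210_cyclic`), assembled from `Helper49/BG1210P3.lean`,
`Helper49/BG1210P6a.lean`, helper4's P3a (`bg1210_comm_le`) and helper33's P5 (`bg1210_teich`).
-/
import Cfsg.Agent.Helper49.BG1210P6a
import Cfsg.Agent.Helper4.BG1210P3a
import Cfsg.Agent.Helper33.BG1210P5

set_option autoImplicit false

namespace Cfsg.Agent.Helper49

open Cfsg Subgroup Cfsg.Agent.Helper23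

universe u

variable {G : Type u} [Group G] [Finite G]

/-- **P3 (W-form) of CALL S1421**: a `W`-invariant line can be replaced by a good `W`-invariant
line. -/
theorem bg1210_good_line (hG : IsMinSimpleOddOrder G) {M E : Subgroup G} (hM : IsCoatom M)
    (hE : IsComplIn E (sigmaCore M) M) {p : ℕ} [Fact p.Prime] (hp : p ∈ tau2 M)
    {P A : Subgroup G} (hS : BG1210Syl p E P A) {W : Subgroup G} (hWE : W ≤ E)
    {X : Subgroup G} (hXA : X ≤ A)
    (hXc : Nat.card X = p) (hXW : W ≤ normalizer (X : Set G)) :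
    ∃ X' : Subgroup G, X' ≤ A ∧ Nat.card X' = p ∧ W ≤ normalizer (X' : Set G) ∧
      sigmaCore M ⊓ centralizer (X' : Set G) = ⊥ :=
  bg1210_good_line_aux hG hM hE hp hS
    (Cfsg.Agent.Helper4.bg1210_comm_le hG hS.pgroup hS.comm hS.leA hS.elemA hS.cardA hS.sylG)
    hWE hXA hXc hXW

/-- **P6a (W-form) of CALL S1421**: a `W`-invariant cyclic subgroup of `P` of full exponent whose
socle is good. -/
theorem bg1210_cyclic (hG : IsMinSimpleOddOrder G) {M E : Subgroup G} (hM : IsCoatom M)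
    (hE : IsComplIn E (sigmaCore M) M) {p : ℕ} [Fact p.Prime]
    (hp : p ∈ tau2 M) {P A : Subgroup G} (hS : BG1210Syl p E P A)
    {W : Subgroup G} (hWE : W ≤ E) (hPW : P ≤ W)
    (hline : ∃ X : Subgroup G, X ≤ A ∧ Nat.card X = p ∧ W ≤ normalizer (X : Set G)) :
    ∃ u ∈ P, (∀ x ∈ P, x ^ orderOf u = 1) ∧ (∀ e ∈ W, e * u * e⁻¹ ∈ zpowers u) ∧
      ∀ x ∈ zpowers u, x ≠ 1 → x ^ p = 1 →
        sigmaCore M ⊓ centralizer ({x} : Set G) = ⊥ :=
  bg1210_cyclic_aux hG hM hE hp hS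
    (Cfsg.Agent.Helper4.bg1210_comm_le hG hS.pgroup hS.comm hS.leA hS.elemA hS.cardA hS.sylG)
    (fun _ hHP hH a hexp u₀ hu₀ hne hinv =>
      Cfsg.Agent.Helper33.bg1210_teich hS.comm hHP hH a hexp u₀ hu₀ hne hinv)
    hWE hPW hline

end Cfsg.Agent.Helper49
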