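import Cfsg.Agent.Helper1.C9Defs
import Cfsg.Agent.S1419
import Cfsg.Agent.S1363
import Cfsg.Agent.S1353

/-!
helper49: piece TD of CALL S1376 (helper1; B&G Corollary 15.9).
-/

set_option autoImplicit false

namespace Cfsg.Agent.Helper49

open Cfsg Subgroup
open Cfsg.Agent.Helper1 (C9)
open scoped Pointwise

universe u

variable {G : Type u} [Group G] [Finite G]

/-- TD. Else some `r`-subgroup is non-abelian, so every Sylow `r`-subgroup of `G` is, and S1419 for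
`(M, E := M ⊓ L, r, A)` gives `a₀ ≠ 1` in `A ⊓ C(M_σ)`.  `a₀` centralizes `x`, so
`a₀ ∈ M ⊓ C(x) ≤ N ⊓ M = U ⊔ K`: `a₀ = u k`, `u ∈ U`, `k ∈ K`.  `k ≠ 1` (else
`a₀ ∈ U ≤ M_σ`, but `(M ⊓ L) ⊓ M_σ = ⊥`).  `a₀` centralizes `U ≤ M_σ` and `U` is abelian (S1363
for `N`), so `k = u⁻¹ a₀` centralizes `U ≠ ⊥`: against S1353 for `N`. -/
theorem c9_sylab (hG : IsMinSimpleOddOrder G) {M N K U L : Subgroup G} {x : G}
    (h : C9 M N K U L x) {r : ℕ} (hr : r ∈ tau2 M) {A : Subgroup G}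
    (hA : A ≤ M ⊓ L ∧ IsElementaryAbelian r A ∧ Nat.card A = r ^ 2) :
    ∀ P : Subgroup G, IsPGroup r P → ∀ a ∈ P, ∀ b ∈ P, a * b = b * a := by
  by_contra hcon
  push Not at hcon
  obtain ⟨P, hP, a, ha, b, hb, hab⟩ := hcon
  have hrp : r.Prime := hr.1
  haveI : Fact r.Prime := ⟨hrp⟩
  have hS : ∀ S : Sylow r G, ¬ IsMulCommutative (S : Subgroup G) := by
    intro S hSc
    obtain ⟨S₀, hPS₀⟩ := hP.exists_le_sylow
    obtain ⟨g, hg⟩ := MulAction.exists_smul_eq G S₀ S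
    have key : ∀ y ∈ (S₀ : Subgroup G), g * y * g⁻¹ ∈ (S : Subgroup G) := by
      intro y hy
      have h1 : MulAut.conj g • y ∈ MulAut.conj g • (S₀ : Subgroup G) :=
        Subgroup.smul_mem_pointwise_smul _ _ _ hy
      rw [← Sylow.coe_subgroup_smul, hg] at h1
      exact h1
    have hc := hSc.is_comm.comm (⟨_, key a (hPS₀ ha)⟩ : (S : Subgroup G)) ⟨_, key b (hPS₀ hb)⟩
    have hc' : g * a * g⁻¹ * (g * b * g⁻¹) = g * b * g⁻¹ * (g * a * g⁻¹) :=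
      congrArg Subtype.val hc
    apply hab
    have e1 : a * b = g⁻¹ * (g * a * g⁻¹ * (g * b * g⁻¹)) * g := by group
    have e2 : b * a = g⁻¹ * (g * b * g⁻¹ * (g * a * g⁻¹)) * g := by group
    rw [e1, e2, hc']
  obtain ⟨-, ⟨hcardA, -⟩, -⟩ :=
    Cfsg.Agent.S1419.result hG M h.hM (M ⊓ L) h.hE r hr hS A hA
  -- a non-identity element of `A ⊓ C(M_σ)`
  have hex : ∃ a₀ ∈ A ⊓ centralizer (sigmaCore M : Set G), a₀ ≠ 1 := by
    by_contra hno
    push Not at hno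
    have hbot : A ⊓ centralizer (sigmaCore M : Set G) = ⊥ := (Subgroup.eq_bot_iff_forall _).2 hno
    rw [hbot, Subgroup.card_bot] at hcardA
    exact hrp.one_lt.ne hcardA
  obtain ⟨a₀, ha₀, ha₀1⟩ := hex
  have ha₀A : a₀ ∈ A := ha₀.1
  have ha₀C : a₀ ∈ centralizer (sigmaCore M : Set G) := ha₀.2
  have ha₀ML : a₀ ∈ M ⊓ L := hA.1 ha₀A
  -- `a₀ ∈ N ⊓ M = U ⊔ K`
  have ha₀x : a₀ ∈ centralizer ({x} : Set G) := by
    rw [Subgroup.mem_centralizer_iff]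
    intro y hy
    rw [Set.mem_singleton_iff] at hy
    rw [hy]
    exact (Subgroup.mem_centralizer_iff.mp ha₀C) x h.hx
  have ha₀NM : a₀ ∈ N ⊓ M := ⟨h.hxN ha₀x, ha₀ML.1⟩
  rw [h.hMN] at ha₀NM
  have hset : ((U ⊔ K : Subgroup G) : Set G) = (U : Set G) * (K : Set G) :=
    Subgroup.coe_mul_of_right_le_normalizer_left U K h.hKU.normal
  have ha₀set : a₀ ∈ (U : Set G) * (K : Set G) := by
    rw [← hset]
    exact ha₀NM
  obtain ⟨u, hu, k, hk, huk⟩ := Set.mem_mul.mp ha₀set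
  have hu' : u ∈ U := hu
  have hk' : k ∈ K := hk
  -- `k ≠ 1`
  have hk1 : k ≠ 1 := by
    intro hk1
    rw [hk1, mul_one] at huk
    have huσ : a₀ ∈ sigmaCore M := by
      rw [← huk]
      exact h.hUσ hu'
    have hmem : a₀ ∈ (M ⊓ L) ⊓ sigmaCore M := ⟨ha₀ML, huσ⟩
    rw [h.hE.2.2.1, Subgroup.mem_bot] at hmem
    exact ha₀1 hmem
  -- `k` centralizes `U`
  have hUab : IsMulCommutative U := (Cfsg.Agent.S1363.result hG N h.hN K U h.hKU h.hK1).1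
  have hkU : ∀ v ∈ U, v * k = k * v := by
    intro v hv
    have h1 : v * a₀ = a₀ * v := (Subgroup.mem_centralizer_iff.mp ha₀C) v (h.hUσ hv)
    have h2 : v * u = u * v := congrArg Subtype.val (hUab.is_comm.comm (⟨v, hv⟩ : U) ⟨u, hu'⟩)
    have hk_eq : k = u⁻¹ * a₀ := by
      rw [← huk]
      group
    rw [hk_eq]
    calc v * (u⁻¹ * a₀) = u⁻¹ * (u * v) * u⁻¹ * a₀ := by group
      _ = u⁻¹ * (v * u) * u⁻¹ * a₀ := by rw [h2]
      _ = u⁻¹ * (v * a₀) := by group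
      _ = u⁻¹ * (a₀ * v) := by rw [h1]
      _ = u⁻¹ * a₀ * v := by group
  have hS1353 := Cfsg.Agent.S1353.result hG N h.hN K U h.hKU k hk' hk1
  apply h.hU1
  rw [← hS1353]
  refine le_antisymm (le_inf le_rfl ?_) inf_le_left
  intro v hv
  rw [Subgroup.mem_centralizer_iff]
  intro y hy
  rw [Set.mem_singleton_iff] at hy
  rw [hy]
  exact (hkU v hv).symm

end Cfsg.Agent.Helper49
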