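/-
helper49: piece `SAME` of CALL S2506 (helper12): two good maximal abelian subgroups with the same
orbits are equal.
-/
import Mathlib
import Cfsg.Agent.Helper12.AMDefs
import Cfsg.Agent.Helper12.AMSC
import Cfsg.Agent.Helper80.AMAG3
import Cfsg.Agent.Helper80.AMAG4

set_option autoImplicit false

namespace Cfsg.Agent.Helper49.AMSAME

open Cfsg.Agent.Helper12.AM

variable {α : Type*} [Fintype α] [DecidableEq α]

/-- elements of two good maximal abelian subgroups with the same orbits commute -/
theorem comm_of_same (A B : Subgroup (Equiv.Perm α)) (hA : MaxAb A) (gA : Good A)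
    (hB : MaxAb B) (gB : Good B) (h : ∀ x, orb A x = orb B x) :
    ∀ a ∈ A, ∀ b ∈ B, a * b = b * a := by
  intro a ha b hb
  ext x
  simp only [Equiv.Perm.mul_apply]
  have hbx : b x ∈ orb A x := by rw [h x]; exact (mem_orb B x _).2 ⟨b, hb, rfl⟩
  obtain ⟨a', ha', ha'x⟩ := (mem_orb A x _).1 hbx
  have hpresA : ∀ c ∈ A, ∀ u ∈ orb A x, c u ∈ orb A x := by
    intro c hc u hu
    obtain ⟨e, he, rfl⟩ := (mem_orb A x u).1 hu
    exact (mem_orb A x _).2 ⟨c * e, A.mul_mem hc he, rfl⟩
  have hpresB : ∀ c ∈ B, ∀ u ∈ orb A x, c u ∈ orb A x := by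
    intro c hc u hu
    rw [h x] at hu ⊢
    obtain ⟨e, he, rfl⟩ := (mem_orb B x u).1 hu
    exact (mem_orb B x _).2 ⟨c * e, B.mul_mem hc he, rfl⟩
  have hsA : ∀ u ∈ orb A x, a' u = u → ∀ v ∈ orb A x, a' v = v := by
    intro u hu hfix v hv
    have hvu : v ∈ orb A u := by rw [orb_eq_of_mem A x u hu]; exact hv
    exact semireg A hA.comm a' ha' u v hvu hfix
  have hsB : ∀ u ∈ orb A x, b u = u → ∀ v ∈ orb A x, b v = v := by
    intro u hu hfix v hv
    rw [h x] at hu hv
    have hvu : v ∈ orb B u := by rw [orb_eq_of_mem B x u hu]; exact hv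
    exact semireg B hB.comm b hb u v hvu hfix
  have hagree : ∀ v ∈ orb A x, a' v = b v := by
    rcases gA.sz x with h3 | h4
    · exact Cfsg.Agent.Helper80.AMAG3.agree_three (orb A x) h3 a' b (hpresA a' ha')
        (hpresB b hb) hsA hsB x (self_mem_orb A x) ha'x
    · refine Cfsg.Agent.Helper80.AMAG4.agree_four (orb A x) h4 a' b (hpresA a' ha')
        (hpresB b hb) hsA hsB ?_ ?_ x (self_mem_orb A x) ha'x
      · intro u hu
        exact gA.inv a' ha' u (by rw [osz_eq_of_mem A x u hu]; exact h4)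
      · intro u hu
        refine gB.inv b hb u ?_
        have hou : osz B u = osz A u := by unfold osz; rw [h u]
        rw [hou, osz_eq_of_mem A x u hu]; exact h4
  have hax : a x ∈ orb A x := (mem_orb A x _).2 ⟨a, ha, rfl⟩
  calc a (b x) = a (a' x) := by rw [ha'x]
    _ = a' (a x) := by
        have := congrArg (fun f : Equiv.Perm α => f x) (hA.comm a ha a' ha')
        simpa using this
    _ = b (a x) := hagree (a x) hax

/-- PIECE SAME -/
theorem eq_of_same_orbits (A B : Subgroup (Equiv.Perm α)) (hA : MaxAb A) (gA : Good A)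
    (hB : MaxAb B) (gB : Good B) (h : ∀ x, orb A x = orb B x) : A = B := by
  have h1 := comm_of_same A B hA gA hB gB h
  apply le_antisymm
  · intro a ha
    exact Cfsg.Agent.Helper12.AMSC.self_centralizing B hB a (hA.le_alt ha)
      (fun b hb => (h1 a ha b hb).symm)
  · intro b hb
    exact Cfsg.Agent.Helper12.AMSC.self_centralizing A hA b (hB.le_alt hb)
      (fun a ha => h1 a ha b hb)

end Cfsg.Agent.Helper49.AMSAME
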