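/-
helper49: CALL S1366 (helper2), piece PB: the Hall `κ(L)`-subgroup `K₁ ≥ K*` of a maximal
subgroup `L` over `N_G(X)`, `X ≤ K` of prime order (verbatim statement; the proof is
`bg147_pb_core` fed with the pieces DISJ, KAP, ABS, PA).
-/
import Cfsg.Agent.Helper49.BG147PBCore
import Cfsg.Agent.Helper49.BG147ABS
import Cfsg.Agent.Helper1.BG147KAP
import Cfsg.Agent.Helper20.BG147PA
import Cfsg.Agent.Helper34.BG147DISJ

set_option autoImplicit false

namespace Cfsg.Agent.Helper49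

open Cfsg Subgroup

universe u

variable {G : Type u} [Group G] [Finite G]

/-- A6. The Hall `κ(L)`-subgroup `K₁ ≥ K*`: `K₁ ≤ M`, `L_σ ∩ M = K₁*`, `X ≤ K₁* ≤ K`. -/
theorem bg147_pb (hG : IsMinSimpleOddOrder G) (hcyc : Cfsg.Agent.Helper2.Cyc51 G)
    {M K X L K₁ : Subgroup G}
    (hM : IsCoatom M) (hK : IsPiHallOf (kappa M) K M) (hK1 : K ≠ ⊥) (hXK : X ≤ K)
    (hXp : (Nat.card X).Prime) (hL : IsCoatom L) (hN : normalizer (X : Set G) ≤ L)
    (hK₁ : IsPiHallOf (kappa L) K₁ L)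
    (hle : sigmaCore M ⊓ centralizer (K : Set G) ≤ K₁) :
    K₁ ≤ M ∧ sigmaCore L ⊓ M = sigmaCore L ⊓ centralizer (K₁ : Set G) ∧
      X ≤ sigmaCore L ⊓ centralizer (K₁ : Set G) ∧
      sigmaCore L ⊓ centralizer (K₁ : Set G) ≤ K :=
  bg147_pb_core hG hcyc
    (fun hM hL hnc _ _ ha haL hx hxM =>
      Cfsg.Agent.Helper34.bg147_comm hG hM hL hnc ha haL hx hxM)
    (fun hL ht htσ hYL hY hne hnu =>
      Cfsg.Agent.Helper1.bg147_mem_kappa hG hL ht htσ hYL hY hne hnu)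
    (fun hK hBM hB hn => bg147_hall_absorb hK hBM hB hn)
    (Cfsg.Agent.Helper20.bg147_pa hG hM hK (hcyc M K hM hK) hK1 hXK hXp hL hN)
    hM hK hK1 hXK hXp hL hN hK₁ hle

end Cfsg.Agent.Helper49
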