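import Mathlib
import Cfsg.Agent.S1350
import Cfsg.Agent.Helper49.BG1216
import Cfsg.Agent.Helper51.Replace
import Cfsg.Agent.Helper23.Trans

set_option autoImplicit false

/-!
# CALL S1382 piece ND (helper49, double): `N_G(D) ≤ M` for a nilpotent Hall subgroup `D` of `M_σ`.
-/

namespace Cfsg.Agent.Helper49

open Cfsg Subgroup

universe u

variable {G : Type u} [Group G] [Finite G]

/-- pure: a `p`-subgroup of `M` of index prime to `p` is a Sylow `p`-subgroup of `M`. -/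
theorem bg16c_isSylowOf_of_not_dvd {r : ℕ} (hr : r.Prime) {R M : Subgroup G} (hRM : R ≤ M)
    (hRr : IsPGroup r R) (hidx : ¬ r ∣ R.relIndex M) :
    Cfsg.Agent.Helper23.IsSylowOf r R M := by
  have : Fact r.Prime := ⟨hr⟩
  refine ⟨hRM, hRr, fun T hTM hTr hRT => ?_⟩
  have h1 : R.relIndex T ∣ R.relIndex M :=
    Dvd.intro _ (Subgroup.relIndex_mul_relIndex R T M hRT hTM)
  have h2 : R.relIndex T ∣ Nat.card T := Subgroup.relIndex_dvd_card R T
  obtain ⟨k, hk⟩ := IsPGroup.iff_card.mp hTr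
  rw [hk] at h2
  obtain ⟨j, -, hj⟩ := (Nat.dvd_prime_pow hr).mp h2
  have hj0 : j = 0 := by
    by_contra hne
    apply hidx
    have : r ∣ R.relIndex T := by
      rw [hj]
      exact dvd_pow_self r hne
    exact this.trans h1
  rw [hj0, pow_zero] at hj
  exact le_antisymm (Subgroup.relIndex_eq_one.mp hj) hRT

/-- ND. `N_G(D) ≤ M` for a nilpotent Hall subgroup `D ≠ 1` of `M_σ`: `hR` (= piece NDP) gives a
prime `r` and a Sylow `r`-subgroup `R ≠ 1` of `D` with `N(D) ≤ N(R)`; `r ∣ |M_σ|` so `r ∈ σ(M)`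
(`Helper23.mem_of_dvd_card_piCoreOf`); `R` is a Sylow `r`-subgroup of `M` (`r ∤ |M_σ : D| = |M_F|`
by `hcop`, `hDF`, `hFD`; `r ∤ |M : M_σ|` by row S1350); all Sylow `r`-subgroups of `M` are
`M`-conjugate and one of them has its normalizer in `M` (definition of `sigma`; compare
`Helper49.bg1216_sigma_normalizer_le`, module Helper49.BG1216), so `N_G(R) ≤ M`. -/
theorem bg16c_normalizer_D (hG : IsMinSimpleOddOrder G) {M D : Subgroup G} (hM : IsCoatom M)
    (hD : D ≤ sigmaCore M) (hDF : D ⊓ fittingHallOf M = ⊥)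
    (hFD : fittingHallOf M ⊔ D = sigmaCore M)
    (hcop : (Nat.card (fittingHallOf M)).Coprime (Nat.card D))
    (hR : ∃ (r : ℕ) (R : Subgroup G), r.Prime ∧ R ≤ D ∧ R ≠ ⊥ ∧ IsPGroup r R ∧
      ¬ r ∣ R.relIndex D ∧ ∀ g ∈ normalizer (D : Set G), g ∈ normalizer (R : Set G)) :
    normalizer (D : Set G) ≤ M := by
  classical
  obtain ⟨r, R, hr, hRD, hR1, hRr, hRi, hN⟩ := hR
  have : Fact r.Prime := ⟨hr⟩
  have hσM : sigmaCore M ≤ M := Cfsg.Agent.Helper23.piCoreOf_le (sigma M) M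
  have hDM : D ≤ M := hD.trans hσM
  -- `r ∣ |R|`
  have hrR : r ∣ Nat.card R := by
    obtain ⟨k, hk⟩ := IsPGroup.iff_card.mp hRr
    have hk0 : k ≠ 0 := by
      rintro rfl
      rw [pow_zero] at hk
      exact hR1 ((Subgroup.card_eq_one).mp hk)
    rw [hk]
    exact dvd_pow_self r hk0
  have hrD : r ∣ Nat.card D := hrR.trans (Subgroup.card_dvd_of_le hRD)
  have hrσ : r ∈ sigma M :=
    Cfsg.Agent.Helper23.mem_of_dvd_card_piCoreOf (sigma M) M hr
      (hrD.trans (Subgroup.card_dvd_of_le hD))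
  -- `|M_σ| = |D| |M_F|`
  have hDnF : D ≤ normalizer (fittingHallOf M : Set G) := by
    intro d hd
    rw [Subgroup.mem_normalizer_iff]
    intro f
    constructor
    · rintro ⟨y, hy, rfl⟩
      refine ⟨(⟨d, hDM hd⟩ : ↥M) * y * (⟨d, hDM hd⟩ : ↥M)⁻¹, ?_, rfl⟩
      exact (fittingHall_normal ↥M).conj_mem _ hy _
    · rintro ⟨y, hy, hyf⟩
      refine ⟨(⟨d, hDM hd⟩ : ↥M)⁻¹ * y * (⟨d, hDM hd⟩ : ↥M), ?_, ?_⟩
      · have := (fittingHall_normal ↥M).conj_mem _ hy (⟨d, hDM hd⟩ : ↥M)⁻¹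
        rwa [inv_inv] at this
      · simp only [Subgroup.subtype_apply, Subgroup.coe_mul, Subgroup.coe_inv]
        have h1 : (y : G) = d * f * d⁻¹ := hyf
        rw [h1]
        group
  have hcard := Cfsg.Agent.Helper51.card_sup_mul_card_inf_of_le_normalizer D (fittingHallOf M) hDnF
  rw [hDF, Subgroup.card_bot, mul_one, sup_comm, hFD] at hcard
  -- `r ∤ |M_σ : D|`
  have h1 : ¬ r ∣ D.relIndex (sigmaCore M) := by
    have h2 : Nat.card D * D.relIndex (sigmaCore M) = Nat.card (sigmaCore M) :=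
      Cfsg.Agent.Helper35.card_mul_relIndex_of_le hD
    intro hdvd
    have h3 : D.relIndex (sigmaCore M) = Nat.card (fittingHallOf M) := by
      have hpos : 0 < Nat.card D := Nat.card_pos
      have : Nat.card D * D.relIndex (sigmaCore M) = Nat.card D * Nat.card (fittingHallOf M) := by
        rw [h2, hcard]
      exact Nat.eq_of_mul_eq_mul_left hpos this
    rw [h3] at hdvd
    exact hr.one_lt.ne' (Nat.eq_one_of_dvd_coprimes hcop hdvd hrD)
  have h4 : ¬ r ∣ (sigmaCore M).relIndex M := (Cfsg.Agent.S1350.result hG M hM).1.2.2 r hr hrσ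
  have hidx : ¬ r ∣ R.relIndex M := by
    rw [← Subgroup.relIndex_mul_relIndex R D M hRD hDM,
      ← Subgroup.relIndex_mul_relIndex D (sigmaCore M) M hD hσM]
    intro h
    rcases (Nat.Prime.dvd_mul hr).mp h with h | h
    · exact hRi h
    · rcases (Nat.Prime.dvd_mul hr).mp h with h | h
      · exact h1 h
      · exact h4 h
  have hS := bg16c_isSylowOf_of_not_dvd hr (hRD.trans hDM) hRr hidx
  have hNR : normalizer (R : Set G) ≤ M := bg1216_sigma_normalizer_le hrσ hS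
  exact fun g hg => hNR (hN g hg)

end Cfsg.Agent.Helper49
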