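import Mathlib
import Cfsg.Agent.S1417
import Cfsg.Agent.S1418
import Cfsg.Agent.Helper22.BG10c
import Cfsg.Agent.Helper34.BG1210P4c

set_option autoImplicit false

/-!
# CALL S1435 piece TAU2A (helper49, double): the elementary abelian `r²`-subgroup of a complement.
-/

namespace Cfsg.Agent.Helper49

open Cfsg Subgroup

universe u

variable {G : Type u} [Group G] [Finite G] {M K U Mstar H : Subgroup G}

/-- TAU2A. For `r ∈ τ₂(H)` and a complement `E` of `H_σ`: the elementary abelian subgroup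
`A ≤ E` of order `r²` (it exists: `Helper22.bg10_exists_elemAb_sq` + conjugacy of complements /
`Helper20.bg13_exists_compl_ge`), with its properties from S1417 and S1418. -/
theorem bg65_tau2_A (hG : IsMinSimpleOddOrder G) {H E : Subgroup G} (hH : IsCoatom H)
    (hE : IsComplIn E (sigmaCore H) H) {r : ℕ} (hr : r ∈ tau2 H) :
    ∃ A : Subgroup G, A ≤ E ∧ Nat.card A = r ^ 2 ∧ E ≤ normalizer (A : Set G) ∧
      (∀ a ∈ A, ∀ b ∈ A, a * b = b * a) ∧ (∀ a ∈ A, a ^ r = 1) ∧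
      (∀ x ∈ E, orderOf x = r → x ∈ A) ∧ sigmaCore H ⊓ centralizer (A : Set G) = ⊥ := by
  classical
  have hrp : r.Prime := hr.1
  have : Fact r.Prime := ⟨hrp⟩
  obtain ⟨A₀, hA₀H, hA₀c, hA₀e, hA₀card⟩ :=
    Cfsg.Agent.Helper22.bg10_exists_elemAb_sq hrp (Z := H) hr.2.2.2
  have hA₀p : IsPGroup r A₀ := IsPGroup.of_card hA₀card
  obtain ⟨g, -, hg⟩ := Cfsg.Agent.Helper34.bg1210_conj_into_compl hE hr.2.1 hA₀H hA₀p
  obtain ⟨A, hAdef⟩ : ∃ A : Subgroup G, A = A₀.map (MulAut.conj g).toMonoidHom := ⟨_, rfl⟩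
  have hmem : ∀ a ∈ A, ∃ a₀ ∈ A₀, a = g * a₀ * g⁻¹ := by
    intro a ha
    rw [hAdef] at ha
    obtain ⟨a₀, ha₀, rfl⟩ := ha
    exact ⟨a₀, ha₀, rfl⟩
  have hAE : A ≤ E := by
    intro a ha
    obtain ⟨a₀, ha₀, rfl⟩ := hmem a ha
    exact hg a₀ ha₀
  have hAcard : Nat.card A = r ^ 2 := by
    rw [hAdef, Subgroup.card_map_of_injective (MulEquiv.injective (MulAut.conj g)), hA₀card]
  have hAc : ∀ a ∈ A, ∀ b ∈ A, a * b = b * a := by
    intro a ha b hb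
    obtain ⟨a₀, ha₀, rfl⟩ := hmem a ha
    obtain ⟨b₀, hb₀, rfl⟩ := hmem b hb
    have h1 : g * a₀ * g⁻¹ * (g * b₀ * g⁻¹) = g * (a₀ * b₀) * g⁻¹ := by group
    have h2 : g * b₀ * g⁻¹ * (g * a₀ * g⁻¹) = g * (b₀ * a₀) * g⁻¹ := by group
    rw [h1, h2, hA₀c a₀ ha₀ b₀ hb₀]
  have hAe : ∀ a ∈ A, a ^ r = 1 := by
    intro a ha
    obtain ⟨a₀, ha₀, rfl⟩ := hmem a ha
    rw [conj_pow, hA₀e a₀ ha₀, mul_one, mul_inv_cancel]
  have hAcomm : IsMulCommutative ↥A := ⟨⟨fun a b => Subtype.ext (hAc a a.2 b b.2)⟩⟩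
  have hAel : IsElementaryAbelian r A := ⟨hAcomm, hAe⟩
  obtain ⟨⟨hEn, hX⟩, -, -⟩ := Cfsg.Agent.S1418.result hG H hH E hE r hr A ⟨hAE, hAel, hAcard⟩
  obtain ⟨-, -, -, hcent, -, -⟩ :=
    Cfsg.Agent.S1417.result hG H hH r hr A ⟨hAE.trans hE.1, hAel, hAcard⟩
  refine ⟨A, hAE, hAcard, hEn, hAc, hAe, ?_, hcent⟩
  intro x hxE hxr
  have h1 : zpowers x ≤ A := hX (zpowers x) (zpowers_le.mpr hxE) (by rw [Nat.card_zpowers, hxr])
  exact h1 (mem_zpowers x)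

end Cfsg.Agent.Helper49
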