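import Mathlib
import Cfsg.Agent.Helper51.Replace

/-!
helper49: piece G5 of CALL S1376 (helper1; B&G Corollary 15.9), pure group theory.
-/

set_option autoImplicit false

namespace Cfsg.Agent.Helper49

open Subgroup

universe u

variable {G : Type u} [Group G] [Finite G]

/-- a subgroup normalizing `A` and `B` normalizes `A ⊔ B`. -/
theorem c9g5_normalizer_sup {X A B : Subgroup G} (hA : X ≤ normalizer (A : Set G))
    (hB : X ≤ normalizer (B : Set G)) : X ≤ normalizer ((A ⊔ B : Subgroup G) : Set G) := by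
  have key : ∀ y ∈ X, ∀ n ∈ A ⊔ B, y * n * y⁻¹ ∈ A ⊔ B := by
    intro y hy n hn
    have hle : A ⊔ B ≤ (A ⊔ B).comap (MulAut.conj y).toMonoidHom := by
      refine sup_le ?_ ?_
      · intro a ha
        rw [Subgroup.mem_comap]
        exact (le_sup_left : A ≤ A ⊔ B) ((Subgroup.mem_normalizer_iff.mp (hA hy) a).mp ha)
      · intro b hb
        rw [Subgroup.mem_comap]
        exact (le_sup_right : B ≤ A ⊔ B) ((Subgroup.mem_normalizer_iff.mp (hB hy) b).mp hb)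
    have h := hle hn
    rw [Subgroup.mem_comap] at h
    exact h
  intro x hx
  rw [Subgroup.mem_normalizer_iff]
  intro n
  constructor
  · exact key x hx n
  · intro h
    have h' := key x⁻¹ (X.inv_mem hx) _ h
    simpa [mul_assoc] using h'

/-- G5 (pure).  `N' := (Q ⊓ C(D)) ⊔ K` is normalized by `KL` (normalizes `Q ⊓ C(D)`, centralizes
`K`), by `D` and by `Q` (`a n a⁻¹ = (a n a⁻¹ n⁻¹) n`), hence by `L`; `Q ⊓ C(D) < N'` by `hdisj`, and
`N' < Q` by orders (`|N'| ≤ |Q ⊓ C(D)| |K| < |Q|`): against `hmin`. -/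
theorem c9_Gfin {L K KL Q D : Subgroup G} (hK1 : K ≠ ⊥) (hKp : (Nat.card K).Prime)
    (hKL : 2 ≤ Nat.card KL) (hKQ : K ≤ Q) (hLle : L ≤ KL ⊔ (Q ⊔ D)) (hKLL : KL ≤ L)
    (hLn₀ : L ≤ normalizer ((Q ⊓ centralizer (D : Set G) : Subgroup G) : Set G))
    (hcomm : ∀ a ∈ Q, ∀ b ∈ Q, a * b * a⁻¹ * b⁻¹ ∈ Q ⊓ centralizer (D : Set G))
    (hmin : ∀ N' : Subgroup G, Q ⊓ centralizer (D : Set G) < N' → N' < Q →
      ¬ L ≤ normalizer (N' : Set G))
    (hcard : Nat.card Q = Nat.card ↥(Q ⊓ centralizer (D : Set G)) * Nat.card K ^ Nat.card KL)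
    (hdisj : K ⊓ (Q ⊓ centralizer (D : Set G)) = ⊥) (hDK : D ≤ normalizer (K : Set G))
    (hDL : D ≤ L) (hKLK : KL ≤ centralizer (K : Set G)) : False := by
  set C₀ : Subgroup G := Q ⊓ centralizer (D : Set G) with hC₀
  have hC₀Q : C₀ ≤ Q := inf_le_left
  have hQC₀ : Q ≤ normalizer (C₀ : Set G) := by
    have key : ∀ a ∈ Q, ∀ b ∈ C₀, a * b * a⁻¹ ∈ C₀ := by
      intro a ha b hb
      have h1 := hcomm a ha b (hC₀Q hb)
      have h2 : a * b * a⁻¹ = a * b * a⁻¹ * b⁻¹ * b := by group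
      rw [h2]
      exact C₀.mul_mem h1 hb
    intro a ha
    rw [Subgroup.mem_normalizer_iff]
    intro b
    constructor
    · exact key a ha b
    · intro h
      have h' := key a⁻¹ (Q.inv_mem ha) _ h
      simpa [mul_assoc] using h'
  have hKC₀ : K ≤ normalizer (C₀ : Set G) := hKQ.trans hQC₀
  have hlt1 : C₀ < C₀ ⊔ K := by
    refine lt_of_le_of_ne le_sup_left ?_
    intro heq
    have hKle : K ≤ C₀ := by
      rw [heq]
      exact le_sup_right
    apply hK1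
    rw [← hdisj]
    exact (inf_eq_left.mpr hKle).symm
  have hle2 : C₀ ⊔ K ≤ Q := sup_le hC₀Q hKQ
  have hcardN : Nat.card ↥(C₀ ⊔ K) = Nat.card ↥C₀ * Nat.card ↥K := by
    have h := Cfsg.Agent.Helper51.card_sup_mul_card_inf_of_le_normalizer K C₀ hKC₀
    rw [hdisj, Subgroup.card_bot, mul_one] at h
    rw [sup_comm, h, mul_comm]
  have hlt2 : C₀ ⊔ K < Q := by
    refine lt_of_le_of_ne hle2 ?_
    intro heq
    have h1 : Nat.card ↥(C₀ ⊔ K) = Nat.card ↥Q := by rw [heq]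
    rw [hcardN, hcard] at h1
    have hC₀pos : 0 < Nat.card ↥C₀ := Nat.card_pos
    have hk2 : 2 ≤ Nat.card ↥K := hKp.two_le
    have h3 : Nat.card ↥K = Nat.card ↥K ^ Nat.card ↥KL := Nat.eq_of_mul_eq_mul_left hC₀pos h1
    have h4 : Nat.card ↥K ^ 1 < Nat.card ↥K ^ Nat.card ↥KL :=
      Nat.pow_lt_pow_right hk2 (by omega)
    rw [pow_one] at h4
    omega
  have hQN : Q ≤ normalizer ((C₀ ⊔ K : Subgroup G) : Set G) := by
    have key : ∀ a ∈ Q, ∀ n ∈ C₀ ⊔ K, a * n * a⁻¹ ∈ C₀ ⊔ K := by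
      intro a ha n hn
      have h1 := hcomm a ha n (hle2 hn)
      have h2 : a * n * a⁻¹ = a * n * a⁻¹ * n⁻¹ * n := by group
      rw [h2]
      exact (C₀ ⊔ K).mul_mem ((le_sup_left : C₀ ≤ C₀ ⊔ K) h1) hn
    intro a ha
    rw [Subgroup.mem_normalizer_iff]
    intro n
    constructor
    · exact key a ha n
    · intro h
      have h' := key a⁻¹ (Q.inv_mem ha) _ h
      simpa [mul_assoc] using h'
  have hKLN : KL ≤ normalizer ((C₀ ⊔ K : Subgroup G) : Set G) :=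
    c9g5_normalizer_sup (hKLL.trans hLn₀) (hKLK.trans (Subgroup.centralizer_le_normalizer _))
  have hDN : D ≤ normalizer ((C₀ ⊔ K : Subgroup G) : Set G) :=
    c9g5_normalizer_sup (hDL.trans hLn₀) hDK
  have hLN : L ≤ normalizer ((C₀ ⊔ K : Subgroup G) : Set G) :=
    hLle.trans (sup_le hKLN (sup_le hQN hDN))
  exact hmin (C₀ ⊔ K) hlt1 hlt2 hLN

end Cfsg.Agent.Helper49
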