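/-
Helper49 library: a nontrivial isolated element in a cyclic Sylow `p`-subgroup `P` forces `N_G(P) ≤ C_G(P)`
(hence a normal `p`-complement by Burnside's transfer theorem).
Everything lives in `namespace Cfsg.Agent.Helper49`.
-/
import Cfsg.Agent.Helper49.Isolated
import Mathlib.GroupTheory.Transfer
import Mathlib.GroupTheory.SpecificGroups.Cyclic

set_option autoImplicit false

namespace Cfsg.Agent.Helper49

open Cfsg

/-- In a finite cyclic group, if `x ≠ 1` has `p`-power order, every `c` with `c ^ p = 1` is a power of `x`. -/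
theorem mem_zpowers_of_pow_prime_eq_one {P : Type*} [Group P] [Finite P] [IsCyclic P] {p : ℕ}
    [Fact p.Prime] {x c : P} (hx1 : x ≠ 1) (hx : ∃ k : ℕ, orderOf x = p ^ k) (hc : c ^ p = 1) :
    c ∈ Subgroup.zpowers x := by
  classical
  have hp : p.Prime := Fact.out
  obtain ⟨k, hk⟩ := hx
  have hk0 : k ≠ 0 := by
    rintro rfl
    rw [pow_zero, orderOf_eq_one_iff] at hk
    exact hx1 hk
  obtain ⟨k', rfl⟩ : ∃ k', k = k' + 1 := ⟨k - 1, by omega⟩
  set x₀ : P := x ^ p ^ k' with hx₀
  have hx₀p : x₀ ^ p = 1 := by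
    rw [hx₀, ← pow_mul, ← pow_succ, ← hk, pow_orderOf_eq_one]
  have hx₀1 : x₀ ≠ 1 := by
    intro h
    have h1 : orderOf x ∣ p ^ k' := orderOf_dvd_of_pow_eq_one h
    rw [hk] at h1
    have h2 := Nat.le_of_dvd (pow_pos hp.pos k') h1
    have h3 : p ^ k' < p ^ (k' + 1) := Nat.pow_lt_pow_right hp.one_lt (Nat.lt_succ_self k')
    omega
  have hord : orderOf x₀ = p := orderOf_eq_prime hx₀p hx₀1
  have : Fintype P := Fintype.ofFinite P
  have hA : (Finset.univ.filter (fun a : P => a ^ p = 1)).card ≤ p :=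
    IsCyclic.card_pow_eq_one_le hp.pos
  have hBA : ((Subgroup.zpowers x₀ : Set P)).toFinset ⊆ Finset.univ.filter (fun a : P => a ^ p = 1) := by
    intro y hy
    rw [Set.mem_toFinset] at hy
    obtain ⟨i, rfl⟩ := Subgroup.mem_zpowers_iff.mp hy
    rw [Finset.mem_filter]
    refine ⟨Finset.mem_univ _, ?_⟩
    rw [← zpow_natCast, ← zpow_mul, mul_comm, zpow_mul, zpow_natCast, hx₀p, one_zpow]
  have hB : ((Subgroup.zpowers x₀ : Set P)).toFinset.card = p := by
    rw [Set.toFinset_card]
    have := Fintype.card_zpowers (x := x₀)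
    rw [hord] at this
    convert this using 2
    all_goals rfl
  have hEq := Finset.eq_of_subset_of_card_le hBA (by rw [hB]; exact hA)
  have hcA : c ∈ Finset.univ.filter (fun a : P => a ^ p = 1) := by
    rw [Finset.mem_filter]; exact ⟨Finset.mem_univ _, hc⟩
  rw [← hEq, Set.mem_toFinset] at hcA
  have hle : Subgroup.zpowers x₀ ≤ Subgroup.zpowers x :=
    (Subgroup.zpowers_le).mpr (Subgroup.pow_mem _ (Subgroup.mem_zpowers x) _)
  exact hle hcA

variable {G : Type*} [Group G] {p : ℕ}

/-- If a cyclic Sylow `p`-subgroup `P` of a finite group contains a nontrivial isolated element, then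
`N_G(P) ≤ C_G(P)`. -/
theorem isolated_normalizer_le_centralizer_of_cyclic [Finite G] [Fact p.Prime] {x : G}
    (hx : ∃ k : ℕ, orderOf x = p ^ k) (hx1 : x ≠ 1) (hiso : IsIsolated x) (P : Sylow p G)
    (hxP : x ∈ (P : Subgroup G)) (hcyc : IsCyclic ↥(P : Subgroup G)) :
    Subgroup.normalizer ((P : Subgroup G) : Set G) ≤ Subgroup.centralizer ((P : Subgroup G) : Set G) := by
  intro n hn
  have hnx : n * x = x * n := Subgroup.mem_centralizer_singleton_iff.mp
    (isolated_normalizer_le_centralizer hiso P.isPGroup' hxP hn)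
  have hPle : (P : Subgroup G) ≤ Subgroup.centralizer ((P : Subgroup G) : Set G) :=
    Subgroup.le_centralizer_iff_isMulCommutative.mpr inferInstance
  -- a power of `n` prime to `p` centralizes `P`
  set j : ℕ := ((Subgroup.centralizer ((P : Subgroup G) : Set G)).subgroupOf
    (Subgroup.normalizer ((P : Subgroup G) : Set G))).index with hj
  have hnj : n ^ j ∈ Subgroup.centralizer ((P : Subgroup G) : Set G) := by
    have h1 := Subgroup.pow_index_mem ((Subgroup.centralizer ((P : Subgroup G) : Set G)).subgroupOf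
      (Subgroup.normalizer ((P : Subgroup G) : Set G))) ⟨n, hn⟩
    rw [Subgroup.mem_subgroupOf] at h1
    exact h1
  have hjp : j.Coprime p := by
    have hp : p.Prime := Fact.out
    rw [Nat.coprime_comm, Nat.Prime.coprime_iff_not_dvd hp]
    intro hdvd
    have h1 : j ∣ (P : Subgroup G).relIndex (Subgroup.normalizer ((P : Subgroup G) : Set G)) :=
      Subgroup.relIndex_dvd_of_le_left _ hPle
    have h2 : (P : Subgroup G).relIndex (Subgroup.normalizer ((P : Subgroup G) : Set G)) ∣
        (P : Subgroup G).index := Subgroup.relIndex_dvd_index_of_le Subgroup.le_normalizer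
    exact P.not_dvd_index (hdvd.trans (h1.trans h2))
  have key : ∀ k : ℕ, ∀ u ∈ (P : Subgroup G), u ^ p ^ k = 1 → n * u * n⁻¹ = u := by
    intro k
    induction k with
    | zero =>
      intro u _ hu
      rw [pow_zero, pow_one] at hu
      rw [hu]; group
    | succ k ih =>
      intro u hu hupow
      have hup : (u ^ p) ^ p ^ k = 1 := by rw [← pow_mul, ← pow_succ']; exact hupow
      have ih' : n * u ^ p * n⁻¹ = u ^ p := ih (u ^ p) (Subgroup.pow_mem _ hu p) hup
      have hconjP : n * u * n⁻¹ ∈ (P : Subgroup G) := (Subgroup.mem_normalizer_iff.mp hn u).mp hu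
      have hcP : u⁻¹ * (n * u * n⁻¹) ∈ (P : Subgroup G) :=
        Subgroup.mul_mem _ (Subgroup.inv_mem _ hu) hconjP
      have hcomm : Commute u⁻¹ (n * u * n⁻¹) :=
        (Subgroup.mem_centralizer_iff.mp (hPle hconjP) u⁻¹ (Subgroup.inv_mem _ hu))
      have hcp : (u⁻¹ * (n * u * n⁻¹)) ^ p = 1 := by
        rw [hcomm.mul_pow, conj_pow, ih', inv_pow, inv_mul_cancel]
      -- `c` is a power of `x`
      have hcx : u⁻¹ * (n * u * n⁻¹) ∈ Subgroup.zpowers x := by
        have hx1' : (⟨x, hxP⟩ : ↥(P : Subgroup G)) ≠ 1 := fun h => hx1 (congrArg Subtype.val h)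
        have hx' : ∃ k : ℕ, orderOf (⟨x, hxP⟩ : ↥(P : Subgroup G)) = p ^ k := by
          rw [Subgroup.orderOf_mk]; exact hx
        have hc' : (⟨u⁻¹ * (n * u * n⁻¹), hcP⟩ : ↥(P : Subgroup G)) ^ p = 1 :=
          Subtype.ext (by simpa using hcp)
        have h1 := mem_zpowers_of_pow_prime_eq_one hx1' hx' hc'
        obtain ⟨i, hi⟩ := Subgroup.mem_zpowers_iff.mp h1
        refine Subgroup.mem_zpowers_iff.mpr ⟨i, ?_⟩
        have := congrArg Subtype.val hi
        simpa using this
      have hnc : Commute n (u⁻¹ * (n * u * n⁻¹)) := by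
        obtain ⟨i, hi⟩ := Subgroup.mem_zpowers_iff.mp hcx
        rw [← hi]
        exact (show Commute n x from hnx).zpow_right i
      have h1 : n * u * n⁻¹ = u * (u⁻¹ * (n * u * n⁻¹)) := by group
      have h2 := conj_pow_eq_mul_pow h1 hnc j
      have h3 : n ^ j * u * (n ^ j)⁻¹ = u := by
        have := Subgroup.mem_centralizer_iff.mp hnj u hu
        rw [← this]; group
      rw [h3] at h2
      have h4 : (u⁻¹ * (n * u * n⁻¹)) ^ j = 1 := by
        exact (mul_eq_left.mp h2.symm)
      have h5 : u⁻¹ * (n * u * n⁻¹) = 1 :=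
        eq_one_of_pow_eq_one_of_coprime (k := 1) h4 (by rw [pow_one]; exact hcp) hjp
      rw [h1, h5, mul_one]
  rw [Subgroup.mem_centralizer_iff]
  intro u hu
  obtain ⟨k, hk⟩ := pow_eq_one_of_mem_isPGroup P.isPGroup' hu
  have h1 := key k u hu hk
  calc u * n = (n * u * n⁻¹) * n := by rw [h1]
    _ = n * u := by group

end Cfsg.Agent.Helper49
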