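import Mathlib
import Cfsg.Agent.Helper2.Class2

/-!
helper49: piece XO of CALL LM (helper21; row S4067).
-/

set_option autoImplicit false

namespace Cfsg.Agent.Helper49.LM

open Subgroup
open scoped commutatorElement

/-- XO: `p` odd: a central element of order `p` outside `G'`, or a non-central element of order `p`. -/
theorem lm_xo {G : Type*} [Group G] [Finite G] (hZ : commutator G ≤ Subgroup.center G)
    (hc : Nat.card (commutator G) = (Nat.card G).minFac) (hna : ¬ IsMulCommutative G)
    (hodd : (Nat.card G).minFac ≠ 2) :
    (∃ c : G, c ∈ Subgroup.center G ∧ orderOf c = (Nat.card G).minFac ∧ c ∉ commutator G) ∨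
      (∃ x : G, x ∉ Subgroup.center G ∧ x ^ (Nat.card G).minFac = 1) := by
  by_contra hcon
  push Not at hcon
  obtain ⟨hA, hB⟩ := hcon
  have hG1 : Nat.card G ≠ 1 := by
    intro h1
    apply hna
    haveI : Subsingleton G := (Nat.card_eq_one_iff_unique.mp h1).1
    exact ⟨⟨fun a b => Subsingleton.elim _ _⟩⟩
  have hp : (Nat.card G).minFac.Prime := Nat.minFac_prime hG1
  have hcomm_pow : ∀ a b : G, ⁅a, b⁆ ^ (Nat.card G).minFac = 1 := by
    intro a b
    have hmem : ⁅a, b⁆ ∈ commutator G :=
      Subgroup.commutator_mem_commutator (Subgroup.mem_top a) (Subgroup.mem_top b)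
    have h1 : (⟨⁅a, b⁆, hmem⟩ : commutator G) ^ Nat.card (commutator G) = 1 := pow_card_eq_one'
    rw [hc] at h1
    have h2 := congrArg Subtype.val h1
    simpa using h2
  let φ : G →* G :=
    { toFun := fun g => g ^ (Nat.card G).minFac
      map_one' := one_pow _
      map_mul' := fun a b =>
        Cfsg.Agent.Helper2.mul_pow_prime_of_class_two hZ hp hodd a b (hcomm_pow b a) }
  have hφ : ∀ g, φ g = g ^ (Nat.card G).minFac := fun _ => rfl
  have hrange : φ.range ≤ center G := by
    rintro _ ⟨g, rfl⟩
    rw [hφ, Subgroup.mem_center_iff]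
    intro h
    have h1 : ⁅g ^ (Nat.card G).minFac, h⁆ = 1 := by
      rw [Cfsg.Agent.Helper2.commutatorElement_pow_left_of_class_two hZ, hcomm_pow]
    exact (commutatorElement_eq_one_iff_mul_comm.mp h1).symm
  have hker : φ.ker ≤ commutator G := by
    intro g hg
    have hgp : g ^ (Nat.card G).minFac = 1 := hg
    by_cases hg1 : g = 1
    · rw [hg1]
      exact one_mem _
    · have hgZ : g ∈ center G := by
        by_contra hn
        exact hB g hn hgp
      have hord : orderOf g = (Nat.card G).minFac := by
        have hdvd : orderOf g ∣ (Nat.card G).minFac := orderOf_dvd_of_pow_eq_one hgp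
        rcases (Nat.dvd_prime hp).1 hdvd with h | h
        · exact absurd (orderOf_eq_one_iff.1 h) hg1
        · exact h
      exact hA g hgZ hord
  have hcard : Nat.card G = Nat.card φ.ker * Nat.card φ.range := by
    rw [← Subgroup.index_ker, Subgroup.card_mul_index]
  have hk_le : Nat.card φ.ker ≤ (Nat.card G).minFac := by
    rw [← hc]
    exact Nat.le_of_dvd Nat.card_pos (Subgroup.card_dvd_of_le hker)
  have hr_le : Nat.card φ.range ≤ Nat.card (center G) :=
    Nat.le_of_dvd Nat.card_pos (Subgroup.card_dvd_of_le hrange)
  have hZidx : (center G).index ≤ (Nat.card G).minFac := by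
    have h1 : Nat.card (center G) * (center G).index = Nat.card G := Subgroup.card_mul_index _
    have hZpos : 0 < Nat.card (center G) := Nat.card_pos
    have h2 : Nat.card (center G) * (center G).index ≤
        Nat.card (center G) * (Nat.card G).minFac := by
      rw [h1]
      calc Nat.card G = Nat.card φ.ker * Nat.card φ.range := hcard
        _ ≤ (Nat.card G).minFac * Nat.card (center G) := Nat.mul_le_mul hk_le hr_le
        _ = Nat.card (center G) * (Nat.card G).minFac := mul_comm _ _
    exact Nat.le_of_mul_le_mul_left h2 hZpos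
  have hidx_dvd : (center G).index ∣ Nat.card G := Subgroup.index_dvd_card _
  have hidx1 : (center G).index ≠ 1 := by
    intro h1
    apply hna
    have htop : center G = ⊤ := Subgroup.index_eq_one.mp h1
    refine ⟨⟨fun a b => ?_⟩⟩
    have ha : a ∈ center G := by
      rw [htop]
      exact Subgroup.mem_top a
    exact ((Subgroup.mem_center_iff.mp ha) b).symm
  have hidx_ge : (Nat.card G).minFac ≤ (center G).index := by
    have hpos : 0 < (center G).index := Nat.pos_of_ne_zero Subgroup.index_ne_zero_of_finite
    exact Nat.minFac_le_of_dvd (by omega) hidx_dvd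
  have hidx : (center G).index = (Nat.card G).minFac := le_antisymm hZidx hidx_ge
  haveI : Fact (Nat.card G).minFac.Prime := ⟨hp⟩
  have hcyc : IsCyclic (G ⧸ center G) :=
    isCyclic_of_prime_card (p := (Nat.card G).minFac)
      (by rw [← Subgroup.index_eq_card]; exact hidx)
  apply hna
  exact ⟨⟨fun a b => commutative_of_cyclic_center_quotient (QuotientGroup.mk' (center G))
    (by rw [QuotientGroup.ker_mk']) a b⟩⟩

end Cfsg.Agent.Helper49.LM
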