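/-
Helper49 library: minimal invariant subgroups, conjugates of a minimal normal subgroup,
closures of commuting elements of order `p`.
Everything lives in `namespace Cfsg.Agent.Helper49`.
-/
import Mathlib.GroupTheory.Sylow
import Mathlib.GroupTheory.Subgroup.Centralizer
import Mathlib.Data.Set.Finite.Lemmas

set_option autoImplicit false

namespace Cfsg.Agent.Helper49

variable {G : Type*} [Group G]

/-- Among the nontrivial `A`-invariant subgroups of `B` there is a minimal one. -/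
theorem exists_minimal_invariant [Finite G] (A : Subgroup G) {B : Subgroup G} (hB : B ≠ ⊥)
    (hAB : A ≤ Subgroup.normalizer (B : Set G)) :
    ∃ M : Subgroup G, M ≠ ⊥ ∧ M ≤ B ∧ A ≤ Subgroup.normalizer (M : Set G) ∧
      ∀ M' : Subgroup G, M' ≠ ⊥ → M' ≤ M → A ≤ Subgroup.normalizer (M' : Set G) → M' = M := by
  obtain ⟨M, ⟨hM1, hM2, hM3⟩, hmin⟩ := Set.exists_min_image
    {M : Subgroup G | M ≠ ⊥ ∧ M ≤ B ∧ A ≤ Subgroup.normalizer (M : Set G)}
    (fun M => Nat.card M) (Set.toFinite _) ⟨B, hB, le_rfl, hAB⟩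
  refine ⟨M, hM1, hM2, hM3, ?_⟩
  intro M' h1 h2 h3
  have h4 := hmin M' ⟨h1, h2.trans hM2, h3⟩
  exact Subgroup.eq_of_le_of_card_ge h2 h4

/-- A subgroup of `↥N` which is normal, viewed in `G`, is normalized by `N`. -/
theorem le_normalizer_map_subtype_of_normal {N : Subgroup G} (H : Subgroup ↥N) [hn : H.Normal] :
    N ≤ Subgroup.normalizer ((H.map N.subtype : Subgroup G) : Set G) := by
  intro n hn'
  rw [Subgroup.mem_normalizer_iff]
  intro k
  constructor
  · rintro ⟨k', hk', rfl⟩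
    exact ⟨⟨n, hn'⟩ * k' * ⟨n, hn'⟩⁻¹, hn.conj_mem k' hk' _, rfl⟩
  · rintro ⟨k', hk', hk'eq⟩
    refine ⟨⟨n, hn'⟩⁻¹ * k' * ⟨n, hn'⟩, ?_, ?_⟩
    · have := hn.conj_mem k' hk' ⟨n, hn'⟩⁻¹
      simpa using this
    · simp only [Subgroup.subtype_apply, Subgroup.coe_mul, Subgroup.coe_inv] at hk'eq ⊢
      rw [hk'eq]; group

/-- If every `N`-invariant subgroup of `N` is trivial or `N`, and `N ≠ 1`, then `N` is a simple group. -/
theorem isSimpleGroup_of_forall_invariant {N : Subgroup G} (hN : N ≠ ⊥)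
    (h : ∀ B : Subgroup G, B ≤ N → N ≤ Subgroup.normalizer (B : Set G) → B = ⊥ ∨ B = N) :
    IsSimpleGroup ↥N := by
  have hnt : Nontrivial ↥N := (Subgroup.nontrivial_iff_ne_bot N).mpr hN
  refine { exists_pair_ne := hnt.exists_pair_ne, eq_bot_or_eq_top_of_normal := ?_ }
  intro H hH
  rcases h (H.map N.subtype) (Subgroup.map_subtype_le H) (le_normalizer_map_subtype_of_normal H) with
    h1 | h1
  · left
    exact (Subgroup.map_eq_bot_iff_of_injective H N.subtype_injective).mp h1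
  · right
    apply Subgroup.map_injective N.subtype_injective
    rw [h1, ← MonoidHom.range_eq_map, Subgroup.range_subtype]

/-- Let `M` be a minimal `N`-invariant subgroup of `N` and `y` an element normalizing `N` but not `M`.
Then `M` and its conjugate by `y` meet trivially and commute elementwise. -/
theorem commute_conj_of_minimal_invariant [Finite G] {N M : Subgroup G} (hMN : M ≤ N)
    (hNM : N ≤ Subgroup.normalizer (M : Set G))
    (hmin : ∀ M' : Subgroup G, M' ≠ ⊥ → M' ≤ M → N ≤ Subgroup.normalizer (M' : Set G) → M' = M)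
    {y : G} (hyN : y ∈ Subgroup.normalizer (N : Set G)) (hyM : y ∉ Subgroup.normalizer (M : Set G)) :
    M ⊓ M.map (MulAut.conj y).toMonoidHom = ⊥ ∧ ∀ a ∈ M, ∀ b ∈ M, Commute a (y * b * y⁻¹) := by
  set My : Subgroup G := M.map (MulAut.conj y).toMonoidHom with hMy
  have hMyN : My ≤ N := by
    rintro _ ⟨m, hm, rfl⟩
    exact (Subgroup.mem_normalizer_iff.mp hyN m).mp (hMN hm)
  have hNMy : N ≤ Subgroup.normalizer (My : Set G) := by
    intro n hn
    apply Subgroup.le_normalizer_map (MulAut.conj y).toMonoidHom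
    refine ⟨y⁻¹ * n * y, hNM ?_, ?_⟩
    · have h1 : y⁻¹ ∈ Subgroup.normalizer (N : Set G) := Subgroup.inv_mem _ hyN
      have h2 := (Subgroup.mem_normalizer_iff.mp h1 n).mp hn
      simpa using h2
    · simp only [MulEquiv.coe_toMonoidHom, MulAut.conj_apply]
      group
  have hI : M ⊓ My = ⊥ := by
    by_contra hne
    have hNI : N ≤ Subgroup.normalizer ((M ⊓ My : Subgroup G) : Set G) := by
      intro n hn
      rw [Subgroup.mem_normalizer_iff]
      intro k
      rw [Subgroup.mem_inf, Subgroup.mem_inf, ← Subgroup.mem_normalizer_iff.mp (hNM hn) k,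
        ← Subgroup.mem_normalizer_iff.mp (hNMy hn) k]
    have h1 := hmin (M ⊓ My) hne inf_le_left hNI
    have h2 : M ≤ My := by rw [← h1]; exact inf_le_right
    have h3 : Nat.card My = Nat.card M := Subgroup.card_map_of_injective (MulAut.conj y).injective
    have h4 : M = My := Subgroup.eq_of_le_of_card_ge h2 h3.le
    exact hyM (Subgroup.mem_normalizer_iff_map_conj_eq.mpr h4.symm)
  refine ⟨hI, ?_⟩
  intro a ha b hb
  have hb' : y * b * y⁻¹ ∈ My := ⟨b, hb, rfl⟩
  have h1 : a * (y * b * y⁻¹) * a⁻¹ * (y * b * y⁻¹)⁻¹ ∈ M ⊓ My := by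
    constructor
    · have h2 : (y * b * y⁻¹) * a⁻¹ * (y * b * y⁻¹)⁻¹ ∈ M :=
        (Subgroup.mem_normalizer_iff.mp (hNM (hMyN hb')) a⁻¹).mp (M.inv_mem ha)
      have h3 : a * (y * b * y⁻¹) * a⁻¹ * (y * b * y⁻¹)⁻¹ =
          a * ((y * b * y⁻¹) * a⁻¹ * (y * b * y⁻¹)⁻¹) := by group
      rw [h3]; exact M.mul_mem ha h2
    · have h2 : a * (y * b * y⁻¹) * a⁻¹ ∈ My :=
        (Subgroup.mem_normalizer_iff.mp (hNMy (hMN ha)) _).mp hb'
      exact My.mul_mem h2 (My.inv_mem hb')
  rw [hI, Subgroup.mem_bot] at h1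
  show a * (y * b * y⁻¹) = (y * b * y⁻¹) * a
  calc a * (y * b * y⁻¹) = (a * (y * b * y⁻¹) * a⁻¹ * (y * b * y⁻¹)⁻¹) * ((y * b * y⁻¹) * a) := by
        group
    _ = (y * b * y⁻¹) * a := by rw [h1, one_mul]

/-- The closure of a set of pairwise commuting elements killed by `p` is killed by `p`. -/
theorem pow_eq_one_of_mem_closure_of_commute {p : ℕ} {S : Set G}
    (hS : ∀ a ∈ S, ∀ b ∈ S, a * b = b * a) (hp : ∀ a ∈ S, a ^ p = 1) :
    ∀ g ∈ Subgroup.closure S, g ^ p = 1 := by
  have h1 : Subgroup.closure S ≤ Subgroup.centralizer S := by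
    rw [Subgroup.closure_le]
    intro a ha
    rw [SetLike.mem_coe, Subgroup.mem_centralizer_iff]
    intro b hb
    exact hS b hb a ha
  have h2 := Subgroup.closure_le_centralizer_centralizer S
  have hcomm : ∀ a ∈ Subgroup.closure S, ∀ b ∈ Subgroup.closure S, Commute a b := by
    intro a ha b hb
    have h3 := Subgroup.mem_centralizer_iff.mp (h2 hb) a (h1 ha)
    exact h3
  intro g hg
  induction hg using Subgroup.closure_induction with
  | mem a ha => exact hp a ha
  | one => exact one_pow p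
  | mul a b ha hb iha ihb => rw [(hcomm a ha b hb).mul_pow, iha, ihb, one_mul]
  | inv a ha iha => rw [inv_pow, iha, inv_one]

theorem isPGroup_closure_of_commute {p : ℕ} {S : Set G}
    (hS : ∀ a ∈ S, ∀ b ∈ S, a * b = b * a) (hp : ∀ a ∈ S, a ^ p = 1) :
    IsPGroup p (Subgroup.closure S) := by
  intro g
  refine ⟨1, ?_⟩
  apply Subtype.ext
  rw [pow_one, Subgroup.coe_pow, Subgroup.coe_one]
  exact pow_eq_one_of_mem_closure_of_commute hS hp g g.2

end Cfsg.Agent.Helper49
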