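import Mathlib
import Cfsg.Agent.Helper49.OTODDCore
import Cfsg.Agent.Helper49.OTFIXV

set_option autoImplicit false

/-!
# CALL OT piece ODD (helper49): verbatim `ot_odd`, from `ot_odd_core` and `ot_fixv`.
-/

namespace Cfsg.Agent.Helper49.OT5972

open Module Polynomial Cfsg.Agent.Helper90.HT

section geom2

variable {F : Type*} [Field F] {V : Type*} [AddCommGroup V] [Module F V] [FiniteDimensional F V]
  (h : V → V → F)

/-- ODD (uses FIXV; take an invariant `W' ≤ U` of dimension `i` by `chain_exists`; its radical is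
invariant; if the radical is zero, FIXV gives a fixed vector in `W'`, contradiction). -/
theorem ot_odd [Fintype F] (hh : IsHerm (RingHom.id F) h) (h2 : (2 : F) ≠ 0) (T : Module.End F V)
    (hT : HPres h T) (r : ℕ) [Fact r.Prime] (hr2 : 2 < r) (hrF : (r : F) ≠ 0) (hTr : T ^ r = 1)
    (hodd : Odd (orderOf ((Fintype.card F : ℕ) : ZMod r))) (U : Submodule F V)
    (hU : U.map T ≤ U) (hU0 : U ≠ ⊥) (hUk : U ⊓ LinearMap.ker (T - 1) = ⊥) :
    ∃ W' : Submodule F V, W' ≤ U ∧ HTI h W' ∧ W'.map T ≤ W' ∧ W' ≠ ⊥ := by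
  have hr : r.Prime := Fact.out
  have hrodd : Odd r := hr.odd_of_ne_two (by omega)
  exact ot_odd_core h hh T hT r hrF hTr hodd U hU hU0 hUk
    (fun D hDT hD hDodd => ot_fixv h hh h2 T hT r hrodd hTr D hDT hD hDodd)

end geom2

end Cfsg.Agent.Helper49.OT5972
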