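import Mathlib
import Cfsg.Prelude.Def_GeometricClasses
import Cfsg.Prelude.Def_Classical
import Cfsg.Agent.Helper98.ELPDefs
import Cfsg.Agent.Helper98.S90T2Defs

set_option autoImplicit false

/-!
helper49: auxiliary lemmas for my pieces of sub-CALL S90T2 (helper98; row S5990, `r = p = 2`).
-/

namespace Cfsg.Agent.Helper49.S90T2

open Module Matrix Cfsg Cfsg.Geo Cfsg.Agent.Helper98.ELP Cfsg.Agent.Helper98.S90T2
open scoped MatrixGroups

variable {n : Type} [Fintype n] [DecidableEq n] {F : Type*} [Field F]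

theorem embM_inl49 (g : Matrix (n ⊕ n) (n ⊕ n) F) (v : (n ⊕ n) ⊕ Fin 2 → F) (i : n ⊕ n) :
    (embM g *ᵥ v) (.inl i) = (g *ᵥ (fun j => v (.inl j))) i := by
  have hv : v = Sum.elim (fun j => v (.inl j)) (fun k => v (.inr k)) := by
    funext x; cases x <;> rfl
  conv_lhs => rw [hv]
  rw [embM, Matrix.fromBlocks_mulVec]
  simp

theorem embM_inr49 (g : Matrix (n ⊕ n) (n ⊕ n) F) (v : (n ⊕ n) ⊕ Fin 2 → F) (k : Fin 2) :
    (embM g *ᵥ v) (.inr k) = v (.inr k) := by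
  have hv : v = Sum.elim (fun j => v (.inl j)) (fun k => v (.inr k)) := by
    funext x; cases x <;> rfl
  conv_lhs => rw [hv]
  rw [embM, Matrix.fromBlocks_mulVec]
  simp [Matrix.one_mulVec]

theorem qm_split49 (a b : F) (w : (n ⊕ n) ⊕ Fin 2 → F) :
    qm n F a b w = qp n F (fun j => w (.inl j)) +
      (w (.inr 0) ^ 2 + a * w (.inr 0) * w (.inr 1) + b * w (.inr 1) ^ 2) := rfl

theorem emb_mem_iso49 (a b : F) (g : GL (n ⊕ n) F) (hg : g ∈ Cfsg.isometryGroup F (qp n F)) :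
    emb g ∈ Cfsg.isometryGroup F (qm n F a b) := by
  intro u v
  show qm n F a b (embM (g : Matrix (n ⊕ n) (n ⊕ n) F) *ᵥ u) = qm n F a b u
  rw [qm_split49, qm_split49]
  have h1 : (fun j => (embM (g : Matrix (n ⊕ n) (n ⊕ n) F) *ᵥ u) (.inl j)) =
      (g : Matrix (n ⊕ n) (n ⊕ n) F) *ᵥ (fun j => u (.inl j)) := by
    funext j
    exact embM_inl49 _ u j
  have h2 : qp n F ((g : Matrix (n ⊕ n) (n ⊕ n) F) *ᵥ (fun j => u (.inl j))) =
      qp n F (fun j => u (.inl j)) := hg (fun j => u (.inl j)) (fun j => u (.inl j))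
  rw [h1, h2, embM_inr49, embM_inr49]

end Cfsg.Agent.Helper49.S90T2
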