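import Mathlib
import Cfsg.Prelude.Def_GeometricClasses
import Cfsg.Prelude.Def_Classical
import Cfsg.Agent.Helper98.ELPDefs
import Cfsg.Agent.Helper98.S90T2Defs
import Cfsg.Agent.Helper47.ELPAPP
import Cfsg.Agent.Helper47.ELPT0KER
import Cfsg.Agent.Helper49.S90T2Aux

set_option autoImplicit false

/-!
helper49: piece BADKER of sub-CALL S90T2 (helper98; row S5990, `r = p = 2`).
-/

namespace Cfsg.Agent.Helper49.S90T2

open Module Matrix Cfsg Cfsg.Geo Cfsg.Agent.Helper98.ELP Cfsg.Agent.Helper98.S90T2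
open scoped MatrixGroups

section elt

variable {n : Type} [Fintype n] [DecidableEq n] {F : Type*} [Field F]

/-- BADKER [M]: a fixed singular vector of `embM (siegM (t0 k F))`, `k` even, lies in `subUm`. -/
theorem bad_ker (k : ℕ) (hk : Even k) (a b : F)
    (hab : ∀ x y : F, x ^ 2 + a * x * y + b * y ^ 2 = 0 → x = 0 ∧ y = 0)
    (v : (Fin k ⊕ Fin k) ⊕ Fin 2 → F) (hfix : embM (siegM (t0 k F)) *ᵥ v = v)
    (hq : qm (Fin k) F a b v = 0) : v ∈ subUm (Fin k) F := by
  have hu : (t0 k F - (t0 k F)ᵀ) *ᵥ (fun j => v (.inl (.inr j))) = 0 := by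
    funext i
    have h1 := congrFun hfix (Sum.inl (Sum.inl i))
    rw [embM_inl49, Cfsg.Agent.Helper47.ELP.siegM_mulVec_inl] at h1
    simpa using h1
  have hz : ∀ j : Fin k, v (.inl (.inr j)) = 0 := by
    intro j
    have hj : (j : ℕ) < 2 * (k / 2) := by
      obtain ⟨t, ht⟩ := hk
      have := j.2
      omega
    exact Cfsg.Agent.Helper47.ELP.t0_ker k (fun j => v (.inl (.inr j))) hu j hj
  have hbin : v (.inr 0) ^ 2 + a * v (.inr 0) * v (.inr 1) + b * v (.inr 1) ^ 2 = 0 := by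
    have h1 : qm (Fin k) F a b v =
        0 + (v (.inr 0) ^ 2 + a * v (.inr 0) * v (.inr 1) + b * v (.inr 1) ^ 2) := by
      unfold qm
      congr 1
      apply Finset.sum_eq_zero
      intro i _
      rw [hz i, mul_zero]
    rw [h1, zero_add] at hq
    exact hq
  obtain ⟨h0, h1⟩ := hab _ _ hbin
  rw [mem_subUm]
  refine ⟨hz, ?_⟩
  intro kk
  fin_cases kk
  · exact h0
  · exact h1

end elt

end Cfsg.Agent.Helper49.S90T2
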