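import Mathlib
import Cfsg.Prelude.Def_GeometricClasses
import Cfsg.Prelude.Def_Classical
import Cfsg.Agent.Helper98.ELPDefs
import Cfsg.Agent.Helper98.S90T2Defs

set_option autoImplicit false

/-!
helper49: piece BADNS of sub-CALL S90T2 (helper98; row S5990, `r = p = 2`).
-/

namespace Cfsg.Agent.Helper49.S90T2

open Module Matrix Cfsg Cfsg.Geo Cfsg.Agent.Helper98.ELP Cfsg.Agent.Helper98.S90T2
open scoped MatrixGroups

section elt

variable {n : Type} [Fintype n] [DecidableEq n] {F : Type*} [Field F]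

/-- BADNS [S]: entry `(inl (inl i), inl (inr j))` of `embM (siegM T)` is `(T - Tᵀ) i j`. -/
theorem bad_nonscalar (T : Matrix n n F) (h : T - Tᵀ ≠ 0) (z : F) :
    embM (siegM T) ≠ z • (1 : Matrix ((n ⊕ n) ⊕ Fin 2) ((n ⊕ n) ⊕ Fin 2) F) := by
  intro heq
  apply h
  ext i j
  have h1 := congrFun (congrFun heq (Sum.inl (Sum.inl i))) (Sum.inl (Sum.inr j))
  simpa [embM, siegM] using h1

end elt

end Cfsg.Agent.Helper49.S90T2
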