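import Mathlib
import Cfsg.Prelude.Def_GeometricClasses
import Cfsg.Prelude.Def_Classical
import Cfsg.Agent.Helper98.ELPDefs
import Cfsg.Agent.Helper98.S90T2Defs
import Cfsg.Agent.Helper47.ELPAPP
import Cfsg.Agent.Helper49.S90T2Aux

set_option autoImplicit false

/-!
helper49: piece BADSING of sub-CALL S90T2 (helper98; row S5990, `r = p = 2`).
-/

namespace Cfsg.Agent.Helper49.S90T2

open Module Matrix Cfsg Cfsg.Geo Cfsg.Agent.Helper98.ELP Cfsg.Agent.Helper98.S90T2
open scoped MatrixGroups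

section elt

variable {n : Type} [Fintype n] [DecidableEq n] {F : Type*} [Field F]

/-- BADSING [S]: `qm` vanishes on `subUm`; `(embM (siegM T) - 1) v ∈ subUm`. -/
theorem bad_sing (a b : F) (v : (n ⊕ n) ⊕ Fin 2 → F) (hv : v ∈ subUm n F) : qm n F a b v = 0 := by
  obtain ⟨h1, h2⟩ := (mem_subUm v).1 hv
  unfold qm
  rw [h2 0, h2 1]
  simp [h1]

theorem bad_range (T : Matrix n n F) (v : (n ⊕ n) ⊕ Fin 2 → F) :
    embM (siegM T) *ᵥ v - v ∈ subUm n F := by
  rw [mem_subUm]
  constructor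
  · intro j
    rw [Pi.sub_apply, embM_inl49, Cfsg.Agent.Helper47.ELP.siegM_mulVec_inr, sub_self]
  · intro k
    rw [Pi.sub_apply, embM_inr49, sub_self]

end elt

end Cfsg.Agent.Helper49.S90T2
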