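/-
Helper49 library: elements of order prime to `p` in `K ⊔ J`, `J` a `p`-group normalizing `K`.
Everything lives in `namespace Cfsg.Agent.Helper49`.
-/
import Cfsg.Agent.Helper49.AxB

set_option autoImplicit false

namespace Cfsg.Agent.Helper49

open Cfsg

variable {G : Type*} [Group G] {p : ℕ}

/-- If `J` is a `p`-group normalizing `K`, every element of `K ⊔ J` of order prime to `p` lies in `K`. -/
theorem mem_of_mem_sup_of_coprime {K J : Subgroup G} (hJ : IsPGroup p J)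
    (hJK : J ≤ Subgroup.normalizer (K : Set G)) {g : G} (hg : g ∈ K ⊔ J)
    (hcop : (orderOf g).Coprime p) : g ∈ K := by
  set N : Subgroup G := Subgroup.normalizer (K : Set G) with hN
  have hKN : K ≤ N := Subgroup.le_normalizer
  have hgN : g ∈ N := (sup_le hKN hJK) hg
  set φ := QuotientGroup.mk' (K.subgroupOf N) with hφ
  have h1 : (⟨g, hgN⟩ : ↥N) ∈ (K ⊔ J).subgroupOf N := Subgroup.mem_subgroupOf.mpr hg
  rw [Subgroup.subgroupOf_sup hKN hJK] at h1
  have h2 : φ ⟨g, hgN⟩ ∈ (K.subgroupOf N ⊔ J.subgroupOf N).map φ := Subgroup.mem_map_of_mem φ h1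
  rw [Subgroup.map_sup] at h2
  have h3 : (K.subgroupOf N).map φ = ⊥ := by
    rw [Subgroup.map_eq_bot_iff, hφ, QuotientGroup.ker_mk']
  rw [h3, bot_sup_eq] at h2
  have h4 : IsPGroup p ((J.subgroupOf N).map φ) := (hJ.comap_subtype).map φ
  obtain ⟨k, hk⟩ := pow_eq_one_of_mem_isPGroup h4 h2
  have h5 : φ ⟨g, hgN⟩ ^ orderOf g = 1 := by
    rw [← map_pow]
    have : (⟨g, hgN⟩ : ↥N) ^ orderOf g = 1 := Subtype.ext (by simp [pow_orderOf_eq_one])
    rw [this, map_one]
  have h6 : φ ⟨g, hgN⟩ = 1 := eq_one_of_pow_eq_one_of_coprime h5 hk hcop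
  have h7 : (⟨g, hgN⟩ : ↥N) ∈ K.subgroupOf N := by
    rw [← QuotientGroup.ker_mk' (K.subgroupOf N)]
    exact h6
  exact Subgroup.mem_subgroupOf.mp h7

end Cfsg.Agent.Helper49
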