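import Mathlib.GroupTheory.Sylow
import Cfsg.Prelude.Def_SylowControl

set_option autoImplicit false

namespace Cfsg.Agent.Helper49

open Cfsg

theorem mem_scr {G : Type*} [Group G] (g y : G) (X : Subgroup G) :
    y ∈ subgroupConjRight g X ↔ g * y * g⁻¹ ∈ X := by
  unfold subgroupConjRight
  rw [Subgroup.mem_map]
  constructor
  · rintro ⟨x, hx, rfl⟩
    have : g * (MulAut.conj g⁻¹).toMonoidHom x * g⁻¹ = x := by
      simp [MulAut.conj_apply]
      group
    rw [this]; exact hx
  · intro h
    refine ⟨g * y * g⁻¹, h, ?_⟩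
    simp [MulAut.conj_apply]
    group

theorem scr_one {G : Type*} [Group G] (X : Subgroup G) : subgroupConjRight 1 X = X := by
  ext y; rw [mem_scr]; simp

theorem scr_mul {G : Type*} [Group G] (g h : G) (X : Subgroup G) :
    subgroupConjRight (g * h) X = subgroupConjRight h (subgroupConjRight g X) := by
  ext y; rw [mem_scr, mem_scr, mem_scr]
  have : g * h * y * (g * h)⁻¹ = g * (h * y * h⁻¹) * g⁻¹ := by group
  rw [this]

theorem scr_inf {G : Type*} [Group G] (g : G) (X Y : Subgroup G) :
    subgroupConjRight g (X ⊓ Y) = subgroupConjRight g X ⊓ subgroupConjRight g Y := by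
  ext y; simp only [mem_scr, Subgroup.mem_inf]

theorem scr_mono {G : Type*} [Group G] (g : G) {X Y : Subgroup G} (h : X ≤ Y) :
    subgroupConjRight g X ≤ subgroupConjRight g Y := by
  intro y hy; rw [mem_scr] at hy ⊢; exact h hy

theorem scr_eq_self_of_mem {G : Type*} [Group G] {x : G} {X : Subgroup G} (hx : x ∈ X) :
    subgroupConjRight x X = X := by
  ext y; rw [mem_scr]
  constructor
  · intro h
    have : y = x⁻¹ * (x * y * x⁻¹) * x := by group
    rw [this]; exact X.mul_mem (X.mul_mem (X.inv_mem hx) h) hx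
  · intro h; exact X.mul_mem (X.mul_mem hx h) (X.inv_mem hx)

theorem scr_inv_scr {G : Type*} [Group G] (g : G) (X : Subgroup G) :
    subgroupConjRight g⁻¹ (subgroupConjRight g X) = X := by
  rw [← scr_mul, mul_inv_cancel, scr_one]

theorem scr_scr_inv {G : Type*} [Group G] (g : G) (X : Subgroup G) :
    subgroupConjRight g (subgroupConjRight g⁻¹ X) = X := by
  rw [← scr_mul, inv_mul_cancel, scr_one]

theorem mem_normalizer_of_scr_eq {G : Type*} [Group G] {k : G} {S : Subgroup G}
    (h : subgroupConjRight k S = S) : k ∈ Subgroup.normalizer (S : Set G) := by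
  rw [Subgroup.mem_normalizer_iff]
  intro s
  have h2 : subgroupConjRight k⁻¹ S = S := by
    conv_lhs => rw [← h]
    exact scr_inv_scr k S
  constructor
  · intro hs
    have : k * s * k⁻¹ ∈ subgroupConjRight k⁻¹ S := by
      rw [mem_scr]
      have e : k⁻¹ * (k * s * k⁻¹) * k⁻¹⁻¹ = s := by group
      rw [e]; exact hs
    rwa [h2] at this
  · intro hs
    have : s ∈ subgroupConjRight k S := by rw [mem_scr]; exact hs
    rwa [h] at this

theorem scr_eq_of_mem_normalizer {G : Type*} [Group G] {k : G} {S : Subgroup G}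
    (h : k ∈ Subgroup.normalizer (S : Set G)) : subgroupConjRight k S = S := by
  ext y; rw [mem_scr]
  rw [Subgroup.mem_normalizer_iff] at h
  exact (h y).symm

theorem coe_smul_sylow {G : Type*} [Group G] {p : ℕ} (g : G) (S : Sylow p G) :
    ((g • S : Sylow p G) : Subgroup G) = subgroupConjRight g⁻¹ (S : Subgroup G) := by
  ext y
  rw [Sylow.coe_subgroup_smul, mem_scr, Subgroup.mem_pointwise_smul_iff_inv_smul_mem]
  simp [MulAut.smul_def]

theorem mem_conjRight {G : Type*} [Group G] (g b : G) (A : Set G) :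
    b ∈ conjRight g A ↔ g * b * g⁻¹ ∈ A := by
  unfold conjRight
  constructor
  · rintro ⟨a, ha, rfl⟩
    have : g * (g⁻¹ * a * g) * g⁻¹ = a := by group
    rw [this]; exact ha
  · intro h
    exact ⟨g * b * g⁻¹, h, by group⟩

/-- `Q` is a Sylow `p`-subgroup of `X`. -/
def IsSylowIn {G : Type*} [Group G] (p : ℕ) (Q X : Subgroup G) : Prop :=
  Q ≤ X ∧ IsPGroup p ↥Q ∧ ¬ p ∣ Q.relIndex X

theorem exists_sylow_map_eq_iff {G : Type*} [Group G] [Finite G] (p : ℕ) [Fact p.Prime]
    (Q X : Subgroup G) :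
    (∃ P : Sylow p ↥X, (P : Subgroup ↥X).map X.subtype = Q) ↔ IsSylowIn p Q X := by
  constructor
  · rintro ⟨P, rfl⟩
    refine ⟨Subgroup.map_subtype_le _, P.isPGroup'.map _, ?_⟩
    rw [Subgroup.relIndex, Subgroup.subgroupOf,
      Subgroup.comap_map_eq_self_of_injective X.subtype_injective]
    exact P.not_dvd_index
  · rintro ⟨hle, hp, hnd⟩
    have hp' : IsPGroup p ↥(Q.subgroupOf X) := by
      exact hp.comap_of_injective (X.subtype) X.subtype_injective
    have hnd' : ¬ p ∣ (Q.subgroupOf X).index := hnd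
    refine ⟨hp'.toSylow hnd', ?_⟩
    rw [IsPGroup.toSylow_coe, Subgroup.subgroupOf_map_subtype]
    exact inf_eq_left.mpr hle

theorem mem_sylowMembers_iff {G : Type*} [Group G] [Finite G] (p : ℕ) [Fact p.Prime]
    (𝓕 : Set (Subgroup G)) (S X : Subgroup G) :
    X ∈ sylowMembers p 𝓕 S ↔ X ∈ 𝓕 ∧ IsSylowIn p (S ⊓ X) X := by
  unfold sylowMembers
  rw [Set.mem_ofPred_eq, exists_sylow_map_eq_iff]

theorem isSylowIn_scr {G : Type*} [Group G] {p : ℕ} {Q X : Subgroup G} (g : G)
    (h : IsSylowIn p Q X) : IsSylowIn p (subgroupConjRight g Q) (subgroupConjRight g X) := by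
  obtain ⟨hle, hp, hnd⟩ := h
  refine ⟨scr_mono g hle, hp.map _, ?_⟩
  unfold subgroupConjRight
  rw [Subgroup.relIndex_map_map_of_injective _ _ (MulAut.conj g⁻¹).injective]
  exact hnd

theorem sylowMembers_scr {G : Type*} [Group G] [Finite G] {p : ℕ} [Fact p.Prime]
    {𝓕 : Set (Subgroup G)} (h𝓕 : IsNormalSet 𝓕) {S X : Subgroup G} (g : G)
    (h : X ∈ sylowMembers p 𝓕 S) :
    subgroupConjRight g X ∈ sylowMembers p 𝓕 (subgroupConjRight g S) := by
  rw [mem_sylowMembers_iff] at h ⊢
  refine ⟨h𝓕 X h.1 g, ?_⟩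
  rw [← scr_inf]
  exact isSylowIn_scr g h.2

/-- Telescoping: if `y i = (v i)⁻¹ * v (i+1)` and `v 0 = 1` then the prefix products of `y` are `v`. -/
theorem prod_take_ofFn_telescope {G : Type*} [Group G] {n : ℕ} (v : ℕ → G) (y : Fin n → G)
    (hv0 : v 0 = 1) (hy : ∀ i : Fin n, y i = (v i.val)⁻¹ * v (i.val + 1)) :
    ∀ j : ℕ, j ≤ n → ((List.ofFn y).take j).prod = v j := by
  intro j
  induction j with
  | zero => intro _; simp [hv0]
  | succ j ih =>
    intro hj
    have hj' : j < (List.ofFn y).length := by simpa using hj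
    rw [List.prod_take_succ _ _ hj', ih (by omega), List.getElem_ofFn, hy ⟨j, by omega⟩]
    simp

theorem prod_take_ofFn_succ {G : Type*} [Group G] {n : ℕ} (y : Fin n → G) (i : Fin n) :
    ((List.ofFn y).take (i.val + 1)).prod = ((List.ofFn y).take i.val).prod * y i := by
  have hj' : i.val < (List.ofFn y).length := by simp
  rw [List.prod_take_succ _ _ hj', List.getElem_ofFn]

theorem prod_take_ofFn_all {G : Type*} [Group G] {n : ℕ} (y : Fin n → G) :
    ((List.ofFn y).take n).prod = (List.ofFn y).prod := by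
  rw [List.take_of_length_le (by simp)]

theorem fin_chain_induction {α : Type*} {n : ℕ} (c : Fin (n + 1) → α) (P : α → Prop)
    (h0 : P (c 0)) (hstep : ∀ i : Fin n, P (c i.castSucc) → P (c i.succ)) :
    ∀ i : Fin (n + 1), P (c i) := by
  intro i
  induction i using Fin.induction with
  | zero => exact h0
  | succ i ih => exact hstep i ih

/-- Reverse prefix products: `revProd x 0 = 1`, `revProd x (j+1) = x j * revProd x j`. -/
def revProd {G : Type*} [Group G] {n : ℕ} (x : Fin n → G) : ℕ → G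
  | 0 => 1
  | (j + 1) => (if hj : j < n then x ⟨j, hj⟩ else 1) * revProd x j

theorem revProd_zero {G : Type*} [Group G] {n : ℕ} (x : Fin n → G) : revProd x 0 = 1 := rfl

theorem revProd_succ {G : Type*} [Group G] {n : ℕ} (x : Fin n → G) (i : Fin n) :
    revProd x (i.val + 1) = x i * revProd x i.val := by
  show (if hj : i.val < n then x ⟨i.val, hj⟩ else 1) * revProd x i.val = x i * revProd x i.val
  rw [dif_pos i.isLt]

end Cfsg.Agent.Helper49
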